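/-
Conjugation of subsets by a subgroup: orbits and fixed points.

Main results (namespace `Cfsg.Agent.OrderM22`):
* `ncard_orbit_mul` : orbit-stabiliser for conjugation
* `card_dvd_of_free` : a set without fixed points has size a multiple of the order
* `ncard_modEq` : fixed points of an element of prime order
-/
import Cfsg.Agent.EqLemmas
import Cfsg.Agent.Lib.SmallOrders.Centralizer

set_option autoImplicit false

namespace Cfsg.Agent.OrderM22

open Subgroup

variable {G : Type*} [Group G]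

/-- The orbit of `t` under conjugation by `H`. -/
def orb (H : Subgroup G) (t : G) : Set G := {g | ∃ h ∈ H, h * t * h⁻¹ = g}

theorem mem_orb_self (H : Subgroup G) (t : G) : t ∈ orb H t := ⟨1, one_mem H, by group⟩

theorem orb_conj {H : Subgroup G} {t g c : G} (hc : c ∈ H) (hg : g ∈ orb H t) : c * g * c⁻¹ ∈ orb H t := by
  obtain ⟨h, hh, rfl⟩ := hg
  exact ⟨c * h, mul_mem hc hh, by group⟩

theorem ncard_orbit_mul (H : Subgroup G) (t : G) :
    (orb H t).ncard * Nat.card ↥(H ⊓ centralizer ({t} : Set G)) = Nat.card H := by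
  letI : MulAction H G := MulAction.compHom G (MulAut.conj.comp H.subtype)
  have hsmul : ∀ (c : H) (g : G), c • g = (c : G) * g * (c : G)⁻¹ := fun _ _ => rfl
  have h1 := MulAction.index_stabilizer (G := H) (x := t)
  have h2 : MulAction.orbit H t = orb H t := by
    ext g
    exact ⟨fun ⟨c, hc⟩ => ⟨c, c.2, hc⟩, fun ⟨c, hc, hg⟩ => ⟨⟨c, hc⟩, hg⟩⟩
  have h3 : MulAction.stabilizer H t = (H ⊓ centralizer ({t} : Set G)).subgroupOf H := by
    ext c
    rw [MulAction.mem_stabilizer_iff, hsmul, mem_subgroupOf, mem_inf, mem_centralizer_singleton_iff,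
      mul_inv_eq_iff_eq_mul]
    exact ⟨fun e => ⟨c.2, e⟩, fun e => e.2⟩
  rw [h2, h3] at h1
  rw [← h1, mul_comm, ← Nat.card_congr (subgroupOfEquivOfLe (inf_le_left : H ⊓ centralizer ({t} : Set G) ≤ H)).toEquiv]
  exact card_mul_index _

variable [Finite G]

theorem card_dvd_of_free (P : Subgroup G) (X : Set G) (hX : ∀ p ∈ P, ∀ m ∈ X, p * m * p⁻¹ ∈ X)
    (hfree : ∀ p ∈ P, ∀ m ∈ X, p * m * p⁻¹ = m → p = 1) : Nat.card P ∣ X.ncard := by
  induction hn : X.ncard using Nat.strong_induction_on generalizing X with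
  | _ n ih =>
    rcases X.eq_empty_or_nonempty with rfl | ⟨w, hw⟩
    · simp at hn; simp [← hn]
    have hO : orb P w ⊆ X := by rintro _ ⟨p, hp, rfl⟩; exact hX p hp w hw
    have hcard : (orb P w).ncard = Nat.card P := by
      have h := ncard_orbit_mul P w
      rw [show P ⊓ centralizer ({w} : Set G) = ⊥ from eq_bot_iff.mpr fun p hp => mem_bot.mpr (hfree p hp.1 w hw
        (by rw [mem_centralizer_singleton_iff.mp hp.2, mul_inv_cancel_right])), Subgroup.card_bot, mul_one] at h
      exact h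
    have hd := Set.ncard_sdiff hO
    have hle := Set.ncard_le_ncard hO
    have hlt : (X \ orb P w).ncard < n := by
      have : 0 < (orb P w).ncard := (Set.ncard_pos).mpr ⟨w, mem_orb_self P w⟩
      omega
    have hdvd := ih _ hlt (X \ orb P w) (fun p hp m hm => ⟨hX p hp m hm.1, fun hm' => hm.2 (by
        have := orb_conj (inv_mem hp) hm'
        rwa [show p⁻¹ * (p * m * p⁻¹) * p⁻¹⁻¹ = m by group] at this)⟩)
      (fun p hp m hm => hfree p hp m hm.1) rfl
    have e : n = (X \ orb P w).ncard + Nat.card P := by omega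
    rw [e]
    exact dvd_add hdvd dvd_rfl

/-- The number of fixed points of an element of prime order. -/
theorem ncard_modEq {p : ℕ} [hp : Fact p.Prime] {x : G} (hx : orderOf x = p) (M : Set G)
    (hM : ∀ m ∈ M, x * m * x⁻¹ ∈ M) :
    p ∣ M.ncard - {m ∈ M | Commute x m}.ncard := by
  have hsub : {m ∈ M | Commute x m} ⊆ M := fun m hm => hm.1
  rw [← Set.ncard_sdiff hsub, ← hx, ← Nat.card_zpowers]
  have hconj : ∀ (q : G), q ∈ zpowers x → ∀ m ∈ M, q * m * q⁻¹ ∈ M := by
    intro q hq m hm
    obtain ⟨k, rfl⟩ := mem_powers_iff_mem_zpowers.mpr hq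
    induction k with
    | zero => simpa using hm
    | succ k ih =>
      show x ^ (k + 1) * m * (x ^ (k + 1))⁻¹ ∈ M
      rw [show x ^ (k + 1) * m * (x ^ (k + 1))⁻¹ = x * (x ^ k * m * (x ^ k)⁻¹) * x⁻¹ by rw [pow_succ']; group]
      exact hM _ (ih (by exact pow_mem (mem_zpowers x) k))
  refine card_dvd_of_free _ _ (fun q hq m hm => ⟨hconj q hq m hm.1, fun hc => hm.2 ⟨hm.1, ?_⟩⟩) ?_
  · have hqx : Commute x q := by
      obtain ⟨k, rfl⟩ := hq
      exact (Commute.refl x).zpow_right k
    have h2 : Commute x (q⁻¹ * (q * m * q⁻¹) * q) := (hqx.inv_right.mul_right hc.2).mul_right hqx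
    rwa [show q⁻¹ * (q * m * q⁻¹) * q = m by group] at h2
  · intro q hq m hm e
    by_contra hne
    refine hm.2 ⟨hm.1, ?_⟩
    have hz : zpowers q = zpowers x := by
      refine eq_of_le_of_card_ge (zpowers_le.mpr hq) ?_
      rw [Nat.card_zpowers, Nat.card_zpowers, hx]
      have := Subgroup.orderOf_dvd_natCard _ hq
      rw [Nat.card_zpowers, hx] at this
      rcases hp.out.eq_one_or_self_of_dvd _ this with e1 | e1
      · exact absurd (orderOf_eq_one_iff.mp e1) hne
      · exact e1.ge
    obtain ⟨k, hk⟩ : x ∈ zpowers q := hz ▸ mem_zpowers x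
    rw [← hk]
    exact Commute.zpow_left (mul_inv_eq_iff_eq_mul.mp e) k

end Cfsg.Agent.OrderM22
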