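/-
Simple groups of order 443520 with the Sylow numbers of M22: local facts at the primes 5, 7, 11.

Main results (namespace `Cfsg.Agent.OrderM22`):
* `Hyp` : the hypothesis
* `Hyp.five`, `Hyp.seven`, `Hyp.eleven` : centralisers and normalisers
* `Hyp.centralizer_dvd` : other elements have centralisers of order dividing 1152
-/
import Cfsg.Agent.Lib.SmallOrders.Centralizer
import Cfsg.Agent.Lib.SmallOrders.Count

set_option autoImplicit false

namespace Cfsg.Agent.OrderM22

open Subgroup Cfsg.Agent.SmallOrders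

/-- The order and the data at the primes 5, 7 and 11. -/
structure Hyp (G : Type*) [Group G] : Prop where
  card : Nat.card G = 443520
  n5 : ∀ [Fact (Nat.Prime 5)], Nat.card (Sylow 5 G) = 22176
  n7 : ∀ [Fact (Nat.Prime 7)], Nat.card (Sylow 7 G) = 21120
  n11 : ∀ [Fact (Nat.Prime 11)], Nat.card (Sylow 11 G) = 8064
  c5 : ∀ z : G, orderOf z = 5 → Nat.card (centralizer ({z} : Set G)) = 5

/-- An element of odd order inverts only trivially. -/
theorem sq_eq_one_of_inverted {G : Type*} [Group G] {a x : G} {n : ℕ} (hn : Odd n) (ha : a ^ n = 1)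
    (h : a * x * a⁻¹ = x⁻¹) : x * x = 1 := by
  have h2 : Commute (a * a) x := by
    show a * a * x = x * (a * a)
    have h' : a * x⁻¹ * a⁻¹ = x := by rw [← conj_inv, h, inv_inv]
    calc a * a * x = a * (a * x * a⁻¹) * a := by group
      _ = (a * x⁻¹ * a⁻¹) * a * a := by rw [h]; group
      _ = x * (a * a) := by rw [h', mul_assoc]
  obtain ⟨k, rfl⟩ := hn
  have hc : Commute a x := by
    have e : a = (a * a) ^ (k + 1) := by
      calc a = a ^ (2 * k + 1) * a := by rw [ha, one_mul]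
        _ = (a * a) ^ (k + 1) := by rw [← pow_two, ← pow_mul, ← pow_succ]; ring_nf
    rw [e]; exact h2.pow_left _
  rw [hc.eq, mul_inv_cancel_right] at h
  exact mul_eq_one_iff_eq_inv.mpr h

variable {G : Type*} [Group G] [Finite G] [IsSimpleGroup G]

theorem Hyp.not_comm (h : Hyp G) : ¬ IsMulCommutative G :=
  not_isMulCommutative_of_card (by rw [h.card]; norm_num)

theorem exists_normalizer_data (h : Hyp G) {p n : ℕ} [Fact p.Prime]
    (hfac : ∃ m, 443520 = p ^ 1 * m ∧ ¬ p ∣ m)
    (hn : Nat.card (Sylow p G) = n) {x : G} (hx : orderOf x = p) :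
    ∃ j, 1 < j ∧ j ∣ p - 1 ∧ p ∣ Nat.card (centralizer ({x} : Set G)) ∧
      Nat.card (centralizer ({x} : Set G)) * j = Nat.card (normalizer (zpowers x : Set G)) ∧
      Nat.card (normalizer (zpowers x : Set G)) * n = 443520 := by
  obtain ⟨m, hm, hm'⟩ := hfac
  have hP : ∀ P : Sylow p G, Nat.card (P : Subgroup G) = p := fun P => by
    rw [card_sylow_subgroup (h.card.trans hm) hm' P, pow_one]
  obtain ⟨P, hPx⟩ := exists_sylow_eq_zpowers hP hx
  obtain ⟨j, h1, h2, h3, h4, -⟩ := exists_card_centralizer_mul h.not_comm hx P hPx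
  have h5 := card_normalizer_mul_card_sylow P
  rw [hn, h.card] at h5
  rw [hPx] at h3 h5
  exact ⟨j, h1, h2, h4, h3, h5⟩

theorem Hyp.five (h : Hyp G) {z : G} (hz : orderOf z = 5) :
    Nat.card (centralizer ({z} : Set G)) = 5 ∧ Nat.card (normalizer (zpowers z : Set G)) = 20 := by
  have : Fact (Nat.Prime 5) := ⟨by norm_num⟩
  obtain ⟨j, -, -, -, -, h5⟩ := exists_normalizer_data h ⟨88704, by norm_num, by norm_num⟩ h.n5 hz
  exact ⟨h.c5 z hz, by omega⟩

theorem Hyp.seven (h : Hyp G) {y : G} (hy : orderOf y = 7) :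
    Nat.card (centralizer ({y} : Set G)) = 7 ∧ Nat.card (normalizer (zpowers y : Set G)) = 21 := by
  have : Fact (Nat.Prime 7) := ⟨by norm_num⟩
  obtain ⟨j, h1, h2, h3, h4, h5⟩ := exists_normalizer_data h ⟨63360, by norm_num, by norm_num⟩ h.n7 hy
  have hN : Nat.card (normalizer (zpowers y : Set G)) = 21 := by omega
  obtain ⟨c, hc⟩ := h3
  rw [hc, hN] at h4
  have hj : j ≤ 6 := Nat.le_of_dvd (by norm_num) h2
  refine ⟨?_, hN⟩
  interval_cases j <;> omega

theorem Hyp.eleven (h : Hyp G) {x : G} (hx : orderOf x = 11) :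
    Nat.card (centralizer ({x} : Set G)) = 11 ∧ Nat.card (normalizer (zpowers x : Set G)) = 55 := by
  have : Fact (Nat.Prime 11) := ⟨by norm_num⟩
  obtain ⟨j, h1, h2, h3, h4, h5⟩ := exists_normalizer_data h ⟨40320, by norm_num, by norm_num⟩ h.n11 hx
  have hN : Nat.card (normalizer (zpowers x : Set G)) = 55 := by omega
  obtain ⟨c, hc⟩ := h3
  rw [hc, hN] at h4
  have hj : j ≤ 10 := Nat.le_of_dvd (by norm_num) h2
  refine ⟨?_, hN⟩
  interval_cases j <;> omega

theorem Hyp.centralizer_prime (h : Hyp G) {p : ℕ} (hp : p = 5 ∨ p = 7 ∨ p = 11) {x : G}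
    (hx : orderOf x = p) : Nat.card (centralizer ({x} : Set G)) = p := by
  rcases hp with rfl | rfl | rfl
  exacts [(h.five hx).1, (h.seven hx).1, (h.eleven hx).1]

/-- No element inverts an element of order 7 or 11. -/
theorem Hyp.not_inverted (h : Hyp G) {p : ℕ} (hp : p = 7 ∨ p = 11) {x a : G} (hx : orderOf x = p) :
    a * x * a⁻¹ ≠ x⁻¹ := by
  intro hax
  have hmem : a ∈ normalizer (zpowers x : Set G) := by
    rw [mem_normalizer_iff]
    intro g
    have e : ∀ k : ℤ, a * x ^ k * a⁻¹ = x ^ (-k) := fun k => by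
      rw [← conj_zpow, hax, inv_zpow, zpow_neg]
    refine ⟨fun hg => ?_, fun hg => ?_⟩
    · obtain ⟨k, rfl⟩ := hg
      exact ⟨-k, (e k).symm⟩
    · obtain ⟨k, hk⟩ := hg
      refine ⟨-k, ?_⟩
      show x ^ (-k) = g
      have hk' : x ^ k = a * g * a⁻¹ := hk
      have h2 := e (-k)
      rw [neg_neg, hk'] at h2
      exact mul_left_cancel (mul_right_cancel h2)
  obtain ⟨n, hn, hodd⟩ : ∃ n, Nat.card (normalizer (zpowers x : Set G)) = n ∧ Odd n := by
    rcases hp with rfl | rfl
    exacts [⟨_, (h.seven hx).2, by decide⟩, ⟨_, (h.eleven hx).2, by decide⟩]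
  have hn' : a ^ n = 1 :=
    orderOf_dvd_iff_pow_eq_one.mp (hn ▸ Subgroup.orderOf_dvd_natCard _ hmem)
  have h2 := sq_eq_one_of_inverted hodd hn' hax
  have := orderOf_dvd_of_pow_eq_one (show x ^ 2 = 1 by rw [pow_two, h2])
  have := Nat.le_of_dvd (by norm_num) this
  omega

theorem Hyp.orderOf_eq_of_dvd (h : Hyp G) {p : ℕ} (hp : p = 5 ∨ p = 7 ∨ p = 11) {g : G}
    (hg : p ∣ orderOf g) : orderOf g = p := by
  have hg0 : orderOf g ≠ 0 := (orderOf_pos g).ne'
  have hpow : orderOf (g ^ (orderOf g / p)) = p := by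
    rw [orderOf_pow' g (by
        intro e
        have := Nat.div_mul_cancel hg
        rw [e, zero_mul] at this; exact hg0 this.symm),
      Nat.gcd_eq_right (Nat.div_dvd_of_dvd hg), Nat.div_div_self hg hg0]
  have := orderOf_dvd_of_centralizer (h.centralizer_prime hp hpow) (Commute.self_pow g _).eq
  exact Nat.dvd_antisymm this hg

theorem Hyp.not_dvd_centralizer (h : Hyp G) {p : ℕ} (hp : p = 5 ∨ p = 7 ∨ p = 11) {g : G}
    (h1 : g ≠ 1) (hg : orderOf g ≠ p) : ¬ p ∣ Nat.card (centralizer ({g} : Set G)) := by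
  intro hd
  have hpp : p.Prime := by rcases hp with rfl | rfl | rfl <;> norm_num
  have := Fact.mk hpp
  obtain ⟨⟨b, hb⟩, hbo⟩ := exists_prime_orderOf_dvd_card' p hd
  rw [Subgroup.orderOf_mk] at hbo
  have := orderOf_dvd_of_centralizer (h.centralizer_prime hp hbo) (mem_centralizer_singleton_iff.mp hb).symm
  rcases hpp.eq_one_or_self_of_dvd _ this with e | e
  · exact h1 (orderOf_eq_one_iff.mp e)
  · exact hg e

theorem Hyp.centralizer_dvd (h : Hyp G) {g : G} (h1 : g ≠ 1) (h5 : orderOf g ≠ 5)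
    (h7 : orderOf g ≠ 7) (h11 : orderOf g ≠ 11) :
    Nat.card (centralizer ({g} : Set G)) ∣ 1152 := by
  have hd : Nat.card (centralizer ({g} : Set G)) ∣ 1152 * 385 :=
    (card_subgroup_dvd_card _).trans (dvd_of_eq (by rw [h.card]))
  have n5 := h.not_dvd_centralizer (Or.inl rfl) h1 h5
  have n7 := h.not_dvd_centralizer (Or.inr (Or.inl rfl)) h1 h7
  have n11 := h.not_dvd_centralizer (Or.inr (Or.inr rfl)) h1 h11
  have c5 : Nat.Coprime (Nat.card (centralizer ({g} : Set G))) 5 :=
    ((show Nat.Prime 5 by norm_num).coprime_iff_not_dvd.mpr n5).symm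
  have c7 : Nat.Coprime (Nat.card (centralizer ({g} : Set G))) 7 :=
    ((show Nat.Prime 7 by norm_num).coprime_iff_not_dvd.mpr n7).symm
  have c11 : Nat.Coprime (Nat.card (centralizer ({g} : Set G))) 11 :=
    ((show Nat.Prime 11 by norm_num).coprime_iff_not_dvd.mpr n11).symm
  exact ((c5.mul_right c7).mul_right c11).dvd_of_dvd_mul_right hd

end Cfsg.Agent.OrderM22
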