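/-
The column of a self-centralising element of prime order, through the degrees.

Main results (namespace `Cfsg.Agent.OrderM22`):
* `Col` : classification of the characters by the degree residue, and the weighted column
* `exists_col` : the data from the principal block
* `Col.rel`, `Col.pairs` : the relation at regular elements and the pair count
-/
import Cfsg.Agent.Lib.SmallOrders.BlockDegrees.BlockData
import Cfsg.Agent.Lib.Char.ClassMult
import Cfsg.Agent.Lib.GaloisAvg.PElement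

set_option autoImplicit false

open scoped ComplexConjugate

namespace Cfsg.Agent.OrderM22

open Cfsg Cfsg.Agent.Blocks Cfsg.Agent.CyclicDefect Cfsg.Agent.SmallOrders
open Cfsg.Agent.SmallOrders.BlockDegrees (exists_blockData oneChar)

variable {G : Type*} [Group G] [Finite G]

/-- The degree. -/
noncomputable abbrev dg (χ : IrrCharacter G) : ℕ := charDegree (χ : G → ℂ)

/-- The block data of a self-centralising `x`, in terms of degrees: `F` the signs `±1`, `E` the
exceptional characters, and a weight `w` proportional to the value at `x`. -/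
structure Col (p e : ℕ) (a : ℤ) (w : ℕ → ℤ) (x : G) (F E : Finset (IrrCharacter G)) : Prop where
  disj : Disjoint F E
  cardF : F.card = e
  cardE : E.card = (p - 1) / e
  one : oneChar G ∈ F
  degF : ∀ χ ∈ F, (dg χ : ℤ) % p = 1 ∨ -(dg χ : ℤ) % p = 1
  degE : ∀ χ ∈ E, (dg χ : ℤ) % p = (e : ℤ) % p ∨ -(dg χ : ℤ) % p = (e : ℤ) % p
  other : ∀ χ, χ ∉ F → χ ∉ E → p ∣ dg χ
  eqE : ∀ χ ∈ E, ∀ ψ ∈ E, ∀ g : G, ¬ p ∣ orderOf g → (χ : G → ℂ) g = (ψ : G → ℂ) g
  weighted : ∀ [Fintype (IrrCharacter G)], ∀ φ : IrrCharacter G → ℂ,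
    (∀ χ ∈ E, ∀ ψ ∈ E, φ χ = φ ψ) →
      (a : ℂ) * ∑ χ, φ χ * conj ((χ : G → ℂ) x) = ∑ χ, (w (dg χ) : ℂ) * φ χ

theorem exists_col [IsSimpleGroup G] (hG : ¬ IsMulCommutative G) {p e : ℕ} [Fact p.Prime]
    (hodd : p ≠ 2) {x : G} (hx : orderOf x = p) (hsq : ¬ p ^ 2 ∣ Nat.card G)
    (hC : Nat.card (Subgroup.centralizer ({x} : Set G)) = p)
    (hN : Nat.card (Subgroup.normalizer (Subgroup.zpowers x : Set G)) = p * e)
    {a b : ℤ} {w : ℕ → ℤ} (hab : a = b * (((p - 1) / e : ℕ) : ℤ))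
    (h0 : ∀ d, p ∣ d → w d = 0) (h1 : ∀ d : ℕ, (d : ℤ) % p = 1 → w d = a)
    (h2 : ∀ d : ℕ, -(d : ℤ) % p = 1 → w d = -a)
    (h3 : ∀ d : ℕ, (d : ℤ) % p = (e : ℤ) % p → w d = -b)
    (h4 : ∀ d : ℕ, -(d : ℤ) % p = (e : ℤ) % p → w d = b) :
    ∃ F E : Finset (IrrCharacter G), Col p e a w x F E := by
  classical
  obtain ⟨L, A, E, σ, ε, hS, hcK, hD⟩ :=
    exists_blockData hG (c := 1) (e := e) (lo := 2) hodd hx hsq (by rw [hC, mul_one])
      (by rw [hN, mul_one]) (Or.inl le_rfl)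
  have hsub : Subsingleton (K x L) := (Nat.card_eq_one_iff_unique.mp hcK).1
  have := Fintype.ofFinite (K x L)
  have hxk : ∀ k : K x L, x * ((k : L) : G) = x := fun k => by
    rw [Subsingleton.elim k 1]; simp
  have hsumK : ∀ f : K x L → ℂ, ∑ k, f k = f 1 := fun f =>
    Fintype.sum_subsingleton f 1
  have hp : p.Prime := Fact.out
  have hone1 : (oneChar G : G → ℂ) x = 1 := rfl
  have hd1 : dg (oneChar G) = 1 := by simp [dg, charDegree, oneChar]
  have hxA : ∀ χ ∈ A, (χ : G → ℂ) x = σ χ := fun χ hχ => by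
    have := hD.valA χ hχ 1; rwa [hxk] at this
  have hxE : ∑ χ ∈ E, (χ : G → ℂ) x = -(ε : ℂ) := by
    have := hD.valE 1; simpa only [hxk] using this
  have hxO : ∀ χ, χ ≠ oneChar G → χ ∉ A → χ ∉ E → (χ : G → ℂ) x = 0 := fun χ e1 e2 e3 => by
    have := hD.other χ e1 e2 e3
    rwa [hsumK, hxk] at this
  have heq : ∀ χ ∈ E, ∀ ψ ∈ E, ∀ g : G, ¬ p ∣ orderOf g → (χ : G → ℂ) g = (ψ : G → ℂ) g := by
    intro χ hχ ψ hψ g hg
    have e1 := (hD.rel g hg χ hχ).trans (hD.rel g hg ψ hψ).symm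
    have hε : (ε : ℂ) ≠ 0 := by rcases hD.signE with h | h <;> simp [h]
    exact mul_left_cancel₀ hε e1
  have hdisj : Disjoint (insert (oneChar G) A) E :=
    Finset.disjoint_insert_left.mpr ⟨hD.one_notE, hD.disj⟩
  refine ⟨insert (oneChar G) A, E, hdisj, ?_, hD.cardE, Finset.mem_insert_self _ _, ?_, ?_, ?_, heq, ?_⟩
  · rw [Finset.card_insert_of_notMem hD.one_notA, hD.cardA]
  · intro χ hχ
    rcases Finset.mem_insert.mp hχ with rfl | hχ
    · left; rw [hd1]; exact Int.emod_eq_of_lt (by norm_num) (by exact_mod_cast hp.one_lt)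
    · rcases hD.sign χ hχ with h | h
      · left; have := (hD.degA χ hχ).2; rwa [h, one_mul] at this
      · right; have := (hD.degA χ hχ).2; rwa [h, neg_one_mul] at this
  · intro χ hχ
    rcases hD.signE with h | h
    · left; have := (hD.degE χ hχ).2; rwa [h, one_mul] at this
    · right; have := (hD.degE χ hχ).2; rwa [h, neg_one_mul] at this
  · intro χ hF hE
    rw [Finset.mem_insert, not_or] at hF
    exact GaloisAvg.dvd_degree_of_apply_eq_zero (k := 1) (g := x)
      (Char.IsIrrCharacter.isCharacter χ.2) (by rw [pow_one, ← hx, pow_orderOf_eq_one])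
      (charDegree_cast χ).symm (hxO χ hF.1 hF.2 hE)
  · intro _ φ hφ
    set S := insert (oneChar G) A ∪ E with hSdef
    have hz : ∀ χ ∉ S, (χ : G → ℂ) x = 0 := fun χ hχ => by
      rw [hSdef, Finset.mem_union, Finset.mem_insert] at hχ
      push Not at hχ
      exact hxO χ hχ.1.1 hχ.1.2 hχ.2
    have hw0 : ∀ χ ∉ S, w (dg χ) = 0 := fun χ hχ => h0 _ <|
      GaloisAvg.dvd_degree_of_apply_eq_zero (k := 1) (g := x)
        (Char.IsIrrCharacter.isCharacter χ.2) (by rw [pow_one, ← hx, pow_orderOf_eq_one])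
        (charDegree_cast χ).symm (hz χ hχ)
    rw [← Finset.sum_subset (Finset.subset_univ S) (fun χ _ hχ => by rw [hz χ hχ, map_zero, mul_zero]),
      ← Finset.sum_subset (Finset.subset_univ S) (fun χ _ hχ => by rw [hw0 χ hχ, Int.cast_zero, zero_mul]),
      hSdef, Finset.sum_union hdisj, Finset.sum_union hdisj, mul_add, Finset.mul_sum, Finset.mul_sum]
    congr 1
    · refine Finset.sum_congr rfl fun χ hχ => ?_
      rcases Finset.mem_insert.mp hχ with rfl | hχ
      · rw [hone1, h1 _ (by rw [hd1]; exact Int.emod_eq_of_lt (by norm_num) (by exact_mod_cast hp.one_lt))]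
        simp
      · rw [hxA χ hχ, map_intCast]
        have hd := (hD.degA χ hχ).2
        rcases hD.sign χ hχ with h | h <;> rw [h] at hd ⊢
        · rw [one_mul] at hd; rw [h1 _ hd]; push_cast; ring
        · rw [neg_one_mul] at hd; rw [h2 _ hd]; push_cast; ring
    · obtain ⟨χe, hχe⟩ := hD.nonempty
      have hwE : ∀ χ ∈ E, w (dg χ) = -ε * b := fun χ hχ => by
        have hd := (hD.degE χ hχ).2
        rcases hD.signE with h | h <;> rw [h] at hd ⊢
        · rw [one_mul] at hd; rw [h3 _ hd]; ring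
        · rw [neg_one_mul] at hd; rw [h4 _ hd]; ring
      rw [← Finset.mul_sum, Finset.sum_congr rfl (fun χ hχ => by rw [hφ χ hχ χe hχe]),
        ← Finset.mul_sum, ← map_sum, hxE,
        Finset.sum_congr rfl (s₁ := E) (g := fun _ => ((-ε * b : ℤ) : ℂ) * φ χe)
          (fun χ hχ => by rw [hwE χ hχ, hφ χ hχ χe hχe]),
        Finset.sum_const, hD.cardE, nsmul_eq_mul, hab, map_neg, map_intCast]
      generalize (p - 1) / e = n
      push_cast
      ring

/-- The relation between the values at a regular element not conjugate to `x`. -/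
theorem Col.rel [Fintype (IrrCharacter G)] {p e : ℕ} {a : ℤ} {w : ℕ → ℤ} {x g : G}
    {F E : Finset (IrrCharacter G)} (h : Col p e a w x F E) (hg : ¬ p ∣ orderOf g)
    (hgx : ¬ IsConj g x) : ∑ χ : IrrCharacter G, (w (dg χ) : ℂ) * (χ : G → ℂ) g = 0 := by
  classical
  rw [← h.weighted (fun χ => (χ : G → ℂ) g) fun χ hχ ψ hψ => h.eqE χ hχ ψ hψ g hg]
  rw [Char.column_orth, if_neg hgx, mul_zero]

/-- The number of pairs of conjugates of `t` with product `x`. -/
theorem Col.pairs [Fintype (IrrCharacter G)] {p e : ℕ} {a : ℤ} {w : ℕ → ℤ} {x t : G}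
    {F E : Finset (IrrCharacter G)} (h : Col p e a w x F E) (ht : ¬ p ∣ orderOf t) :
    (a : ℂ) * (Nat.card {q : G × G // IsConj t q.1 ∧ IsConj t q.2 ∧ q.1 * q.2 = x} : ℂ) *
        (Nat.card (Subgroup.centralizer ({t} : Set G)) : ℂ) ^ 2 =
      (Nat.card G : ℂ) * ∑ χ : IrrCharacter G,
        (w (dg χ) : ℂ) * ((χ : G → ℂ) t * (χ : G → ℂ) t / (dg χ : ℂ)) := by
  classical
  have h1 : ¬ p ∣ orderOf (1 : G) ∨ p = 1 := by
    by_cases hp : p = 1
    · exact Or.inr hp
    · exact Or.inl (by simpa using hp)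
  rw [← h.weighted (fun χ => (χ : G → ℂ) t * (χ : G → ℂ) t / (dg χ : ℂ)) fun χ hχ ψ hψ => by
    rcases h1 with h1 | h1
    · have e1 := h.eqE χ hχ ψ hψ 1 h1
      rw [← charDegree_cast χ, ← charDegree_cast ψ] at e1
      simp only [h.eqE χ hχ ψ hψ t ht, dg, e1]
    · exact absurd ht (by rw [h1]; simp)]
  rw [Char.class_mult_formula t t x]
  have hm := Char.card_conjugates_mul_card_centralizer t
  set C := Nat.card (Subgroup.centralizer ({t} : Set G))
  set m := Nat.card {g : G // IsConj t g}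
  have hmC : (m : ℂ) * (C : ℂ) = (Nat.card G : ℂ) := by exact_mod_cast hm
  have hg0 : (Nat.card G : ℂ) ≠ 0 := Nat.cast_ne_zero.mpr Nat.card_pos.ne'
  rw [← hmC] at hg0 ⊢
  have hC0 := right_ne_zero_of_mul hg0
  have hsum : ∀ χ : IrrCharacter G, (χ : G → ℂ) t * (χ : G → ℂ) t * conj ((χ : G → ℂ) x) / (χ : G → ℂ) 1 =
      (χ : G → ℂ) t * (χ : G → ℂ) t / (dg χ : ℂ) * conj ((χ : G → ℂ) x) := fun χ => by
    rw [← charDegree_cast χ]; ring
  rw [Finset.sum_congr rfl fun χ _ => hsum χ]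
  field_simp

end Cfsg.Agent.OrderM22
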