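/-
The arithmetic of the degrees in a simple group of order 443520.

Main results (namespace `Cfsg.Agent.OrderM22`):
* `w5`, `w7`, `w11` : the weights
* `seven_check` : the degrees in the principal 7-block
* `DegFacts`, `DegFacts.cases` : two possible multisets of degrees
-/
import Mathlib
import Cfsg.Agent.EqLemmas

set_option autoImplicit false
set_option maxRecDepth 10000

namespace Cfsg.Agent.OrderM22

/-- Weight at an element of order 5. -/
def w5 (d : ℕ) : ℤ := if d % 5 = 1 then 1 else if d % 5 = 4 then -1 else 0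

/-- Weight at an element of order 7. -/
def w7 (d : ℕ) : ℤ :=
  if d % 7 = 1 then 2 else if d % 7 = 6 then -2 else if d % 7 = 3 then -1 else if d % 7 = 4 then 1 else 0

/-- Weight at an element of order 11. -/
def w11 (d : ℕ) : ℤ :=
  if d % 11 = 1 then 2 else if d % 11 = 10 then -2 else if d % 11 = 5 then -1 else if d % 11 = 6 then 1
  else 0

/-- The residues allowed by the three columns. -/
def Allowed (d : ℕ) : Prop :=
  (d % 5 = 0 ∨ d % 5 = 1 ∨ d % 5 = 4) ∧
  (d % 7 = 0 ∨ d % 7 = 1 ∨ d % 7 = 3 ∨ d % 7 = 4 ∨ d % 7 = 6) ∧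
  (d % 11 = 0 ∨ d % 11 = 1 ∨ d % 11 = 5 ∨ d % 11 = 6 ∨ d % 11 = 10)

instance : DecidablePred Allowed := fun d => by unfold Allowed; infer_instance

/-- The possible degrees. -/
def degList : List ℕ := [1, 6, 10, 11, 21, 45, 55, 56, 60, 66, 99, 105, 120, 126, 144, 154, 160, 165, 176,
  210, 220, 231, 280, 330, 336, 384, 385, 396, 440, 560, 616]

theorem degList_check : ∀ d < 666, d ∣ 443520 → Allowed d → d ∈ degList := by decide +kernel

theorem mem_degList {d : ℕ} (h1 : d ∣ 443520) (h2 : Allowed d) (h3 : d ^ 2 ≤ 443520) : d ∈ degList :=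
  degList_check d (by nlinarith) h1 h2

/-- The candidates for a signed degree and value in the 7-block. -/
def cand7 : List ℤ := [-6, -55, 99, 120, -160, 176, 330, -384, -440]

theorem mem_cand7 {d : ℕ} (h : d ∈ degList) (h1 : d ≠ 1) {A : ℤ} (hA : A.natAbs = d)
    (h7 : A % 7 = 1) : A ∈ cand7 := by
  have key : ∀ d ∈ degList, d ≠ 1 → ((d : ℤ) % 7 = 1 → (d : ℤ) ∈ cand7) ∧
      (-(d : ℤ) % 7 = 1 → -(d : ℤ) ∈ cand7) := by decide +kernel
  rcases Int.natAbs_eq A with e | e <;> rw [hA] at e <;> subst e
  exacts [(key d h h1).1 h7, (key d h h1).2 h7]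

/-- Values at an involution compatible with a signed degree. -/
def vals (A : ℤ) : List ℤ :=
  (((List.range 67).map fun k : ℕ => (k : ℤ) - 33).filter fun u =>
    decide ((A - u) % 4 = 0) && decide (u.natAbs < A.natAbs))

theorem mem_vals {A u : ℤ} (h1 : (A - u) % 4 = 0) (h2 : u.natAbs < A.natAbs) (h3 : u.natAbs ≤ 33) :
    u ∈ vals A := by
  refine List.mem_filter.mpr ⟨List.mem_map.mpr ⟨(u + 33).toNat, List.mem_range.mpr (by omega), by omega⟩, ?_⟩
  simp [h1, h2]

/-- The signed equations of the 7-block at an involution. -/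
def sevenOk (A B ua ub : ℤ) : Bool :=
  decide ((1 + A + B).natAbs ∈ degList) && decide ((1 + A + B) % 7 = 3) &&
  decide ((1 + A + B - (1 + ua + ub)) % 4 = 0) &&
  decide ((1 + ua + ub).natAbs < (1 + A + B).natAbs) &&
  decide (A * B * (1 + A + B) + ua ^ 2 * B * (1 + A + B) + ub ^ 2 * A * (1 + A + B) -
    (1 + ua + ub) ^ 2 * A * B = 0)

theorem seven_check : cand7.all (fun A => cand7.all fun B =>
    ([(-55, 99), (99, -55), (-55, 120), (120, -55)] : List (ℤ × ℤ)).contains (A, B) ||
      !(decide ((1 + A + B).natAbs ∈ degList) && decide ((1 + A + B) % 7 = 3)) ||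
      (vals A).all fun ua => (vals B).all fun ub => !sevenOk A B ua ub) = true := by
  decide +kernel

theorem seven_cases {A B ua ub : ℤ} (hA : A ∈ cand7) (hB : B ∈ cand7) (ha : ua ∈ vals A)
    (hb : ub ∈ vals B) (hok : sevenOk A B ua ub = true) :
    (A = -55 ∧ (B = 99 ∨ B = 120)) ∨ (B = -55 ∧ (A = 99 ∨ A = 120)) := by
  have h := List.all_eq_true.mp (List.all_eq_true.mp seven_check A hA) B hB
  simp only [Bool.or_eq_true, Bool.not_eq_true', List.all_eq_true, List.contains_iff_mem] at h
  rcases h with (h | h) | h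
  · simp at h; omega
  · simp only [sevenOk, Bool.and_eq_true] at hok
    rw [Bool.and_eq_false_iff] at h
    rcases h with h | h <;> simp_all
  · rw [h ua ha ub hb] at hok
    exact Bool.noConfusion hok

/-- What the columns say about the multiset of degrees. -/
structure DegFacts (M : Multiset ℕ) : Prop where
  mem : ∀ d ∈ M, d ∈ degList
  squares : (M.map fun d => d ^ 2).sum = 443520
  card5 : (M.filter fun d => d % 5 = 1 ∨ d % 5 = 4).card = 5
  card11 : (M.filter fun d => d % 11 = 1 ∨ d % 11 = 10).card = 5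
  exc11 : ∃ Y, (M.filter fun d => d % 11 = 5 ∨ d % 11 = 6) = {Y, Y}
  sum5 : (M.map fun d => w5 d * (d : ℤ)).sum = 0
  sum11 : (M.map fun d => w11 d * (d : ℤ)).sum = 0
  seven : (M.filter fun d => ¬ 7 ∣ d) = {1, 55, 99, 45, 45} ∨ (M.filter fun d => ¬ 7 ∣ d) = {1, 55, 120, 66, 66}

/-- The degrees divisible by 7. -/
def deg7 : List ℕ := [21, 56, 105, 126, 154, 210, 231, 280, 336, 385, 560, 616]

theorem mem_deg7 : ∀ d ∈ degList, 7 ∣ d → d ∈ deg7 := by decide +kernel

/-- The candidates in the other two blocks. -/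
def list11 : List ℕ := deg7.filter fun d => decide (d % 11 = 1 ∨ d % 11 = 10)
/-- The exceptional candidates at 11. -/
def exList : List ℕ := deg7.filter fun d => decide (d % 11 = 5 ∨ d % 11 = 6)
/-- The candidates at 5. -/
def list5 : List ℕ := deg7.filter fun d => decide (d % 5 = 1 ∨ d % 5 = 4)

/-- Signed degree sums. -/
def sw (w : ℕ → ℤ) (l : List ℕ) : ℤ := (l.map fun d => w d * (d : ℤ)).sum

theorem joint45_check : list11.all (fun g => list11.all fun h => exList.all fun Y =>
    decide (sw w11 [1, 45, 45, g, h, Y, Y] ≠ 0) || list5.all fun a => list5.all fun b => list5.all fun c =>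
      decide (sw w5 [1, 99, a, b, c] ≠ 0) ||
      !decide ((Multiset.ofList [g, h, Y, Y]).filter (fun d => ¬ 5 ∣ d) =
        (Multiset.ofList [a, b, c]).filter fun d => ¬ 11 ∣ d) ||
      (decide (Y = 280) && decide (Multiset.ofList [g, h] = {21, 210}) &&
        decide (Multiset.ofList [a, b, c] = {21, 154, 231}))) = true := by
  decide +kernel

theorem joint66_check : list11.all (fun g => list11.all fun h => list11.all fun k => exList.all fun Y =>
    decide (sw w11 [1, 120, g, h, k, Y, Y] ≠ 0) || list5.all fun a => list5.all fun b =>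
      decide (sw w5 [1, 66, 66, a, b] ≠ 0) ||
      !decide ((Multiset.ofList [g, h, k, Y, Y]).filter (fun d => ¬ 5 ∣ d) =
        (Multiset.ofList [a, b]).filter fun d => ¬ 11 ∣ d) ||
      (decide (Y = 280) && decide (Multiset.ofList [g, h, k] = {21, 210, 210}) &&
        decide (Multiset.ofList [a, b] = {21, 154}))) = true := by
  decide +kernel

theorem rest_cases : ∀ d ∈ deg7,
    (¬ 11 ∣ d ∧ (d % 11 = 1 ∨ d % 11 = 10 ∨ d % 11 = 5 ∨ d % 11 = 6)) ∨
      (11 ∣ d ∧ ¬ 5 ∣ d ∧ (d % 5 = 1 ∨ d % 5 = 4)) ∨ (d = 385) := by decide +kernel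

theorem deg_cases : ∀ d ∈ degList, (¬ 5 ∣ d → d % 5 = 1 ∨ d % 5 = 4) ∧
    (¬ 11 ∣ d → (d % 11 = 1 ∨ d % 11 = 10) ∨ (d % 11 = 5 ∨ d % 11 = 6)) := by decide +kernel

theorem filter_eq_of_iff {M : Multiset ℕ} {p q : ℕ → Prop} [DecidablePred p] [DecidablePred q]
    (h : ∀ d ∈ M, (p d ↔ q d)) : M.filter p = M.filter q :=
  Multiset.filter_congr h

theorem map_filter_of_zero {M : Multiset ℕ} {w : ℕ → ℤ} {q : ℕ → Prop} [DecidablePred q]
    (h : ∀ d ∈ M, ¬ q d → w d = 0) :
    ((M.filter q).map fun d => w d * (d : ℤ)).sum = (M.map fun d => w d * (d : ℤ)).sum := by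
  conv_rhs => rw [← Multiset.filter_add_not q M]
  rw [Multiset.map_add, Multiset.sum_add]
  have : (((M.filter fun d => ¬ q d).map fun d => w d * (d : ℤ))).sum = 0 :=
    Multiset.sum_eq_zero fun x hx => by
      obtain ⟨d, hd, rfl⟩ := Multiset.mem_map.mp hx
      obtain ⟨hd, hnq⟩ := Multiset.mem_filter.mp hd
      rw [h d hd hnq, zero_mul]
  rw [this, add_zero]

theorem coe_swap {M : Multiset ℕ} {w : ℕ → ℤ} (l : List ℕ) (h : M = ↑l) :
    (M.map fun d => w d * (d : ℤ)).sum = sw w l := by rw [h]; rfl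

/-- The two possible multisets of degrees. -/
def degs45 : List ℕ := [1, 21, 45, 45, 55, 99, 154, 210, 231, 280, 280, 385]
/-- The second possibility. -/
def degs66 : List ℕ := [1, 21, 55, 66, 66, 120, 154, 210, 210, 280, 280, 385]

theorem DegFacts.cases {M : Multiset ℕ} (h : DegFacts M) : M = ↑degs45 ∨ M = ↑degs66 := by
  obtain ⟨R, hR⟩ : ∃ R, R = M.filter fun d => 7 ∣ d := ⟨_, rfl⟩
  have hsplit : M = R + M.filter fun d => ¬ 7 ∣ d := hR ▸ (Multiset.filter_add_not _ M).symm
  have hRM : ∀ d ∈ R, d ∈ M := fun d hd => (Multiset.mem_filter.mp (hR ▸ hd)).1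
  have hRmem : ∀ d ∈ R, d ∈ deg7 := fun d hd =>
    mem_deg7 d (h.mem d (hRM d hd)) (Multiset.mem_filter.mp (hR ▸ hd)).2
  obtain ⟨Y, hY⟩ := h.exc11
  set P := fun d : ℕ => d % 11 = 1 ∨ d % 11 = 10 with hP
  set Q := fun d : ℕ => d % 11 = 5 ∨ d % 11 = 6 with hQ
  set U := fun d : ℕ => d % 5 = 1 ∨ d % 5 = 4 with hU
  -- the sums over the filters
  have s11 : ((M.filter P + M.filter Q).map fun d => w11 d * (d : ℤ)).sum = 0 := by
    have e : M.filter P + M.filter Q = M.filter fun d => ¬ 11 ∣ d := by
      rw [← Multiset.filter_add_not P (M.filter fun d => ¬ 11 ∣ d), Multiset.filter_filter,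
        Multiset.filter_filter]
      congr 1 <;> refine Multiset.filter_congr fun d hd => ?_
      · simp only [hP]; constructor <;> intro hx <;> omega
      · have := (deg_cases d (h.mem d hd)).2
        simp only [hP, hQ] at *; constructor <;> intro hx <;> omega
    rw [e, map_filter_of_zero (fun d _ hd => by simp only [w11]; split_ifs <;> omega)]
    exact h.sum11
  have s5 : ((M.filter U).map fun d => w5 d * (d : ℤ)).sum = 0 := by
    rw [map_filter_of_zero (fun d _ hd => by simp only [w5, hU] at *; split_ifs <;> omega)]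
    exact h.sum5
  have c11 := h.card11
  have c5 := h.card5
  have hsq := h.squares
  -- the last part
  have hlast : ∀ d ∈ R, (11 ∣ d ∧ 5 ∣ d) → d = 385 := fun d hd hx => by
    rcases rest_cases d (hRmem d hd) with h1 | h1 | h1
    · exact absurd hx.1 h1.1
    · exact absurd hx.2 h1.2.1
    · exact h1
  have hRsplit : R = (R.filter P + R.filter Q) + R.filter (fun d => 11 ∣ d ∧ ¬ 5 ∣ d) +
      Multiset.replicate (R.filter fun d => 11 ∣ d ∧ 5 ∣ d).card 385 := by
    rw [← Multiset.eq_replicate_card.mpr fun d hd => hlast d (Multiset.mem_filter.mp hd).1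
      (Multiset.mem_filter.mp hd).2]
    conv_lhs => rw [← Multiset.filter_add_not (fun d => 11 ∣ d) R]
    rw [← Multiset.filter_add_not (fun d => 5 ∣ d) (R.filter fun d => 11 ∣ d), Multiset.filter_filter,
      Multiset.filter_filter, ← Multiset.filter_add_not P (R.filter fun d => ¬ 11 ∣ d),
      Multiset.filter_filter, Multiset.filter_filter]
    have e1 : R.filter (fun d => P d ∧ ¬ 11 ∣ d) = R.filter P :=
      Multiset.filter_congr fun d _ => by simp only [hP]; constructor <;> intro hx <;> omega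
    have e2 : R.filter (fun d => ¬ P d ∧ ¬ 11 ∣ d) = R.filter Q :=
      Multiset.filter_congr fun d hd => by
        have := (deg_cases d (h.mem d (hRM d hd))).2
        simp only [hP, hQ] at *; constructor <;> intro hx <;> omega
    have e3 : R.filter (fun d => 5 ∣ d ∧ 11 ∣ d) = R.filter fun d => 11 ∣ d ∧ 5 ∣ d :=
      Multiset.filter_congr fun d _ => and_comm
    have e4 : R.filter (fun d => ¬ 5 ∣ d ∧ 11 ∣ d) = R.filter fun d => 11 ∣ d ∧ ¬ 5 ∣ d :=
      Multiset.filter_congr fun d _ => and_comm
    rw [e1, e2, e3, e4]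
    abel
  set n := (R.filter fun d => 11 ∣ d ∧ 5 ∣ d).card
  have hF : ∀ (q : ℕ → Prop) [DecidablePred q],
      M.filter q = R.filter q + (M.filter fun d => ¬ 7 ∣ d).filter q := fun q _ => by
    rw [← Multiset.filter_add, ← hsplit]
  -- consistency of the two blocks
  have hcons : (R.filter P + R.filter Q).filter (fun d => ¬ 5 ∣ d) = (R.filter U).filter fun d => ¬ 11 ∣ d := by
    rw [Multiset.filter_add, Multiset.filter_filter, Multiset.filter_filter, Multiset.filter_filter,
      ← Multiset.filter_add_not P (R.filter fun d => ¬ 11 ∣ d ∧ U d), Multiset.filter_filter,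
      Multiset.filter_filter]
    congr 1 <;> refine Multiset.filter_congr fun d hd => ?_ <;>
      obtain ⟨g1, g2⟩ := deg_cases d (h.mem d (hRM d hd)) <;>
      simp only [hP, hQ, hU] at * <;> constructor <;> intro hx <;> omega
  have hrest : R.filter (fun d => 11 ∣ d ∧ ¬ 5 ∣ d) = (R.filter U).filter fun d => 11 ∣ d := by
    rw [Multiset.filter_filter]
    refine Multiset.filter_congr fun d hd => ?_
    have := (deg_cases d (h.mem d (hRM d hd))).1
    simp only [hU] at *; constructor <;> intro hx <;> omega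
  have memP : ∀ d ∈ R.filter P, d ∈ list11 := fun d hd => by
    obtain ⟨h1, h2⟩ := Multiset.mem_filter.mp hd
    simp only [list11, List.mem_filter, decide_eq_true_eq]
    exact ⟨hRmem d h1, h2⟩
  have memQ : ∀ d ∈ R.filter Q, d ∈ exList := fun d hd => by
    obtain ⟨h1, h2⟩ := Multiset.mem_filter.mp hd
    simp only [exList, List.mem_filter, decide_eq_true_eq]
    exact ⟨hRmem d h1, h2⟩
  have memU : ∀ d ∈ R.filter U, d ∈ list5 := fun d hd => by
    obtain ⟨h1, h2⟩ := Multiset.mem_filter.mp hd
    simp only [list5, List.mem_filter, decide_eq_true_eq]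
    exact ⟨hRmem d h1, h2⟩
  rcases h.seven with h7 | h7
  · left
    have fP : M.filter P = R.filter P + ↑([1, 45, 45] : List ℕ) := by rw [hF, h7]; rfl
    have fQ : M.filter Q = R.filter Q := by
      rw [hF, h7, show ({1, 55, 99, 45, 45} : Multiset ℕ).filter Q = 0 from rfl, add_zero]
    have fU : M.filter U = R.filter U + ↑([1, 99] : List ℕ) := by rw [hF, h7]; rfl
    obtain ⟨g, g', hg⟩ := Multiset.card_eq_two.mp
      (show (R.filter P).card = 2 by rw [fP] at c11; simpa using c11)
    obtain ⟨a, b, c, habc⟩ := Multiset.card_eq_three.mp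
      (show (R.filter U).card = 3 by rw [fU] at c5; simpa using c5)
    rw [fQ] at hY s11
    rw [fP, hg, hY] at s11
    rw [fU, habc] at s5
    rw [hg, hY, habc] at hcons
    rw [habc] at hrest
    have hk := List.all_eq_true.mp (List.all_eq_true.mp (List.all_eq_true.mp joint45_check g
      (memP g (by simp [hg]))) g' (memP g' (by simp [hg]))) Y (memQ Y (by simp [hY]))
    simp only [Bool.or_eq_true, List.all_eq_true, decide_eq_true_eq] at hk
    rcases hk with hk | hk
    · refine absurd ?_ hk
      simp [sw] at s11 ⊢; linarith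
    have hk2 := hk a (memU a (by simp [habc])) b (memU b (by simp [habc])) c (memU c (by simp [habc]))
    rcases hk2 with (hk2 | hk2) | hk2
    · refine absurd ?_ hk2
      simp [sw] at s5 ⊢; linarith
    · simp only [Bool.not_eq_true', decide_eq_false_iff_not] at hk2
      exact absurd hcons hk2
    simp only [Bool.and_eq_true, decide_eq_true_eq] at hk2
    obtain ⟨⟨rfl, e11⟩, e5⟩ := hk2
    have hM : M = ((↑([21, 210, 280, 280, 154, 231, 1, 55, 99, 45, 45] : List ℕ)) : Multiset ℕ) +
        Multiset.replicate n 385 := by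
      rw [hsplit, h7, hRsplit, hg, hY, hrest,
        show ({g, g'} : Multiset ℕ) = {21, 210} from e11, show ({a, b, c} : Multiset ℕ) = {21, 154, 231} from e5]
      rw [show (({21, 154, 231} : Multiset ℕ).filter fun d => 11 ∣ d) = {154, 231} from rfl, add_right_comm]
      rfl
    rw [hM, Multiset.map_add, Multiset.sum_add, Multiset.map_replicate, Multiset.sum_replicate] at hsq
    have hn : n = 1 := by simp at hsq; omega
    rw [hM, hn]
    decide +kernel
  · right
    have fP : M.filter P = R.filter P + ↑([1, 120] : List ℕ) := by rw [hF, h7]; rfl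
    have fQ : M.filter Q = R.filter Q := by
      rw [hF, h7, show ({1, 55, 120, 66, 66} : Multiset ℕ).filter Q = 0 from rfl, add_zero]
    have fU : M.filter U = R.filter U + ↑([1, 66, 66] : List ℕ) := by rw [hF, h7]; rfl
    obtain ⟨g, g', g'', hg⟩ := Multiset.card_eq_three.mp
      (show (R.filter P).card = 3 by rw [fP] at c11; simpa using c11)
    obtain ⟨a, b, habc⟩ := Multiset.card_eq_two.mp
      (show (R.filter U).card = 2 by rw [fU] at c5; simpa using c5)
    rw [fQ] at hY s11
    rw [fP, hg, hY] at s11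
    rw [fU, habc] at s5
    rw [hg, hY, habc] at hcons
    rw [habc] at hrest
    have hk := List.all_eq_true.mp (List.all_eq_true.mp (List.all_eq_true.mp (List.all_eq_true.mp joint66_check g
      (memP g (by simp [hg]))) g' (memP g' (by simp [hg]))) g'' (memP g'' (by simp [hg]))) Y
      (memQ Y (by simp [hY]))
    simp only [Bool.or_eq_true, List.all_eq_true, decide_eq_true_eq] at hk
    rcases hk with hk | hk
    · refine absurd ?_ hk
      simp [sw] at s11 ⊢; linarith
    have hk2 := hk a (memU a (by simp [habc])) b (memU b (by simp [habc]))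
    rcases hk2 with (hk2 | hk2) | hk2
    · refine absurd ?_ hk2
      simp [sw] at s5 ⊢; linarith
    · simp only [Bool.not_eq_true', decide_eq_false_iff_not] at hk2
      exact absurd hcons hk2
    simp only [Bool.and_eq_true, decide_eq_true_eq] at hk2
    obtain ⟨⟨rfl, e11⟩, e5⟩ := hk2
    have hM : M = ((↑([21, 210, 210, 280, 280, 154, 1, 55, 120, 66, 66] : List ℕ)) : Multiset ℕ) +
        Multiset.replicate n 385 := by
      rw [hsplit, h7, hRsplit, hg, hY, hrest,
        show ({g, g', g''} : Multiset ℕ) = {21, 210, 210} from e11, show ({a, b} : Multiset ℕ) = {21, 154} from e5]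
      rw [show (({21, 154} : Multiset ℕ).filter fun d => 11 ∣ d) = {154} from rfl, add_right_comm]
      rfl
    rw [hM, Multiset.map_add, Multiset.sum_add, Multiset.map_replicate, Multiset.sum_replicate] at hsq
    have hn : n = 1 := by simp at hsq; omega
    rw [hM, hn]
    decide +kernel

end Cfsg.Agent.OrderM22
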