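/-
The degrees of the irreducible characters.

Main results (namespace `Cfsg.Agent.OrderM22`):
* `Hyp.col5`, `Hyp.col7`, `Hyp.col11` : the three columns
* `Hyp.exists_vals` : integral values at an involution
* `Hyp.pairs_zero` : no pairs of involutions with product of order 7 or 11
* `Hyp.degrees` : the degrees, up to two possibilities
-/
import Cfsg.Agent.Lib.OrderM22.Basic
import Cfsg.Agent.Lib.OrderM22.Column
import Cfsg.Agent.Lib.OrderM22.DegreeArith
import Cfsg.Agent.Lib.SmallOrders.BlockDegrees.ValueFormula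

set_option autoImplicit false

open scoped ComplexConjugate

namespace Cfsg.Agent.OrderM22

open Cfsg Cfsg.Agent.Blocks
open Cfsg.Agent.SmallOrders.BlockDegrees (oneChar exists_int_mod_four norm_lt_of_ne_one norm_int_lt)

variable {G : Type*} [Group G] [Finite G]

theorem dg_one : dg (oneChar G) = 1 := by simp [dg, charDegree, oneChar]

theorem dg_pos (χ : IrrCharacter G) : 0 < dg χ := charDegree_pos χ

theorem apply_one (χ : IrrCharacter G) : (χ : G → ℂ) 1 = (dg χ : ℂ) := (charDegree_cast χ).symm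

theorem sum_dg_sq [Fintype (IrrCharacter G)] : ∑ χ : IrrCharacter G, dg χ ^ 2 = Nat.card G := by
  have := Fintype.ofFinite G
  apply Nat.cast_injective (R := ℂ)
  rw [← Char.sum_sq_degrees (G := G)]
  push_cast
  exact Finset.sum_congr rfl fun χ _ => by rw [apply_one]

variable [IsSimpleGroup G]

theorem Hyp.col5 (h : Hyp G) {z : G} (hz : orderOf z = 5) : ∃ F E, Col 5 4 1 w5 z F E := by
  have : Fact (Nat.Prime 5) := ⟨by norm_num⟩
  refine exists_col h.not_comm (by norm_num) hz (by rw [h.card]; norm_num) (h.five hz).1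
    (h.five hz).2 (a := 1) (b := 1) (by norm_num) ?_ ?_ ?_ ?_ ?_ <;> intro d hd <;>
    simp only [w5] <;> split_ifs <;> omega

theorem Hyp.col7 (h : Hyp G) {y : G} (hy : orderOf y = 7) : ∃ F E, Col 7 3 2 w7 y F E := by
  have : Fact (Nat.Prime 7) := ⟨by norm_num⟩
  refine exists_col h.not_comm (by norm_num) hy (by rw [h.card]; norm_num) (h.seven hy).1
    (h.seven hy).2 (a := 2) (b := 1) (by norm_num) ?_ ?_ ?_ ?_ ?_ <;> intro d hd <;>
    simp only [w7] <;> split_ifs <;> omega

theorem Hyp.col11 (h : Hyp G) {x : G} (hx : orderOf x = 11) : ∃ F E, Col 11 5 2 w11 x F E := by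
  have : Fact (Nat.Prime 11) := ⟨by norm_num⟩
  refine exists_col h.not_comm (by norm_num) hx (by rw [h.card]; norm_num) (h.eleven hx).1
    (h.eleven hx).2 (a := 2) (b := 1) (by norm_num) ?_ ?_ ?_ ?_ ?_ <;> intro d hd <;>
    simp only [w11] <;> split_ifs <;> omega

theorem Hyp.exists_elements (h : Hyp G) : ∃ z y x t : G,
    orderOf z = 5 ∧ orderOf y = 7 ∧ orderOf x = 11 ∧ orderOf t = 2 := by
  have : Fact (Nat.Prime 5) := ⟨by norm_num⟩
  have : Fact (Nat.Prime 7) := ⟨by norm_num⟩
  have : Fact (Nat.Prime 11) := ⟨by norm_num⟩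
  obtain ⟨z, hz⟩ := exists_prime_orderOf_dvd_card' (G := G) 5 (by rw [h.card]; norm_num)
  obtain ⟨y, hy⟩ := exists_prime_orderOf_dvd_card' (G := G) 7 (by rw [h.card]; norm_num)
  obtain ⟨x, hx⟩ := exists_prime_orderOf_dvd_card' (G := G) 11 (by rw [h.card]; norm_num)
  obtain ⟨t, ht⟩ := exists_prime_orderOf_dvd_card' (G := G) 2 (by rw [h.card]; norm_num)
  exact ⟨z, y, x, t, hz, hy, hx, ht⟩

/-- The integral values at an involution. -/
theorem Hyp.exists_vals (h : Hyp G) [Fintype (IrrCharacter G)] {t : G} (ht : orderOf t = 2) :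
    ∃ u : IrrCharacter G → ℤ, (∀ χ : IrrCharacter G, (χ : G → ℂ) t = u χ) ∧
      (∀ χ, ((dg χ : ℤ) - u χ) % 4 = 0) ∧ (∀ χ, χ ≠ oneChar G → (u χ).natAbs < dg χ) ∧
      (∀ χ, (u χ).natAbs ≤ 33) ∧ u (oneChar G) = 1 ∧
      ∑ χ, u χ ^ 2 = (Nat.card (Subgroup.centralizer ({t} : Set G)) : ℤ) := by
  classical
  have htt : t * t = 1 := by rw [← pow_two, ← ht, pow_orderOf_eq_one]
  have ht1 : t ≠ 1 := fun e => by rw [e, orderOf_one] at ht; omega
  choose u hu hu4 using fun χ : IrrCharacter G =>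
    exists_int_mod_four h.not_comm (Char.IsIrrCharacter.isCharacter χ.2) htt
  have hsum : ∑ χ, u χ ^ 2 = (Nat.card (Subgroup.centralizer ({t} : Set G)) : ℤ) := by
    have o := Char.column_orth (G := G) t t
    rw [if_pos (IsConj.refl t)] at o
    apply Int.cast_injective (α := ℂ)
    push_cast
    rw [← o]
    exact Finset.sum_congr rfl fun χ _ => by rw [hu χ, map_intCast]; ring
  refine ⟨u, hu, hu4, fun χ hne => norm_int_lt (by
      rw [← hu χ]
      exact norm_lt_of_ne_one h.not_comm χ.2 (fun e => hne (Subtype.ext e)) ht1),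
    fun χ => ?_, ?_, hsum⟩
  · have h1 : u χ ^ 2 ≤ 1152 := by
      have h2 := Nat.le_of_dvd (by norm_num) (h.centralizer_dvd ht1 (by omega) (by omega) (by omega))
      have h3 := Finset.single_le_sum (f := fun ψ => u ψ ^ 2) (fun ψ _ => sq_nonneg _) (Finset.mem_univ χ)
      rw [hsum] at h3
      exact h3.trans (by exact_mod_cast h2)
    have h2 : ((u χ).natAbs : ℤ) ^ 2 ≤ 1152 := by rw [Int.natAbs_sq]; exact h1
    by_contra hlt
    have h3 : (34 : ℤ) ≤ ((u χ).natAbs : ℤ) := by omega
    nlinarith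
  · have e := hu (oneChar G)
    rw [show (oneChar G : G → ℂ) t = 1 from rfl] at e
    exact_mod_cast e.symm

/-- No pairs of conjugates of an involution have product of order 7 or 11. -/
theorem Hyp.pairs_zero (h : Hyp G) [Fintype (IrrCharacter G)] {p e : ℕ} (hp : p = 7 ∨ p = 11)
    {a : ℤ} {w : ℕ → ℤ} {x t : G} {F E : Finset (IrrCharacter G)} (hc : Col p e a w x F E)
    (hx : orderOf x = p) (ht : orderOf t = 2) {u : IrrCharacter G → ℤ}
    (hu : ∀ χ : IrrCharacter G, (χ : G → ℂ) t = u χ) :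
    ∑ χ, (w (dg χ) : ℂ) * ((u χ : ℂ) * (u χ : ℂ) / (dg χ : ℂ)) = 0 := by
  have he : IsEmpty {q : G × G // IsConj t q.1 ∧ IsConj t q.2 ∧ q.1 * q.2 = x} := ⟨fun q => by
    obtain ⟨⟨c, d⟩, hc', hd', hq⟩ := q
    have hinv : ∀ v : G, IsConj t v → v * v = 1 := fun v hv => by
      obtain ⟨g, rfl⟩ := isConj_iff.mp hv
      rw [show g * t * g⁻¹ * (g * t * g⁻¹) = g * (t * t) * g⁻¹ by group,
        show t * t = 1 by rw [← pow_two, ← ht, pow_orderOf_eq_one], mul_one, mul_inv_cancel]
    simp only at hq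
    refine h.not_inverted hp hx (a := c) ?_
    rw [inv_eq_of_mul_eq_one_right (hinv c hc'), ← hq, mul_inv_rev,
      inv_eq_of_mul_eq_one_right (hinv c hc'), inv_eq_of_mul_eq_one_right (hinv d hd'),
      ← mul_assoc c c d, hinv c hc', one_mul]⟩
  have := hc.pairs (t := t) (by rw [ht]; rcases hp with rfl | rfl <;> norm_num)
  rw [Nat.card_of_isEmpty, Nat.cast_zero, mul_zero, zero_mul] at this
  have hG : (Nat.card G : ℂ) ≠ 0 := Nat.cast_ne_zero.mpr Nat.card_pos.ne'
  rw [← (mul_eq_zero.mp this.symm).resolve_left hG]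
  exact Finset.sum_congr rfl fun χ _ => by rw [hu]

theorem Hyp.mem_degList (h : Hyp G) (χ : IrrCharacter G) : dg χ ∈ degList := by
  classical
  have := Fintype.ofFinite (IrrCharacter G)
  obtain ⟨z, y, x, t, hz, hy, hx, -⟩ := h.exists_elements
  obtain ⟨F5, E5, h5⟩ := h.col5 hz
  obtain ⟨F7, E7, h7⟩ := h.col7 hy
  obtain ⟨F11, E11, h11⟩ := h.col11 hx
  refine OrderM22.mem_degList (h.card ▸ charDegree_dvd_card χ) ⟨?_, ?_, ?_⟩ ?_
  · have := h5.degF χ; have := h5.degE χ; have := h5.other χ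
    by_cases hF : χ ∈ F5 <;> by_cases hE : χ ∈ E5 <;> simp_all <;> omega
  · have := h7.degF χ; have := h7.degE χ; have := h7.other χ
    by_cases hF : χ ∈ F7 <;> by_cases hE : χ ∈ E7 <;> simp_all <;> omega
  · have := h11.degF χ; have := h11.degE χ; have := h11.other χ
    by_cases hF : χ ∈ F11 <;> by_cases hE : χ ∈ E11 <;> simp_all <;> omega
  · rw [← h.card, ← sum_dg_sq (G := G)]
    exact Finset.single_le_sum (f := fun ψ => dg ψ ^ 2) (fun ψ _ => Nat.zero_le _) (Finset.mem_univ χ)

theorem Hyp.dg_ne_one (h : Hyp G) {χ : IrrCharacter G} (hne : χ ≠ oneChar G) : dg χ ≠ 1 := fun e =>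
  hne <| Subtype.ext <| Blocks.eq_one_of_degree_one
    (by by_contra! hc; exact h.not_comm ⟨⟨hc⟩⟩) (by rw [apply_one, e, Nat.cast_one])

theorem sign_of_residue {d p r : ℕ} (h : (d : ℤ) % p = r ∨ -(d : ℤ) % p = r) :
    ∃ s : ℤ, (s = 1 ∨ s = -1) ∧ s * d % p = r ∧ s * s = 1 := by
  rcases h with h | h
  · exact ⟨1, Or.inl rfl, by rwa [one_mul], rfl⟩
  · exact ⟨-1, Or.inr rfl, by rwa [neg_one_mul], rfl⟩

theorem w7_eq {d : ℕ} {s : ℤ} (hs : s = 1 ∨ s = -1) :
    ((s * d % 7 = 1) → w7 d = 2 * s) ∧ ((s * d % 7 = 3) → w7 d = -s) := by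
  rcases hs with rfl | rfl <;> constructor <;> intro h <;> simp only [w7] <;> split_ifs <;> omega

/-- The degrees outside the defect zero part at 7. -/
theorem Hyp.seven_degrees (h : Hyp G) [Fintype (IrrCharacter G)] :
    ((Finset.univ : Finset (IrrCharacter G)).val.map dg).filter (fun d => ¬ 7 ∣ d) = {1, 55, 99, 45, 45} ∨
    ((Finset.univ : Finset (IrrCharacter G)).val.map dg).filter (fun d => ¬ 7 ∣ d) = {1, 55, 120, 66, 66} := by
  classical
  obtain ⟨z, y, x, t, -, hy, -, ht⟩ := h.exists_elements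
  obtain ⟨F, E, hc⟩ := h.col7 hy
  obtain ⟨u, hu, hu4, hlt, h33, hu1, -⟩ := h.exists_vals ht
  have hF2 : (F.erase (oneChar G)).card = 2 := by rw [Finset.card_erase_of_mem hc.one, hc.cardF]
  obtain ⟨α, β, hαβ, hFe⟩ := Finset.card_eq_two.mp hF2
  obtain ⟨η, η', hηη, hEe⟩ := Finset.card_eq_two.mp (show E.card = 2 by rw [hc.cardE])
  have hFeq : F = {oneChar G, α, β} := by
    rw [← Finset.insert_erase hc.one, hFe]
  have hα : α ∈ F ∧ α ≠ oneChar G := by
    have : α ∈ F.erase (oneChar G) := by simp [hFe]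
    rw [Finset.mem_erase] at this; exact ⟨this.2, this.1⟩
  have hβ : β ∈ F ∧ β ≠ oneChar G := by
    have : β ∈ F.erase (oneChar G) := by simp [hFe]
    rw [Finset.mem_erase] at this; exact ⟨this.2, this.1⟩
  have hη : η ∈ E := by simp [hEe]
  have hη' : η' ∈ E := by simp [hEe]
  have hηne : η ≠ oneChar G := fun e => Finset.disjoint_left.mp hc.disj hc.one (e ▸ hη)
  have hd' : dg η' = dg η := by
    have := hc.eqE η' hη' η hη 1 (by simp)
    rw [apply_one, apply_one] at this
    exact_mod_cast this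
  have hu' : u η' = u η := by
    have := hc.eqE η' hη' η hη t (by rw [ht]; norm_num)
    rw [hu, hu] at this
    exact_mod_cast this
  obtain ⟨sa, hsa, hA7, hsa'⟩ := sign_of_residue (r := 1) (hc.degF α hα.1)
  obtain ⟨sb, hsb, hB7, hsb'⟩ := sign_of_residue (r := 1) (hc.degF β hβ.1)
  obtain ⟨se, hse, hE7, hse'⟩ := sign_of_residue (r := 3) (hc.degE η hη)
  have hsum : ∀ f : IrrCharacter G → ℂ, ∑ χ, (w7 (dg χ) : ℂ) * f χ =
      2 * f (oneChar G) + (2 * sa : ℤ) * f α + (2 * sb : ℤ) * f β + (-se : ℤ) * (f η + f η') := by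
    intro f
    rw [← Finset.sum_subset (Finset.subset_univ (F ∪ E)) (fun χ _ hχ => by
      rw [Finset.mem_union, not_or] at hχ
      rw [show w7 (dg χ) = 0 by
        have := hc.other χ hχ.1 hχ.2
        simp only [w7]; split_ifs <;> omega, Int.cast_zero, zero_mul]),
      Finset.sum_union hc.disj, hFeq, hEe, Finset.sum_insert (by simp [hα.2.symm, hβ.2.symm]),
      Finset.sum_pair hαβ, Finset.sum_pair hηη, (w7_eq hsa).1 hA7, (w7_eq hsb).1 hB7, hd',
      (w7_eq hse).2 hE7, dg_one, show w7 1 = 2 from rfl]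
    push_cast; ring
  have r1 := hc.rel (g := 1) (by simp) (fun e => by
    rw [isConj_one_right] at e; rw [e, orderOf_one] at hy; omega)
  have rt := hc.rel (g := t) (by rw [ht]; norm_num) (fun e => by
    have := orderOf_injective (MulAut.conj (isConj_iff.mp e).choose).toMonoidHom
      (MulAut.conj _).injective t
    rw [show (MulAut.conj (isConj_iff.mp e).choose).toMonoidHom t = y from
      (isConj_iff.mp e).choose_spec, ht, hy] at this
    omega)
  rw [hsum] at r1 rt
  simp only [apply_one, hd', dg_one] at r1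
  simp only [hu, hu', hu1] at rt
  have pz := h.pairs_zero (Or.inl rfl) hc hy ht hu
  rw [hsum] at pz
  simp only [hd', dg_one, hu', hu1] at pz
  set A : ℤ := sa * dg α with hA
  set B : ℤ := sb * dg β with hB
  have e1 : se * (dg η : ℤ) = 1 + A + B := by
    have : (((2 + 2 * A + 2 * B - 2 * (se * dg η) : ℤ)) : ℂ) = ((0 : ℤ) : ℂ) := by
      rw [hA, hB]; push_cast at r1 ⊢; linear_combination r1
    have := Int.cast_injective this
    omega
  have e2 : se * u η = 1 + sa * u α + sb * u β := by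
    have : (((2 + 2 * (sa * u α) + 2 * (sb * u β) - 2 * (se * u η) : ℤ)) : ℂ) = ((0 : ℤ) : ℂ) := by
      push_cast at rt ⊢; linear_combination rt
    have := Int.cast_injective this
    omega
  have habs : ∀ {s : ℤ} (v : ℤ), (s = 1 ∨ s = -1) → (s * v).natAbs = v.natAbs := by
    intro s v hs; rcases hs with rfl | rfl <;> simp
  have hmem : ∀ {χ : IrrCharacter G} {s : ℤ}, χ ≠ oneChar G → (s = 1 ∨ s = -1) → s * dg χ % 7 = 1 →
      s * (dg χ : ℤ) ∈ cand7 ∧ s * u χ ∈ vals (s * dg χ) := by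
    intro χ s hne hs h7
    refine ⟨mem_cand7 (h.mem_degList χ) (h.dg_ne_one hne) (by rw [habs _ hs, Int.natAbs_natCast]) h7,
      mem_vals ?_ (by rw [habs _ hs, habs _ hs, Int.natAbs_natCast]; exact hlt χ hne)
        (by rw [habs _ hs]; exact h33 χ)⟩
    have := hu4 χ
    rcases hs with rfl | rfl <;> omega
  obtain ⟨hAm, ham⟩ := hmem hα.2 hsa hA7
  obtain ⟨hBm, hbm⟩ := hmem hβ.2 hsb hB7
  have hα0 : (dg α : ℂ) ≠ 0 := Nat.cast_ne_zero.mpr (dg_pos α).ne'
  have hβ0 : (dg β : ℂ) ≠ 0 := Nat.cast_ne_zero.mpr (dg_pos β).ne'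
  have hη0 : (dg η : ℂ) ≠ 0 := Nat.cast_ne_zero.mpr (dg_pos η).ne'
  have e3 : A * B * (1 + A + B) + (sa * u α) ^ 2 * B * (1 + A + B) + (sb * u β) ^ 2 * A * (1 + A + B) -
      (1 + sa * u α + sb * u β) ^ 2 * A * B = 0 := by
    rw [← e2, ← e1, hA, hB]
    apply Int.cast_injective (α := ℂ)
    push_cast at pz ⊢
    have hsaC : (sa : ℂ) * sa = 1 := by exact_mod_cast hsa'
    have hsbC : (sb : ℂ) * sb = 1 := by exact_mod_cast hsb'
    have hseC : (se : ℂ) * se = 1 := by exact_mod_cast hse'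
    field_simp at pz
    linear_combination ((sa : ℂ) * sb * se / 2) * pz +
      ((u α : ℂ) ^ 2 * dg β * dg η * sb * se) * (0 : ℂ) * hsaC
  have hok : sevenOk A B (sa * u α) (sb * u β) = true := by
    simp only [sevenOk, Bool.and_eq_true, decide_eq_true_eq]
    refine ⟨⟨⟨⟨?_, ?_⟩, ?_⟩, ?_⟩, e3⟩
    · rw [← e1, habs _ hse, Int.natAbs_natCast]; exact h.mem_degList η
    · rw [← e1]; exact hE7
    · rw [← e1, ← e2]; have := hu4 η; rcases hse with rfl | rfl <;> omega
    · rw [← e1, ← e2, habs _ hse, habs _ hse, Int.natAbs_natCast]; exact hlt η hηne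
  have hM : ((Finset.univ : Finset (IrrCharacter G)).val.map dg).filter (fun d => ¬ 7 ∣ d) =
      {1, dg α, dg β, dg η, dg η} := by
    rw [Multiset.filter_map, ← Finset.filter_val]
    have : (Finset.univ.filter fun χ => ¬ 7 ∣ dg χ) = F ∪ E := by
      ext χ
      simp only [Finset.mem_filter, Finset.mem_univ, true_and, Finset.mem_union]
      constructor
      · intro hn; by_contra! hh; exact hn (hc.other χ hh.1 hh.2)
      · rintro (hm | hm)
        · have := hc.degF χ hm; omega
        · have := hc.degE χ hm; omega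
    simp only [Function.comp_def]
    rw [this, ← Finset.disjUnion_eq_union F E hc.disj, Finset.disjUnion_val, hFeq, hEe, Multiset.map_add,
      Finset.insert_val_of_notMem (by simp [hα.2.symm, hβ.2.symm]),
      Finset.insert_val_of_notMem (by simp [hαβ]), Finset.insert_val_of_notMem (by simp [hηη])]
    simp [hd', dg_one]
    rw [Multiset.cons_swap (dg η) 1, Multiset.cons_swap (dg η) (dg α), Multiset.cons_swap (dg η) (dg β)]
  have hAabs : A.natAbs = dg α := by rw [hA, habs _ hsa, Int.natAbs_natCast]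
  have hBabs : B.natAbs = dg β := by rw [hB, habs _ hsb, Int.natAbs_natCast]
  have hYabs : (1 + A + B).natAbs = dg η := by rw [← e1, habs _ hse, Int.natAbs_natCast]
  rw [hM, ← hAabs, ← hBabs, ← hYabs]
  rcases seven_cases hAm hBm ham hbm hok with ⟨ha, hb | hb⟩ | ⟨hb, ha | ha⟩ <;>
    rw [show A = _ from ha, show B = _ from hb]
  · exact Or.inl rfl
  · exact Or.inr rfl
  · left; decide
  · right; decide

/-- **The degrees.** -/
theorem Hyp.degrees (h : Hyp G) [Fintype (IrrCharacter G)] :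
    (Finset.univ : Finset (IrrCharacter G)).val.map dg = ↑degs45 ∨
      (Finset.univ : Finset (IrrCharacter G)).val.map dg = ↑degs66 := by
  classical
  obtain ⟨z, y, x, t, hz, -, hx, -⟩ := h.exists_elements
  obtain ⟨F5, E5, h5⟩ := h.col5 hz
  obtain ⟨F, E, hc⟩ := h.col11 hx
  refine DegFacts.cases ⟨fun d hd => ?_, ?_, ?_, ?_, ?_, ?_, ?_, h.seven_degrees⟩
  · obtain ⟨χ, -, rfl⟩ := Multiset.mem_map.mp hd
    exact h.mem_degList χ
  · rw [Multiset.map_map]; exact sum_dg_sq.trans h.card
  · rw [Multiset.filter_map, Multiset.card_map, ← Finset.filter_val, ← Finset.card_def]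
    have : (Finset.univ.filter ((fun d => d % 5 = 1 ∨ d % 5 = 4) ∘ dg)) = F5 ∪ E5 := by
      ext χ
      simp only [Finset.mem_filter, Finset.mem_univ, true_and, Finset.mem_union, Function.comp]
      constructor
      · intro hn; by_contra! hh; have := h5.other χ hh.1 hh.2; omega
      · rintro (hm | hm)
        · have := h5.degF χ hm; omega
        · have := h5.degE χ hm; omega
    rw [this, Finset.card_union_of_disjoint h5.disj, h5.cardF, h5.cardE]
  · rw [Multiset.filter_map, Multiset.card_map, ← Finset.filter_val, ← Finset.card_def]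
    have : (Finset.univ.filter ((fun d => d % 11 = 1 ∨ d % 11 = 10) ∘ dg)) = F := by
      ext χ
      simp only [Finset.mem_filter, Finset.mem_univ, true_and, Function.comp]
      constructor
      · intro hn
        by_contra hh
        by_cases hE : χ ∈ E
        · have := hc.degE χ hE; omega
        · have := hc.other χ hh hE; omega
      · intro hm; have := hc.degF χ hm; omega
    rw [this, hc.cardF]
  · obtain ⟨η, η', hηη, hEe⟩ := Finset.card_eq_two.mp (show E.card = 2 by rw [hc.cardE])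
    refine ⟨dg η, ?_⟩
    rw [Multiset.filter_map, ← Finset.filter_val]
    have : (Finset.univ.filter ((fun d => d % 11 = 5 ∨ d % 11 = 6) ∘ dg)) = E := by
      ext χ
      simp only [Finset.mem_filter, Finset.mem_univ, true_and, Function.comp]
      constructor
      · intro hn
        by_contra hh
        by_cases hF : χ ∈ F
        · have := hc.degF χ hF; omega
        · have := hc.other χ hF hh; omega
      · intro hm; have := hc.degE χ hm; omega
    rw [this, hEe, Finset.insert_val_of_notMem (by simp [hηη])]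
    have e := hc.eqE η' (by simp [hEe]) η (by simp [hEe]) 1 (by simp)
    rw [apply_one, apply_one] at e
    have e' : dg η' = dg η := by exact_mod_cast e
    simp [e']
  · have r := h5.rel (g := 1) (by simp) (fun e => by
      rw [isConj_one_right] at e; rw [e, orderOf_one] at hz; omega)
    simp only [apply_one] at r
    rw [Multiset.map_map]
    apply Int.cast_injective (α := ℂ)
    show ((∑ χ : IrrCharacter G, w5 (dg χ) * (dg χ : ℤ) : ℤ) : ℂ) = ((0 : ℤ) : ℂ)
    push_cast; exact r
  · have r := hc.rel (g := 1) (by simp) (fun e => by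
      rw [isConj_one_right] at e; rw [e, orderOf_one] at hx; omega)
    simp only [apply_one] at r
    rw [Multiset.map_map]
    apply Int.cast_injective (α := ℂ)
    show ((∑ χ : IrrCharacter G, w11 (dg χ) * (dg χ : ℤ) : ℤ) : ℂ) = ((0 : ℤ) : ℂ)
    push_cast; exact r

end Cfsg.Agent.OrderM22
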