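/-
The values of the twelve characters at an involution.

Main results (namespace `Cfsg.Agent.OrderM22`):
* `Table`, `Hyp.exists_table` : the enumeration of the characters by degree
* `Table.at_two` : the column of an involution
* `Hyp.one_class` : all involutions are conjugate with centraliser of order 384
-/
import Cfsg.Agent.Lib.OrderM22.Degrees

set_option autoImplicit false
set_option maxRecDepth 10000

open scoped ComplexConjugate

namespace Cfsg.Agent.OrderM22

open Cfsg Cfsg.Agent.Blocks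
open Cfsg.Agent.SmallOrders.BlockDegrees (oneChar)

variable {G : Type*} [Group G] [Finite G]

/-- Enumeration by the value of a function. -/
theorem exists_enum {ι : Type*} [Fintype ι] (d : ι → ℕ) {n : ℕ} (l : Fin n → ℕ)
    (h : (Finset.univ : Finset ι).val.map d = ↑(List.ofFn l)) :
    ∃ f : Fin n ≃ ι, ∀ i, d (f i) = l i := by
  classical
  have hc : ∀ c, Fintype.card {i : Fin n // l i = c} = Fintype.card {χ : ι // d χ = c} := by
    intro c
    have e := congrArg (Multiset.count c) h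
    rw [← Fin.univ_val_map, Multiset.count_map, Multiset.count_map] at e
    simp only [Fintype.card_subtype, Finset.card_def, Finset.filter_val]
    refine (congrArg Multiset.card (Multiset.filter_congr fun _ _ => eq_comm)).trans
      (e.symm.trans (congrArg Multiset.card (Multiset.filter_congr fun _ _ => eq_comm)))
  let e := fun c => Fintype.equivOfCardEq (hc c)
  exact ⟨Equiv.ofFiberEquiv e, fun i => Equiv.ofFiberEquiv_map e i⟩

/-- The degrees of M22. -/
def degs : Fin 12 → ℕ := ![1, 21, 45, 45, 55, 99, 154, 210, 231, 280, 280, 385]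

/-- The second possibility, to be excluded. -/
def degsB : Fin 12 → ℕ := ![1, 21, 55, 66, 66, 120, 154, 210, 210, 280, 280, 385]

/-- The characters in the order of `degs`. -/
structure Table (D : Fin 12 → ℕ) (f : Fin 12 → IrrCharacter G) : Prop where
  bij : Function.Bijective f
  deg : ∀ i, dg (f i) = D i

theorem Table.sum_eq {D : Fin 12 → ℕ} {f : Fin 12 → IrrCharacter G} (T : Table D f)
    [Fintype (IrrCharacter G)] {M : Type*} [AddCommMonoid M] (φ : IrrCharacter G → M) :
    ∑ χ, φ χ = ∑ i, φ (f i) :=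
  (Equiv.sum_comp (Equiv.ofBijective f T.bij) φ).symm

theorem Table.orth {D : Fin 12 → ℕ} {f : Fin 12 → IrrCharacter G} (T : Table D f) (g k : G)
    [Decidable (IsConj g k)] :
    ∑ i, (f i : G → ℂ) g * conj ((f i : G → ℂ) k) =
      if IsConj g k then (Nat.card (Subgroup.centralizer ({g} : Set G)) : ℂ) else 0 := by
  classical
  have := Fintype.ofFinite (IrrCharacter G)
  rw [← T.sum_eq fun χ : IrrCharacter G => (χ : G → ℂ) g * conj ((χ : G → ℂ) k)]
  exact Char.column_orth g k

theorem Table.orth_one {D : Fin 12 → ℕ} {f : Fin 12 → IrrCharacter G} (T : Table D f) {g : G}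
    (hg : g ≠ 1) : ∑ i, (D i : ℂ) * (f i : G → ℂ) g = 0 := by
  classical
  have := Fintype.ofFinite G
  have := Fintype.ofFinite (IrrCharacter G)
  have h := Char.sum_degree_mul_apply (G := G) g
  rw [if_neg hg, T.sum_eq] at h
  rw [← h]
  exact Finset.sum_congr rfl fun i _ => by rw [apply_one, T.deg]

theorem isConj_orderOf_eq {g k : G} (hc : IsConj g k) : orderOf g = orderOf k := by
  obtain ⟨c, rfl⟩ := isConj_iff.mp hc
  exact (orderOf_injective (MulAut.conj c).toMonoidHom (MulAut.conj c).injective g).symm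

/-- The weighted relation over a table. -/
theorem Table.rel {D : Fin 12 → ℕ} {f : Fin 12 → IrrCharacter G} (T : Table D f) {p e : ℕ} {a : ℤ}
    {w : ℕ → ℤ} {x g : G} {F E : Finset (IrrCharacter G)} (hc : Col p e a w x F E)
    (hx : orderOf x = p) (hg : ¬ p ∣ orderOf g) :
    ∑ i, (w (D i) : ℂ) * (f i : G → ℂ) g = 0 := by
  classical
  have := Fintype.ofFinite (IrrCharacter G)
  have h := hc.rel hg fun e' => hg (by rw [isConj_orderOf_eq e', hx])
  rw [T.sum_eq] at h
  rw [← h]
  exact Finset.sum_congr rfl fun i _ => by rw [T.deg]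

theorem Table.eq_of_exc {D : Fin 12 → ℕ} {f : Fin 12 → IrrCharacter G} (T : Table D f) {p e : ℕ}
    {a : ℤ} {w : ℕ → ℤ} {x : G} {F E : Finset (IrrCharacter G)} (hc : Col p e a w x F E)
    {i j : Fin 12} (hi : ((D i : ℤ) % p ≠ 1 ∧ -(D i : ℤ) % p ≠ 1) ∧ ¬ p ∣ D i)
    (hj : ((D j : ℤ) % p ≠ 1 ∧ -(D j : ℤ) % p ≠ 1) ∧ ¬ p ∣ D j) {g : G} (hg : ¬ p ∣ orderOf g) :
    (f i : G → ℂ) g = (f j : G → ℂ) g := by
  have key : ∀ k, ((D k : ℤ) % p ≠ 1 ∧ -(D k : ℤ) % p ≠ 1) ∧ ¬ p ∣ D k → f k ∈ E := by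
    intro k ⟨⟨h1, h2⟩, h3⟩
    by_contra hE
    by_cases hF : f k ∈ F
    · have := hc.degF _ hF; rw [T.deg] at this; exact this.elim h1 h2
    · exact h3 (T.deg k ▸ hc.other _ hF hE)
  exact hc.eqE _ (key i hi) _ (key j hj) g hg

variable [IsSimpleGroup G]

/-- The values at an involution over a table. -/
theorem Table.exists_vals {D : Fin 12 → ℕ} {f : Fin 12 → IrrCharacter G} (T : Table D f) (h : Hyp G)
    (h0 : D 0 = 1) (hD : ∀ i, i ≠ 0 → D i ≠ 1) {t : G} (ht : orderOf t = 2) :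
    ∃ v : Fin 12 → ℤ, (∀ i, (f i : G → ℂ) t = v i) ∧ v 0 = 1 ∧
      (∀ i, i ≠ 0 → v i ∈ vals (D i : ℤ)) ∧
      (∑ i, v i ^ 2 = (Nat.card (Subgroup.centralizer ({t} : Set G)) : ℤ)) ∧
      ∑ i, (D i : ℤ) * v i = 0 := by
  classical
  have := Fintype.ofFinite (IrrCharacter G)
  obtain ⟨u, hu, hu4, hlt, h33, hu1, hsum⟩ := h.exists_vals ht
  have hne : ∀ i, i ≠ 0 → f i ≠ oneChar G := fun i hi e => hD i hi (by rw [← T.deg, e, dg_one])
  have he0 : f 0 = oneChar G := by
    by_contra hn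
    exact h.dg_ne_one hn (by rw [T.deg, h0])
  refine ⟨fun i => u (f i), fun i => hu _, by simp only [he0, hu1], fun i hi => mem_vals ?_ ?_ (h33 _), ?_, ?_⟩
  · rw [← T.deg]; exact hu4 _
  · rw [Int.natAbs_natCast, ← T.deg]; exact hlt _ (hne i hi)
  · rw [← hsum, T.sum_eq]
  · have ht1 : t ≠ 1 := fun e => by rw [e, orderOf_one] at ht; omega
    have h1 := T.orth_one ht1
    simp only [hu] at h1
    exact_mod_cast h1

theorem Table.pairs_zero {D : Fin 12 → ℕ} {f : Fin 12 → IrrCharacter G} (T : Table D f) (h : Hyp G)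
    {p e : ℕ} (hp : p = 7 ∨ p = 11) {a : ℤ} {w : ℕ → ℤ} {x t : G} {F E : Finset (IrrCharacter G)}
    (hc : Col p e a w x F E) (hx : orderOf x = p) (ht : orderOf t = 2) {v : Fin 12 → ℤ}
    (hv : ∀ i, (f i : G → ℂ) t = v i) :
    ∑ i, (w (D i) : ℂ) * ((v i : ℂ) * (v i : ℂ) / (D i : ℂ)) = 0 := by
  classical
  have := Fintype.ofFinite (IrrCharacter G)
  obtain ⟨u, hu, -⟩ := h.exists_vals ht
  have h1 := h.pairs_zero hp hc hx ht hu
  rw [T.sum_eq] at h1
  rw [← h1]
  refine Finset.sum_congr rfl fun i _ => ?_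
  rw [T.deg, show v i = u (f i) from Int.cast_injective (α := ℂ) (by rw [← hv, hu])]

/-- The check for the degrees of M22. -/
def checkA : Bool :=
  (vals 55).all fun a55 => (vals 45).all fun a45 =>
    let a99 := a55 - 1 + a45
    !decide (a99 ∈ vals 99) || decide (495 - 9 * a55 ^ 2 + 5 * a99 ^ 2 - 11 * a45 ^ 2 ≠ 0) ||
    (vals 21).all fun a21 => (vals 210).all fun a210 =>
      let a280 := 1 - a21 + 2 * a45 + a210
      !decide (a280 ∈ vals 280) ||
      decide (2520 - 120 * a21 ^ 2 + 112 * a45 ^ 2 + 12 * a210 ^ 2 - 9 * a280 ^ 2 ≠ 0) ||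
      (vals 154).all fun a154 =>
        let a231 := -1 + a154 + a99 - a21
        let s := 1 + 21 * a21 + 90 * a45 + 55 * a55 + 99 * a99 + 154 * a154 + 210 * a210 + 231 * a231 +
          560 * a280
        let a385 := -(s / 385)
        let C := 1 + a21 ^ 2 + 2 * a45 ^ 2 + a55 ^ 2 + a99 ^ 2 + a154 ^ 2 + a210 ^ 2 + a231 ^ 2 +
          2 * a280 ^ 2 + a385 ^ 2
        decide (s % 385 ≠ 0) || !decide (a231 ∈ vals 231) || decide ((1152 : ℤ) % C ≠ 0) ||
          decide ([a21, a45, a55, a99, a154, a210, a231, a280, a385] = [5, -3, 7, 3, 10, 2, 7, -8, 1])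

theorem checkA_true : checkA = true := by decide +kernel

/-- The check for the second possibility. -/
def checkB : Bool :=
  (vals 55).all fun a55 => (vals 66).all fun a66 =>
    let a120 := a55 - 1 + a66
    !decide (a120 ∈ vals 120) || decide (1320 - 24 * a55 ^ 2 + 11 * a120 ^ 2 - 20 * a66 ^ 2 ≠ 0) ||
    (vals 21).all fun a21 =>
      let a154 := 1 + a21 + 2 * a66
      !decide (a154 ∈ vals 154) ||
      (vals 210).all fun g => (vals 210).all fun g' =>
        let a280 := 1 - a21 - a120 + g + g'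
        !decide (a280 ∈ vals 280) ||
        decide (840 - 40 * a21 ^ 2 - 7 * a120 ^ 2 + 4 * g ^ 2 + 4 * g' ^ 2 - 3 * a280 ^ 2 ≠ 0) ||
          let s := 1 + 21 * a21 + 55 * a55 + 132 * a66 + 120 * a120 + 154 * a154 + 210 * g + 210 * g' +
            560 * a280
          let a385 := -(s / 385)
          let C := 1 + a21 ^ 2 + a55 ^ 2 + 2 * a66 ^ 2 + a120 ^ 2 + a154 ^ 2 + g ^ 2 + g' ^ 2 +
            2 * a280 ^ 2 + a385 ^ 2
          decide (s % 385 ≠ 0) || decide ((1152 : ℤ) % C ≠ 0) ||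
            decide ([a21, a66, a154, C] = [-3, 2, 2, 384])

theorem checkB_true : checkB = true := by decide +kernel

theorem centralizer_int_dvd (h : Hyp G) {t : G} (ht : orderOf t = 2) :
    (1152 : ℤ) % (Nat.card (Subgroup.centralizer ({t} : Set G)) : ℤ) = 0 := by
  have := h.centralizer_dvd (g := t) (fun e => by rw [e, orderOf_one] at ht; omega) (by omega) (by omega)
    (by omega)
  exact Int.emod_eq_zero_of_dvd (Int.natCast_dvd_natCast.mpr this)

/-- The values of the characters at an involution. -/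
def vals2 : Fin 12 → ℤ := ![1, 5, -3, -3, 7, 3, 10, 2, 7, -8, -8, 1]

theorem Table.at_two {f : Fin 12 → IrrCharacter G} (T : Table degs f) (h : Hyp G) {t : G}
    (ht : orderOf t = 2) :
    (∀ i, (f i : G → ℂ) t = vals2 i) ∧ Nat.card (Subgroup.centralizer ({t} : Set G)) = 384 := by
  classical
  obtain ⟨z, y, x, -, hz, hy, hx, -⟩ := h.exists_elements
  obtain ⟨F5, E5, c5⟩ := h.col5 hz
  obtain ⟨F7, E7, c7⟩ := h.col7 hy
  obtain ⟨F, E, c11⟩ := h.col11 hx
  obtain ⟨v, hv, hv0, hmem, hC, hone⟩ := T.exists_vals h rfl (by decide) ht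
  have e23 : v 3 = v 2 := by
    have := T.eq_of_exc c7 (i := 3) (j := 2) (by decide) (by decide) (g := t) (by rw [ht]; norm_num)
    rw [hv, hv] at this; exact_mod_cast this
  have e910 : v 10 = v 9 := by
    have := T.eq_of_exc c11 (i := 10) (j := 9) (by decide) (by decide) (g := t) (by rw [ht]; norm_num)
    rw [hv, hv] at this; exact_mod_cast this
  have r5 := T.rel c5 hz (g := t) (by rw [ht]; norm_num)
  have r7 := T.rel c7 hy (g := t) (by rw [ht]; norm_num)
  have r11 := T.rel c11 hx (g := t) (by rw [ht]; norm_num)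
  have p7 := T.pairs_zero h (Or.inl rfl) c7 hy ht hv
  have p11 := T.pairs_zero h (Or.inr rfl) c11 hx ht hv
  simp [Fin.sum_univ_succ, degs, w5, w7, w11, hv, hv0, e23, e910] at r5 r7 r11 p7 p11
  simp [Fin.sum_univ_succ, degs, hv0, e23, e910] at hC hone
  have i5 : 1 + v 1 - v 5 - v 6 + v 8 = 0 := by
    apply Int.cast_injective (α := ℂ); push_cast; linear_combination r5
  have i7 : 1 - v 4 + v 5 - v 2 = 0 := by
    apply Int.cast_injective (α := ℂ); push_cast; linear_combination r7 / 2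
  have i11 : 1 - v 1 + 2 * v 2 + v 7 - v 9 = 0 := by
    apply Int.cast_injective (α := ℂ); push_cast; linear_combination r11 / 2
  have q7 : 495 - 9 * v 4 ^ 2 + 5 * v 5 ^ 2 - 11 * v 2 ^ 2 = 0 := by
    apply Int.cast_injective (α := ℂ); push_cast; linear_combination (495 / 2 : ℂ) * p7
  have q11 : 2520 - 120 * v 1 ^ 2 + 112 * v 2 ^ 2 + 12 * v 7 ^ 2 - 9 * v 9 ^ 2 = 0 := by
    apply Int.cast_injective (α := ℂ); push_cast; linear_combination (1260 : ℂ) * p11
  have hd := centralizer_int_dvd h ht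
  have hk := checkA_true
  simp only [checkA, List.all_eq_true, Bool.or_eq_true, Bool.not_eq_true', decide_eq_true_eq,
    decide_eq_false_iff_not] at hk
  have hk1 := hk (v 4) (hmem 4 (by decide)) (v 2) (hmem 2 (by decide))
  rw [show v 4 - 1 + v 2 = v 5 by omega] at hk1
  rcases hk1 with (hk1 | hk1) | hk1
  · exact absurd (hmem 5 (by decide)) hk1
  · exact absurd q7 hk1
  have hk2 := hk1 (v 1) (hmem 1 (by decide)) (v 7) (hmem 7 (by decide))
  rw [show 1 - v 1 + 2 * v 2 + v 7 = v 9 by omega] at hk2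
  rcases hk2 with (hk2 | hk2) | hk2
  · exact absurd (hmem 9 (by decide)) hk2
  · exact absurd q11 hk2
  have hk3 := hk2 (v 6) (hmem 6 (by decide))
  rw [show -1 + v 6 + v 5 - v 1 = v 8 by omega] at hk3
  set s := 1 + 21 * v 1 + 90 * v 2 + 55 * v 4 + 99 * v 5 + 154 * v 6 + 210 * v 7 + 231 * v 8 + 560 * v 9
    with hs
  have hs' : s = -(385 * v 11) := by omega
  rw [show -(s / 385) = v 11 by omega] at hk3
  rcases hk3 with ((hk3 | hk3) | hk3) | hk3
  · omega
  · exact absurd (hmem 8 (by decide)) hk3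
  · refine absurd ?_ hk3
    rw [← hd]
    congr 1
    linarith
  simp only [List.cons.injEq, and_true] at hk3
  obtain ⟨a1, a2, a4, a5, a6, a7, a8, a9, a11⟩ := hk3
  refine ⟨fun i => ?_, ?_⟩
  · rw [hv]; congr 1
    fin_cases i <;> simp [vals2, hv0, e23, e910, a1, a2, a4, a5, a6, a7, a8, a9, a11]
  · rw [a1, a2, a4, a5, a6, a7, a8, a9, a11] at hC
    norm_num at hC
    exact_mod_cast hC.symm

theorem Table.not_second {f : Fin 12 → IrrCharacter G} (T : Table degsB f) (h : Hyp G) : False := by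
  classical
  have := Fintype.ofFinite (IrrCharacter G)
  obtain ⟨z, y, x, t, hz, hy, hx, ht⟩ := h.exists_elements
  obtain ⟨F5, E5, c5⟩ := h.col5 hz
  obtain ⟨F7, E7, c7⟩ := h.col7 hy
  obtain ⟨F, E, c11⟩ := h.col11 hx
  obtain ⟨v, hv, hv0, hmem, hC, hone⟩ := T.exists_vals h rfl (by decide) ht
  have e34 : v 4 = v 3 := by
    have := T.eq_of_exc c7 (i := 4) (j := 3) (by decide) (by decide) (g := t) (by rw [ht]; norm_num)
    rw [hv, hv] at this; exact_mod_cast this
  have e910 : v 10 = v 9 := by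
    have := T.eq_of_exc c11 (i := 10) (j := 9) (by decide) (by decide) (g := t) (by rw [ht]; norm_num)
    rw [hv, hv] at this; exact_mod_cast this
  have r5 := T.rel c5 hz (g := t) (by rw [ht]; norm_num)
  have r7 := T.rel c7 hy (g := t) (by rw [ht]; norm_num)
  have r11 := T.rel c11 hx (g := t) (by rw [ht]; norm_num)
  have p7 := T.pairs_zero h (Or.inl rfl) c7 hy ht hv
  have p11 := T.pairs_zero h (Or.inr rfl) c11 hx ht hv
  have p5 := c5.pairs (t := t) (by rw [ht]; norm_num)
  rw [T.sum_eq, h.card] at p5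
  generalize Nat.card {q : G × G // IsConj t q.1 ∧ IsConj t q.2 ∧ q.1 * q.2 = z} = k at p5
  simp [Fin.sum_univ_succ, degsB, w5, w7, w11, hv, hv0, e34, e910, T.deg] at r5 r7 r11 p7 p11 p5
  simp [Fin.sum_univ_succ, degsB, hv0, e34, e910] at hC hone
  have i5 : 1 + v 1 + 2 * v 3 - v 6 = 0 := by
    apply Int.cast_injective (α := ℂ); push_cast; linear_combination r5
  have i7 : 1 - v 2 + v 5 - v 3 = 0 := by
    apply Int.cast_injective (α := ℂ); push_cast; linear_combination r7 / 2
  have i11 : 1 - v 1 - v 5 + v 7 + v 8 - v 9 = 0 := by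
    apply Int.cast_injective (α := ℂ); push_cast; linear_combination r11 / 2
  have q7 : 1320 - 24 * v 2 ^ 2 + 11 * v 5 ^ 2 - 20 * v 3 ^ 2 = 0 := by
    apply Int.cast_injective (α := ℂ); push_cast; linear_combination (660 : ℂ) * p7
  have q11 : 840 - 40 * v 1 ^ 2 - 7 * v 5 ^ 2 + 4 * v 7 ^ 2 + 4 * v 8 ^ 2 - 3 * v 9 ^ 2 = 0 := by
    apply Int.cast_injective (α := ℂ); push_cast; linear_combination (420 : ℂ) * p11
  have hd := centralizer_int_dvd h ht
  have hk := checkB_true
  simp only [checkB, List.all_eq_true, Bool.or_eq_true, Bool.not_eq_true', decide_eq_true_eq,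
    decide_eq_false_iff_not] at hk
  have hk1 := hk (v 2) (hmem 2 (by decide)) (v 3) (hmem 3 (by decide))
  rw [show v 2 - 1 + v 3 = v 5 by omega] at hk1
  rcases hk1 with (hk1 | hk1) | hk1
  · exact absurd (hmem 5 (by decide)) hk1
  · exact absurd q7 hk1
  have hk2 := hk1 (v 1) (hmem 1 (by decide))
  rw [show 1 + v 1 + 2 * v 3 = v 6 by omega] at hk2
  rcases hk2 with hk2 | hk2
  · exact absurd (hmem 6 (by decide)) hk2
  have hk3 := hk2 (v 7) (hmem 7 (by decide)) (v 8) (hmem 8 (by decide))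
  rw [show 1 - v 1 - v 5 + v 7 + v 8 = v 9 by omega] at hk3
  rcases hk3 with (hk3 | hk3) | hk3
  · exact absurd (hmem 9 (by decide)) hk3
  · exact absurd q11 hk3
  set s := 1 + 21 * v 1 + 55 * v 2 + 132 * v 3 + 120 * v 5 + 154 * v 6 + 210 * v 7 + 210 * v 8 + 560 * v 9
    with hs
  rw [show -(s / 385) = v 11 by omega] at hk3
  set C := 1 + v 1 ^ 2 + v 2 ^ 2 + 2 * v 3 ^ 2 + v 5 ^ 2 + v 6 ^ 2 + v 7 ^ 2 + v 8 ^ 2 + 2 * v 9 ^ 2 + v 11 ^ 2
    with hCdef
  have hC' : (Nat.card (Subgroup.centralizer ({t} : Set G)) : ℤ) = C := by rw [hCdef]; linarith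
  rcases hk3 with (hk3 | hk3) | hk3
  · omega
  · exact hk3 (hC' ▸ hd)
  simp only [List.cons.injEq, and_true] at hk3
  obtain ⟨a1, a3, a6, aC⟩ := hk3
  have hn : Nat.card (Subgroup.centralizer ({t} : Set G)) = 384 := by omega
  rw [hn, a1, a3, a6] at p5
  have hq : (k : ℤ) * 147456 * 462 = 443520 * 704 := by
    apply Int.cast_injective (α := ℂ); push_cast; linear_combination (462 : ℂ) * p5
  omega

theorem Hyp.exists_table (h : Hyp G) : ∃ f : Fin 12 → IrrCharacter G, Table degs f := by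
  classical
  have := Fintype.ofFinite (IrrCharacter G)
  rcases h.degrees with hM | hM
  · obtain ⟨f, hf⟩ := exists_enum dg degs (hM.trans (by rfl))
    exact ⟨f, f.bijective, hf⟩
  · obtain ⟨f, hf⟩ := exists_enum dg degsB (hM.trans (by rfl))
    exact ((⟨f.bijective, hf⟩ : Table degsB f).not_second h).elim

theorem Hyp.card_centralizer_two (h : Hyp G) {t : G} (ht : orderOf t = 2) :
    Nat.card (Subgroup.centralizer ({t} : Set G)) = 384 := by
  obtain ⟨f, T⟩ := h.exists_table
  exact (T.at_two h ht).2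

theorem Hyp.one_class (h : Hyp G) {t t' : G} (ht : orderOf t = 2) (ht' : orderOf t' = 2) :
    IsConj t t' := by
  classical
  obtain ⟨f, T⟩ := h.exists_table
  by_contra hn
  have o := T.orth t t'
  rw [if_neg hn] at o
  simp [Fin.sum_univ_succ, (T.at_two h ht).1, (T.at_two h ht').1, vals2] at o
  norm_num at o

end Cfsg.Agent.OrderM22
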