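/-
Values away from the primes 5, 7, 11.

Main results (namespace `Cfsg.Agent.OrderM22`):
* `Off` : the elements concerned
* `Table.eq_of_dg`, `Table.conj_val`, `Table.pow_val` : the values are rational
* `Table.relations`, `Table.vanish_nine` : linear relations, zeros at 3-singular elements
-/
import Cfsg.Agent.Lib.OrderM22.Invol
import Cfsg.Agent.Lib.GaloisPow.Twist
import Cfsg.Agent.Lib.Char.PRegular
import Cfsg.Agent.Lib.Order7920.CyclicVals

set_option autoImplicit false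
set_option maxRecDepth 10000

open scoped ComplexConjugate

namespace Cfsg.Agent.OrderM22

open Cfsg Cfsg.Agent.Blocks

variable {G : Type*} [Group G] [Finite G]

/-- Elements of order prime to 5, 7 and 11. -/
def Off (g : G) : Prop := ¬ 5 ∣ orderOf g ∧ ¬ 7 ∣ orderOf g ∧ ¬ 11 ∣ orderOf g

theorem off_of_orderOf {g : G} {n : ℕ} (hg : orderOf g = n) (h5 : ¬ 5 ∣ n) (h7 : ¬ 7 ∣ n)
    (h11 : ¬ 11 ∣ n) : Off g := by
  subst hg; exact ⟨h5, h7, h11⟩

theorem degs_pairs : ∀ i j : Fin 12, degs i = degs j →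
    i = j ∨ ((i = 2 ∨ i = 3) ∧ (j = 2 ∨ j = 3)) ∨ ((i = 9 ∨ i = 10) ∧ (j = 9 ∨ j = 10)) := by decide

variable [IsSimpleGroup G] {f : Fin 12 → IrrCharacter G} (T : Table degs f) (h : Hyp G)

include T h

theorem Table.eq_of_dg {g : G} (hg : Off g) {ψ : IrrCharacter G} {i : Fin 12} (hψ : dg ψ = degs i) :
    (ψ : G → ℂ) g = (f i : G → ℂ) g := by
  obtain ⟨j, rfl⟩ := T.bij.2 ψ
  rw [T.deg] at hψ
  obtain ⟨z, y, x, t, hz, hy, hx, -⟩ := h.exists_elements
  obtain ⟨F7, E7, c7⟩ := h.col7 hy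
  obtain ⟨F, E, c11⟩ := h.col11 hx
  rcases degs_pairs j i hψ with rfl | ⟨ha, hb⟩ | ⟨ha, hb⟩
  · rfl
  · rcases ha with rfl | rfl <;> rcases hb with rfl | rfl <;>
      exact T.eq_of_exc c7 (by decide) (by decide) hg.2.1
  · rcases ha with rfl | rfl <;> rcases hb with rfl | rfl <;>
      exact T.eq_of_exc c11 (by decide) (by decide) hg.2.2

theorem Table.conj_val {g : G} (hg : Off g) (i : Fin 12) :
    conj ((f i : G → ℂ) g) = (f i : G → ℂ) g := by
  have := Fintype.ofFinite G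
  have e := T.eq_of_dg h hg (ψ := ⟨_, Char.IsIrrCharacter.conj (f i).2⟩) (i := i)
    (by simp [dg, charDegree]; exact T.deg i)
  exact e

theorem Table.pow_val {g : G} (hg : Off g) {j : ℕ} (hj : j.Coprime (Nat.card G)) (i : Fin 12) :
    (f i : G → ℂ) (g ^ j) = (f i : G → ℂ) g := by
  rw [← T.eq_of_dg h hg (ψ := GaloisPow.powIrr hj (f i)) (i := i)
    (by simp [dg, charDegree, GaloisPow.powIrr_apply]; exact T.deg i)]
  rfl

theorem Table.isConj_pow {g : G} (hg : Off g) {j : ℕ} (hj : j.Coprime (Nat.card G)) :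
    IsConj g (g ^ j) := by
  refine (Char.isConj_iff_irr _ _).mpr fun χ => ?_
  obtain ⟨i, rfl⟩ := T.bij.2 χ
  exact (T.pow_val h hg hj i).symm

theorem Table.vanish_nine {g : G} (h3 : 3 ∣ orderOf g) (i : Fin 12) (hi : i = 2 ∨ i = 3 ∨ i = 5) :
    (f i : G → ℂ) g = 0 := by
  refine Char.vanishes_of_defect_zero (by norm_num) (f i).2 (apply_one (f i)) ?_ g h3
  rw [h.card, T.deg]
  have hN : Nat.factorization 443520 3 = 2 := by
    rw [show (443520 : ℕ) = 3 ^ 2 * 49280 by norm_num, Nat.factorization_mul (by norm_num) (by norm_num),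
      Finsupp.add_apply, Nat.Prime.factorization_pow (by norm_num : Nat.Prime 3),
      Nat.factorization_eq_zero_of_not_dvd (by norm_num : ¬ 3 ∣ 49280), Finsupp.single_eq_same]
  rw [hN]
  refine ((by norm_num : Nat.Prime 3).pow_dvd_iff_le_factorization (by rcases hi with rfl | rfl | rfl <;> decide)).mp ?_
  rcases hi with rfl | rfl | rfl <;> decide

theorem Table.relations {g : G} (hg : Off g) (h1 : g ≠ 1) :
    (f 3 : G → ℂ) g = (f 2 : G → ℂ) g ∧ (f 10 : G → ℂ) g = (f 9 : G → ℂ) g ∧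
    (f 0 : G → ℂ) g = 1 ∧
    1 + (f 1 : G → ℂ) g - (f 5 : G → ℂ) g - (f 6 : G → ℂ) g + (f 8 : G → ℂ) g = 0 ∧
    1 - (f 4 : G → ℂ) g + (f 5 : G → ℂ) g - (f 2 : G → ℂ) g = 0 ∧
    1 - (f 1 : G → ℂ) g + 2 * (f 2 : G → ℂ) g + (f 7 : G → ℂ) g - (f 9 : G → ℂ) g = 0 ∧
    1 + 21 * (f 1 : G → ℂ) g + 90 * (f 2 : G → ℂ) g + 55 * (f 4 : G → ℂ) g + 99 * (f 5 : G → ℂ) g +
      154 * (f 6 : G → ℂ) g + 210 * (f 7 : G → ℂ) g + 231 * (f 8 : G → ℂ) g + 560 * (f 9 : G → ℂ) g +
      385 * (f 11 : G → ℂ) g = 0 := by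
  classical
  obtain ⟨z, y, x, t, hz, hy, hx, -⟩ := h.exists_elements
  obtain ⟨F5, E5, c5⟩ := h.col5 hz
  obtain ⟨F7, E7, c7⟩ := h.col7 hy
  obtain ⟨F, E, c11⟩ := h.col11 hx
  have e3 := T.eq_of_exc c7 (i := 3) (j := 2) (by decide) (by decide) hg.2.1
  have e10 := T.eq_of_exc c11 (i := 10) (j := 9) (by decide) (by decide) hg.2.2
  have e0 : (f 0 : G → ℂ) g = 1 := by
    have : f 0 = SmallOrders.BlockDegrees.oneChar G := by
      by_contra hn
      exact h.dg_ne_one hn (T.deg 0)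
    rw [this]; rfl
  have r5 := T.rel c5 hz hg.1
  have r7 := T.rel c7 hy hg.2.1
  have r11 := T.rel c11 hx hg.2.2
  have r1 := T.orth_one h1
  simp [Fin.sum_univ_succ, degs, w5, w7, w11, e0, e3, e10] at r5 r7 r11 r1
  refine ⟨e3, e10, e0, ?_, ?_, ?_, ?_⟩
  · linear_combination r5
  · linear_combination r7 / 2
  · linear_combination r11 / 2
  · linear_combination r1

/-- The orthogonality with the column of an involution. -/
theorem Table.orth_two {t g : G} (ht : orderOf t = 2) (hg : orderOf g ≠ 2) :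
    ∑ i, (f i : G → ℂ) g * (vals2 i : ℂ) = 0 := by
  classical
  have o := T.orth g t
  rw [if_neg fun e => hg (by rw [isConj_orderOf_eq e, ht])] at o
  simpa [(T.at_two h ht).1] using o

end Cfsg.Agent.OrderM22
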