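/-
The elements of order 3.

Main results (namespace `Cfsg.Agent.OrderM22`):
* `Hyp.card_centralizer_three` : `|C(u)| = 36`
* `Hyp.one_class_three` : one class of elements of order 3
* `Hyp.no_nine` : no element of order 9
-/
import Cfsg.Agent.Lib.OrderM22.Values
import Cfsg.Agent.Lib.Order7920.Local
import Cfsg.Agent.Lib.SameOrder.Basic

set_option autoImplicit false
set_option maxRecDepth 10000

open scoped ComplexConjugate

namespace Cfsg.Agent.OrderM22

open Cfsg Cfsg.Agent.Blocks Cfsg.Agent.SmallOrders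

variable {G : Type*} [Group G] [Finite G] [IsSimpleGroup G]

/-- Multiples of 3 of bounded size. -/
def mult3 : List ℤ := (List.range 23).map fun k : ℕ => 3 * (k : ℤ) - 33

/-- Integers congruent to `r` mod 3 of bounded size. -/
def res3 (r : ℤ) : List ℤ :=
  (((List.range 67).map fun k : ℕ => (k : ℤ) - 33).filter fun u => decide ((u - r) % 3 = 0))

theorem mem_mult3 {a : ℤ} (h1 : a % 3 = 0) (h2 : a.natAbs ≤ 33) : a ∈ mult3 :=
  List.mem_map.mpr ⟨(a / 3 + 11).toNat, List.mem_range.mpr (by omega), by omega⟩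

theorem mem_res3 {a r : ℤ} (h1 : (a - r) % 3 = 0) (h2 : a.natAbs ≤ 33) : a ∈ res3 r :=
  List.mem_filter.mpr ⟨List.mem_map.mpr ⟨(a + 33).toNat, List.mem_range.mpr (by omega), by omega⟩,
    decide_eq_true h1⟩

/-- The check for an element of order 3. -/
def checkThree : Bool :=
  mult3.all fun a21 => (res3 280).all fun a280 =>
    let a210 := -1 + a21 + a280
    decide (a210 % 3 ≠ 0) || (res3 154).all fun a154 =>
      let a231 := -1 + a154 - a21
      let s := 1 + 21 * a21 + 55 + 154 * a154 + 210 * a210 + 231 * a231 + 560 * a280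
      let a385 := -(s / 385)
      let C := 1 + a21 ^ 2 + 1 + a154 ^ 2 + a210 ^ 2 + a231 ^ 2 + 2 * a280 ^ 2 + a385 ^ 2
      decide (a231 % 3 ≠ 0) || decide (s % 385 ≠ 0) || decide ((a385 - 385) % 3 ≠ 0) ||
        decide ((1152 : ℤ) % C ≠ 0) || decide (C % 9 ≠ 0) ||
        decide (1 + 5 * a21 + 7 + 10 * a154 + 2 * a210 + 7 * a231 - 16 * a280 + a385 ≠ 0) ||
        (decide (a280 = 1) && decide (a385 = -2) &&
          decide ([a21, a154, a210, a231] ∈
            ([[-3, 1, -3, 3], [0, 1, 0, 0], [3, 1, 3, -3]] : List (List ℤ))))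

theorem checkThree_true : checkThree = true := by decide +kernel

/-- The possible columns of an element of order 3. -/
def cols3 : Fin 3 → Fin 12 → ℤ :=
  ![![1, -3, 0, 0, 1, 0, 1, -3, 3, 1, 1, -2], ![1, 0, 0, 0, 1, 0, 1, 0, 0, 1, 1, -2],
    ![1, 3, 0, 0, 1, 0, 1, 3, -3, 1, 1, -2]]

theorem cols3_inner : ∀ k l : Fin 3, ∑ i, cols3 k i * cols3 l i ≠ 0 := by decide +kernel

theorem cols3_norm : ∀ k, ∑ i, cols3 k i ^ 2 = ![36, 9, 36] k := by decide +kernel

theorem natAbs_le_of_sq {a : ℤ} {n : ℕ} {b : ℤ} (h : a ^ 2 ≤ b) (hb : b < ((n : ℤ) + 1) ^ 2) :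
    a.natAbs ≤ n := by
  by_contra hlt
  have h3 : (n : ℤ) + 1 ≤ (a.natAbs : ℤ) := by omega
  have h4 : ((a.natAbs : ℤ)) ^ 2 = a ^ 2 := Int.natAbs_sq a
  nlinarith

theorem nine_dvd_centralizer (h : Hyp G) {u : G} (hu : orderOf u = 3) :
    9 ∣ Nat.card (Subgroup.centralizer ({u} : Set G)) := by
  have : Fact (Nat.Prime 3) := ⟨by norm_num⟩
  obtain ⟨P, hP⟩ := (IsPGroup.of_card (G := Subgroup.zpowers u) (n := 1)
    (show Nat.card (Subgroup.zpowers u) = 3 ^ 1 by rw [Nat.card_zpowers, hu, pow_one])).exists_le_sylow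
  have hcard : Nat.card (P : Subgroup G) = 3 ^ 2 :=
    card_sylow_subgroup (h.card.trans (show (443520 : ℕ) = 3 ^ 2 * 49280 by norm_num)) (by norm_num) P
  have hcomm : IsMulCommutative (P : Subgroup G) := IsPGroup.isMulCommutative_of_card_eq_prime_sq hcard
  have hle : (P : Subgroup G) ≤ Subgroup.centralizer ({u} : Set G) := fun x hx =>
    Subgroup.mem_centralizer_singleton_iff.mpr
      (congrArg Subtype.val (mul_comm' (⟨x, hx⟩ : (P : Subgroup G)) ⟨u, hP (Subgroup.mem_zpowers u)⟩))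
  have := Subgroup.card_dvd_of_le hle
  rwa [hcard] at this

theorem Table.at_three {f : Fin 12 → IrrCharacter G} (T : Table degs f) (h : Hyp G) {u : G}
    (hu : orderOf u = 3) : ∃ k : Fin 3, ∀ i, (f i : G → ℂ) u = cols3 k i := by
  classical
  have hoff : Off u := off_of_orderOf hu (by norm_num) (by norm_num) (by norm_num)
  have hu1 : u ≠ 1 := fun e => by rw [e, orderOf_one] at hu; omega
  have hu3 : u ^ 3 = 1 := by rw [← hu, pow_orderOf_eq_one]
  have hint : ∀ i, ∃ a : ℤ, (f i : G → ℂ) u = a ∧ (a - (degs i : ℤ)) % 3 = 0 := by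
    intro i
    have hc := Char.IsIrrCharacter.isCharacter (f i).2
    obtain ⟨a, ha, hd⟩ := Order7920.val_rational hc (apply_one (f i)) (g := u) (n := 3) (by norm_num) hu3
      fun k hk hk0 => by
        rw [Finset.mem_range] at hk
        interval_cases k
        · exact absurd rfl hk0
        · rw [pow_one]
        · rw [Order7920.conj_pow_two_of_three hc hu3, T.conj_val h hoff i]
    rw [T.deg] at hd
    exact ⟨a, ha, by omega⟩
  choose a ha ham using hint
  obtain ⟨e3, e10, e0, i5, i7, i11, i1⟩ := T.relations h hoff hu1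
  have hz : ∀ i, i = 2 ∨ i = 3 ∨ i = 5 → a i = 0 := fun i hi => by
    have := T.vanish_nine h (g := u) (by rw [hu]) i hi
    rw [ha] at this; exact_mod_cast this
  have b0 : a 0 = 1 := by rw [ha] at e0; exact_mod_cast e0
  have b10 : a 10 = a 9 := by rw [ha, ha] at e10; exact_mod_cast e10
  have b2 := hz 2 (by simp)
  have b3 := hz 3 (by simp)
  have b5 := hz 5 (by simp)
  simp only [ha, b2, b5, Int.cast_zero, mul_zero, add_zero, sub_zero] at i5 i7 i11 i1
  have j5 : 1 + a 1 - a 6 + a 8 = 0 := by exact_mod_cast i5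
  have j7 : 1 - a 4 = 0 := by exact_mod_cast i7
  have j11 : 1 - a 1 + a 7 - a 9 = 0 := by exact_mod_cast i11
  have j1 : 1 + 21 * a 1 + 55 * a 4 + 154 * a 6 + 210 * a 7 + 231 * a 8 + 560 * a 9 + 385 * a 11 = 0 := by
    exact_mod_cast i1
  have oT := T.orth_two h (t := (h.exists_elements).choose_spec.choose_spec.choose_spec.choose)
    (h.exists_elements).choose_spec.choose_spec.choose_spec.choose_spec.2.2.2 (g := u) (by omega)
  simp [Fin.sum_univ_succ, vals2, ha, b0, b2, b3, b5, b10] at oT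
  have jT : 1 + 5 * a 1 + 7 * a 4 + 10 * a 6 + 2 * a 7 + 7 * a 8 - 16 * a 9 + a 11 = 0 := by
    apply Int.cast_injective (α := ℂ); push_cast; linear_combination oT
  set C := Nat.card (Subgroup.centralizer ({u} : Set G)) with hCdef
  have hC : ∑ i, a i ^ 2 = (C : ℤ) := by
    have o := T.orth u u
    rw [if_pos (IsConj.refl u)] at o
    apply Int.cast_injective (α := ℂ)
    push_cast
    rw [← o]
    exact Finset.sum_congr rfl fun i _ => by rw [ha, map_intCast]; ring
  have hC1 : C ∣ 1152 := h.centralizer_dvd hu1 (by omega) (by omega) (by omega)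
  have hb : ∀ i, (a i).natAbs ≤ 33 := fun i => natAbs_le_of_sq (b := 1152)
    ((Finset.single_le_sum (f := fun j => a j ^ 2) (fun j _ => sq_nonneg _) (Finset.mem_univ i)).trans
      (by rw [hC]; exact_mod_cast Nat.le_of_dvd (by norm_num) hC1)) (by norm_num)
  simp [Fin.sum_univ_succ, b0, b2, b3, b5, b10, show a 4 = 1 by omega] at hC
  have hk := checkThree_true
  simp only [checkThree, List.all_eq_true, Bool.or_eq_true, Bool.and_eq_true, decide_eq_true_eq] at hk
  have m1 := ham 1; have m6 := ham 6; have m7 := ham 7; have m8 := ham 8; have m9 := ham 9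
  have m11 := ham 11
  simp only [degs, Matrix.cons_val] at m1 m6 m7 m8 m9 m11
  have hk1 := hk (a 1) (mem_mult3 (by omega) (hb 1)) (a 9) (mem_res3 (by omega) (hb 9))
  rw [show -1 + a 1 + a 9 = a 7 by omega] at hk1
  rcases hk1 with hk1 | hk1
  · omega
  have hk2 := hk1 (a 6) (mem_res3 (by omega) (hb 6))
  rw [show -1 + a 6 - a 1 = a 8 by omega] at hk2
  set s := 1 + 21 * a 1 + 55 + 154 * a 6 + 210 * a 7 + 231 * a 8 + 560 * a 9 with hs
  rw [show -(s / 385) = a 11 by omega] at hk2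
  rcases hk2 with (((((hk2 | hk2) | hk2) | hk2) | hk2) | hk2) | hk2
  · omega
  · omega
  · omega
  · refine absurd ?_ hk2
    rw [show 1 + a 1 ^ 2 + 1 + a 6 ^ 2 + a 7 ^ 2 + a 8 ^ 2 + 2 * a 9 ^ 2 + a 11 ^ 2 = (C : ℤ) by linarith]
    exact Int.emod_eq_zero_of_dvd (Int.natCast_dvd_natCast.mpr hC1)
  · refine absurd ?_ hk2
    rw [show 1 + a 1 ^ 2 + 1 + a 6 ^ 2 + a 7 ^ 2 + a 8 ^ 2 + 2 * a 9 ^ 2 + a 11 ^ 2 = (C : ℤ) by linarith]
    exact Int.emod_eq_zero_of_dvd (Int.natCast_dvd_natCast.mpr (nine_dvd_centralizer h hu))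
  · omega
  obtain ⟨⟨e9, e11⟩, hlist⟩ := hk2
  simp only [List.mem_cons, List.cons.injEq, and_true, List.not_mem_nil, or_false] at hlist
  rcases hlist with ⟨e1, e6, e7, e8⟩ | ⟨e1, e6, e7, e8⟩ | ⟨e1, e6, e7, e8⟩
  · exact ⟨0, fun i => by rw [ha]; congr 1; fin_cases i <;> simp [cols3, b0, b2, b3, b5, b10, e1, e6, e7, e8, e9, e11]; omega⟩
  · exact ⟨1, fun i => by rw [ha]; congr 1; fin_cases i <;> simp [cols3, b0, b2, b3, b5, b10, e1, e6, e7, e8, e9, e11]; omega⟩
  · exact ⟨2, fun i => by rw [ha]; congr 1; fin_cases i <;> simp [cols3, b0, b2, b3, b5, b10, e1, e6, e7, e8, e9, e11]; omega⟩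

theorem Hyp.one_class_three (h : Hyp G) {u v : G} (hu : orderOf u = 3) (hv : orderOf v = 3) :
    IsConj u v := by
  classical
  obtain ⟨f, T⟩ := h.exists_table
  obtain ⟨k, hk⟩ := T.at_three h hu
  obtain ⟨l, hl⟩ := T.at_three h hv
  by_contra hn
  have o := T.orth u v
  rw [if_neg hn] at o
  simp only [hk, hl, map_intCast] at o
  exact cols3_inner k l (by exact_mod_cast o)

/-- There is no element of order 9. -/
theorem Hyp.no_nine (h : Hyp G) (g : G) : orderOf g ≠ 9 := by
  intro hg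
  have : Fact (Nat.Prime 3) := ⟨by norm_num⟩
  obtain ⟨f, T⟩ := h.exists_table
  have hg9 : g ^ 9 = 1 := by rw [← hg, pow_orderOf_eq_one]
  obtain ⟨c, hc⟩ := isConj_iff.mp (T.isConj_pow h
    (off_of_orderOf hg (by norm_num) (by norm_num) (by norm_num)) (j := 13)
    (by rw [h.card]; norm_num))
  have h4 : c * g * c⁻¹ = g ^ 4 := by
    rw [hc, show (13 : ℕ) = 9 + 4 by norm_num, pow_add, hg9, one_mul]
  -- the order of `c` and a power of 3-power order inducing the same automorphism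
  obtain ⟨b, m, hm, hcm⟩ : ∃ b m : ℕ, ¬ 3 ∣ m ∧ orderOf c = 3 ^ b * m := by
    obtain ⟨b, m, hm, h'⟩ := Nat.exists_eq_pow_mul_and_not_dvd (orderOf_pos c).ne' 3 (by norm_num)
    exact ⟨b, m, hm, h'⟩
  obtain ⟨r, hr, hrm⟩ : ∃ r, r % 3 = 1 ∧ m ∣ r := by
    by_cases hm1 : m % 3 = 1
    · exact ⟨m, hm1, dvd_refl m⟩
    · exact ⟨2 * m, by omega, dvd_mul_left m 2⟩
  set d := c ^ r
  have hdg : d * g * d⁻¹ = g ^ (4 ^ r) := Order7920.conj_pow_iterate h4 r
  have hd4 : g ^ (4 ^ r) = g ^ 4 := by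
    rw [pow_eq_pow_iff_modEq, hg]
    obtain ⟨q, hq⟩ : ∃ q, r = 3 * q + 1 := ⟨r / 3, by omega⟩
    rw [hq, pow_add, pow_mul, pow_one, show (4 : ℕ) ^ 3 = 64 from rfl]
    calc 64 ^ q * 4 ≡ 1 ^ q * 4 [MOD 9] := (Nat.ModEq.pow q (by decide)).mul_right 4
      _ = 4 := by rw [one_pow, one_mul]
  rw [hd4] at hdg
  have hdp : d ^ 3 ^ b = 1 := by
    obtain ⟨s, rfl⟩ := hrm
    rw [← pow_mul, show m * s * 3 ^ b = (3 ^ b * m) * s by ring, ← hcm, pow_mul, pow_orderOf_eq_one,
      one_pow]
  have hP : IsPGroup 3 (Subgroup.zpowers g) := IsPGroup.of_card (n := 2) (by rw [Nat.card_zpowers, hg]; rfl)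
  have hQ : IsPGroup 3 (Subgroup.zpowers d) := by
    obtain ⟨i, -, hi⟩ := (Nat.dvd_prime_pow (by norm_num)).mp (orderOf_dvd_of_pow_eq_one hdp)
    exact IsPGroup.of_card (n := i) (by rw [Nat.card_zpowers, hi])
  have hnorm : Subgroup.zpowers d ≤ Subgroup.normalizer (Subgroup.zpowers g : Set G) := by
    rw [Subgroup.zpowers_le]
    have hmap : ∀ k : ℤ, d * g ^ k * d⁻¹ = g ^ (4 * k) := fun k => by
      rw [← conj_zpow, hdg, ← zpow_natCast g 4, ← zpow_mul]; norm_num
    rw [Subgroup.mem_normalizer_iff]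
    intro x
    refine ⟨fun hx => ?_, fun hx => ?_⟩
    · obtain ⟨k, rfl⟩ := hx
      exact ⟨4 * k, (hmap k).symm⟩
    · obtain ⟨k, hk⟩ := hx
      refine ⟨-2 * k, ?_⟩
      have hk' : g ^ k = d * x * d⁻¹ := hk
      have e := hmap (-2 * k)
      have hg9' : g ^ (-9 : ℤ) = 1 := by
        rw [show (-9 : ℤ) = -((9 : ℕ) : ℤ) by norm_num, zpow_neg, zpow_natCast, hg9, inv_one]
      rw [show 4 * (-2 * k) = k + (-9) * k by ring, zpow_add, zpow_mul g (-9), hg9', one_zpow, mul_one, hk'] at e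
      exact mul_left_cancel (mul_right_cancel e)
  obtain ⟨P, hPle⟩ := (hP.to_sup_of_normal_left' hQ hnorm).exists_le_sylow
  have hcard : Nat.card (P : Subgroup G) = 3 ^ 2 :=
    card_sylow_subgroup (h.card.trans (show (443520 : ℕ) = 3 ^ 2 * 49280 by norm_num)) (by norm_num) P
  have hcomm : IsMulCommutative (P : Subgroup G) := IsPGroup.isMulCommutative_of_card_eq_prime_sq hcard
  have hdc : d * g = g * d := congrArg Subtype.val (mul_comm'
    (⟨d, hPle (Subgroup.mem_sup_right (Subgroup.mem_zpowers d))⟩ : (P : Subgroup G))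
    ⟨g, hPle (Subgroup.mem_sup_left (Subgroup.mem_zpowers g))⟩)
  rw [hdc, mul_inv_cancel_right] at hdg
  have h13 : g ^ 3 = 1 := by
    apply mul_left_cancel (a := g)
    rw [mul_one, ← pow_succ', ← hdg]
  have := Nat.le_of_dvd (by norm_num) (orderOf_dvd_of_pow_eq_one h13)
  omega

/-- The check for an element of order 6 over the first column. -/
def checkSix : Bool :=
  let r (t f : ℤ) := (((List.range 13).map fun k : ℕ => (k : ℤ) - 6).filter fun u =>
    decide ((u - t) % 3 = 0) && decide ((u - f) % 2 = 0))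
  (r 5 (-3)).all fun a21 => (r 10 1).all fun a154 =>
    (((List.range 13).map fun k : ℕ => (k : ℤ) - 6).filter fun u => decide ((u + 8) % 3 = 0)).all fun a280 =>
      let a210 := -1 + a21 + a280
      let a231 := -1 + a154 - a21
      let s := 1 + 21 * a21 + 55 + 154 * a154 + 210 * a210 + 231 * a231 + 560 * a280
      let a385 := -(s / 385)
      !decide (a210 ∈ r 2 (-3)) || !decide (a231 ∈ r 7 3) || decide (s % 385 ≠ 0) ||
        decide (36 < 1 + a21 ^ 2 + 1 + a154 ^ 2 + a210 ^ 2 + a231 ^ 2 + 2 * a280 ^ 2 + a385 ^ 2) ||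
        decide (1 + 5 * a21 + 7 + 10 * a154 + 2 * a210 + 7 * a231 - 16 * a280 + a385 ≠ 0) ||
        decide (1 - 3 * a21 + 1 + a154 - 3 * a210 + 3 * a231 + 2 * a280 - 2 * a385 ≠ 0)

theorem checkSix_true : checkSix = true := by decide +kernel

/-- Values at an element of order 6. -/
theorem Table.int_six {f : Fin 12 → IrrCharacter G} (T : Table degs f) (h : Hyp G) {t u : G}
    (ht : orderOf t = 2) (hu : orderOf u = 3) (htu : Commute t u) (k : Fin 3)
    (hk : ∀ i, (f i : G → ℂ) u = cols3 k i) (i : Fin 12) :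
    ∃ a : ℤ, (f i : G → ℂ) (t * u) = a ∧ (a - vals2 i) % 3 = 0 ∧ (a - cols3 k i) % 2 = 0 := by
  have hc := Char.IsIrrCharacter.isCharacter (f i).2
  have ho : orderOf (t * u) = 6 := by
    rw [htu.orderOf_mul_eq_mul_orderOf_of_coprime (by rw [ht, hu]; norm_num), ht, hu]
  have hreal := T.conj_val h (off_of_orderOf ho (by norm_num) (by norm_num) (by norm_num)) i
  obtain ⟨K, q, z, s, qu, hK, hq, hz, hs, hqu, d3, -, d2⟩ := Order7920.val_six hc (apply_one (f i))
    (t := t) (u := u) (by rw [← ht, pow_orderOf_eq_one]) (by rw [← hu, pow_orderOf_eq_one]) htu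
  rw [hreal] at hK hq
  obtain ⟨a, ha, ha2⟩ := Order7920.int_of_rat (k := 2) (a := K) (by norm_num)
    (Order7920.isIntegral_apply hc (t * u)) (by push_cast; linear_combination hK)
  have hqa : q = a ^ 2 := by
    rw [ha] at hq; apply Int.cast_injective (α := ℂ); push_cast; linear_combination -hq
  have hz' : z = vals2 i := by
    rw [(T.at_two h ht).1 i] at hz; exact_mod_cast hz.symm
  have hqu' : qu = cols3 k i ^ 2 := by
    rw [hk i, map_intCast] at hqu; apply Int.cast_injective (α := ℂ); push_cast; linear_combination -hqu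
  refine ⟨a, ha, by omega, ?_⟩
  rw [hqa, hqu'] at d2
  have e : (2 : ℤ) ∣ (a - cols3 k i) * (a + cols3 k i) := by
    convert d2 using 1; ring
  rcases Int.prime_two.dvd_or_dvd e with e | e <;> omega

theorem natAbs_le_six {a : ℤ} (h : a ^ 2 ≤ 36) : a.natAbs ≤ 6 := natAbs_le_of_sq h (by norm_num)

/-- The first column does not occur. -/
theorem Table.not_first {f : Fin 12 → IrrCharacter G} (T : Table degs f) (h : Hyp G) {u : G}
    (hu : orderOf u = 3) (hk : ∀ i, (f i : G → ℂ) u = cols3 0 i) : False := by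
  classical
  have : Fact (Nat.Prime 2) := ⟨Nat.prime_two⟩
  have o := T.orth u u
  rw [if_pos (IsConj.refl u)] at o
  simp only [hk, map_intCast] at o
  have hC : Nat.card (Subgroup.centralizer ({u} : Set G)) = 36 := by
    have e : (∑ i, cols3 0 i * cols3 0 i : ℤ) = (Nat.card (Subgroup.centralizer ({u} : Set G)) : ℤ) := by
      exact_mod_cast o
    rw [show (∑ i, cols3 0 i * cols3 0 i : ℤ) = 36 by decide +kernel] at e
    omega
  obtain ⟨⟨t, htC⟩, ht⟩ := exists_prime_orderOf_dvd_card' (G := Subgroup.centralizer ({u} : Set G)) 2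
    (by rw [hC]; norm_num)
  rw [Subgroup.orderOf_mk] at ht
  have htu : Commute t u := Subgroup.mem_centralizer_singleton_iff.mp htC
  have ho : orderOf (t * u) = 6 := by
    rw [htu.orderOf_mul_eq_mul_orderOf_of_coprime (by rw [ht, hu]; norm_num), ht, hu]
  have hoff : Off (t * u) := off_of_orderOf ho (by norm_num) (by norm_num) (by norm_num)
  choose a ha a3 a2 using T.int_six h ht hu htu 0 hk
  have hne : t * u ≠ 1 := fun e => by rw [e, orderOf_one] at ho; omega
  obtain ⟨e3, e10, e0, i5, i7, i11, i1⟩ := T.relations h hoff hne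
  have hz : ∀ i, i = 2 ∨ i = 3 ∨ i = 5 → a i = 0 := fun i hi => by
    have := T.vanish_nine h (g := t * u) (by rw [ho]; norm_num) i hi
    rw [ha] at this; exact_mod_cast this
  have b0 : a 0 = 1 := by rw [ha] at e0; exact_mod_cast e0
  have b10 : a 10 = a 9 := by rw [ha, ha] at e10; exact_mod_cast e10
  have b2 := hz 2 (by simp)
  have b3 := hz 3 (by simp)
  have b5 := hz 5 (by simp)
  simp only [ha, b2, b5, Int.cast_zero, mul_zero, add_zero, sub_zero] at i5 i7 i11 i1
  have j5 : 1 + a 1 - a 6 + a 8 = 0 := by exact_mod_cast i5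
  have j7 : 1 - a 4 = 0 := by exact_mod_cast i7
  have j11 : 1 - a 1 + a 7 - a 9 = 0 := by exact_mod_cast i11
  have j1 : 1 + 21 * a 1 + 55 * a 4 + 154 * a 6 + 210 * a 7 + 231 * a 8 + 560 * a 9 + 385 * a 11 = 0 := by
    exact_mod_cast i1
  have oT := T.orth_two h ht (g := t * u) (by omega)
  simp [Fin.sum_univ_succ, vals2, ha, b0, b2, b3, b5, b10] at oT
  have jT : 1 + 5 * a 1 + 7 * a 4 + 10 * a 6 + 2 * a 7 + 7 * a 8 - 16 * a 9 + a 11 = 0 := by
    apply Int.cast_injective (α := ℂ); push_cast; linear_combination oT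
  have oU := T.orth (t * u) u
  rw [if_neg fun e => by have := isConj_orderOf_eq e; omega] at oU
  simp [Fin.sum_univ_succ, cols3, ha, hk, b0, b2, b3, b5, b10] at oU
  have jU : 1 - 3 * a 1 + a 4 + a 6 - 3 * a 7 + 3 * a 8 + 2 * a 9 - 2 * a 11 = 0 := by
    apply Int.cast_injective (α := ℂ); push_cast; linear_combination oU
  have hsum : ∑ i, a i ^ 2 ≤ 36 := by
    have o6 := T.orth (t * u) (t * u)
    rw [if_pos (IsConj.refl _)] at o6
    have e : (∑ i, a i ^ 2 : ℤ) = (Nat.card (Subgroup.centralizer ({t * u} : Set G)) : ℤ) := by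
      apply Int.cast_injective (α := ℂ); push_cast; rw [← o6]
      exact Finset.sum_congr rfl fun i _ => by rw [ha, map_intCast]; ring
    rw [e]
    have hle : Subgroup.centralizer ({t * u} : Set G) ≤ Subgroup.centralizer ({u} : Set G) := by
      intro c hc
      rw [Subgroup.mem_centralizer_singleton_iff] at hc ⊢
      have h4 : (t * u) ^ 4 = u := by
        rw [htu.mul_pow, show t ^ 4 = (t ^ 2) ^ 2 by rw [← pow_mul], show t ^ 2 = 1 by rw [← ht, pow_orderOf_eq_one],
          one_pow, one_mul, show (4 : ℕ) = 3 + 1 by norm_num, pow_succ,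
          show u ^ 3 = 1 by rw [← hu, pow_orderOf_eq_one], one_mul]
      rw [← h4]
      exact (Commute.pow_right (show Commute c (t * u) from hc) 4).eq
    have := Nat.le_of_dvd (by rw [hC]; norm_num) (Subgroup.card_dvd_of_le hle)
    rw [hC] at this
    exact_mod_cast this
  have hb : ∀ i, (a i).natAbs ≤ 6 := fun i => natAbs_le_six
    ((Finset.single_le_sum (f := fun j => a j ^ 2) (fun j _ => sq_nonneg _) (Finset.mem_univ i)).trans hsum)
  have mem : ∀ {x : ℤ}, x.natAbs ≤ 6 → x ∈ (List.range 13).map fun k : ℕ => (k : ℤ) - 6 := fun {x} hx =>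
    List.mem_map.mpr ⟨(x + 6).toNat, List.mem_range.mpr (by omega), by omega⟩
  simp [Fin.sum_univ_succ, b0, b2, b3, b5, b10, show a 4 = 1 by omega] at hsum
  have t1 := a3 1; have t6 := a3 6; have t7 := a3 7; have t8 := a3 8; have t9 := a3 9
  have p1 := a2 1; have p6 := a2 6; have p7 := a2 7; have p8 := a2 8
  simp only [vals2, cols3, Matrix.cons_val] at t1 t6 t7 t8 t9 p1 p6 p7 p8
  have hk2 := checkSix_true
  simp only [checkSix, List.all_eq_true, List.mem_filter, Bool.or_eq_true, Bool.and_eq_true,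
    Bool.not_eq_true', decide_eq_true_eq, decide_eq_false_iff_not] at hk2
  have hk3 := hk2 (a 1) ⟨mem (hb 1), by omega, by omega⟩ (a 6) ⟨mem (hb 6), by omega, by omega⟩
    (a 9) ⟨mem (hb 9), by omega⟩
  rw [show -1 + a 1 + a 9 = a 7 by omega, show -1 + a 6 - a 1 = a 8 by omega] at hk3
  set s := 1 + 21 * a 1 + 55 + 154 * a 6 + 210 * a 7 + 231 * a 8 + 560 * a 9 with hs
  rw [show -(s / 385) = a 11 by omega] at hk3
  rcases hk3 with ((((hk3 | hk3) | hk3) | hk3) | hk3) | hk3
  · exact hk3 ⟨mem (hb 7), by omega, by omega⟩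
  · exact hk3 ⟨mem (hb 8), by omega, by omega⟩
  · omega
  · linarith
  · omega
  · omega

theorem Hyp.card_centralizer_three (h : Hyp G) {u : G} (hu : orderOf u = 3) :
    Nat.card (Subgroup.centralizer ({u} : Set G)) = 36 := by
  classical
  obtain ⟨f, T⟩ := h.exists_table
  obtain ⟨k, hk⟩ := T.at_three h hu
  have o := T.orth u u
  rw [if_pos (IsConj.refl u)] at o
  simp only [hk, map_intCast] at o
  have e : (∑ i, cols3 k i ^ 2 : ℤ) = (Nat.card (Subgroup.centralizer ({u} : Set G)) : ℤ) := by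
    apply Int.cast_injective (α := ℂ); push_cast; rw [← o]; simp [pow_two]
  rw [cols3_norm k] at e
  fin_cases k
  · exact (T.not_first h hu hk).elim
  · exfalso
    simp at e
    have hC : Nat.card (Subgroup.centralizer ({u} : Set G)) = 9 := by omega
    have hcl := card_isConj_class u
    rw [hC, h.card] at hcl
    have heq : SameOrder.numOrder G 3 = Nat.card {g : G // IsConj u g} :=
      Nat.card_congr (Equiv.subtypeEquivRight fun g =>
        ⟨fun hg => h.one_class_three hu hg, fun hg => (isConj_orderOf_eq hg).symm.trans hu⟩)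
    have h9 : SameOrder.numOrder G 9 = 0 := by
      by_contra hne
      obtain ⟨g, hg⟩ := SameOrder.numOrder_ne_zero_iff.mp hne
      exact h.no_nine g hg
    have hd := SameOrder.dvd_prime_sq (G := G) (p := 3) (by norm_num) (by rw [h.card]; norm_num)
    rw [show (3 : ℕ) ^ 2 = 9 by norm_num, heq, h9, show Nat.card {g : G // IsConj u g} = 49280 by omega] at hd
    omega
  · simp at e; omega

end Cfsg.Agent.OrderM22
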