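/-
The involutions commuting with an element of order 3.

Main results (namespace `Cfsg.Agent.OrderM22`):
* `Hyp.four_spec` : they form with 1 a four group containing every 2-element of the centraliser,
  and are permuted transitively by it
* `Hyp.card_three_in` : 32 elements of order 3 commute with an involution
-/
import Cfsg.Agent.Lib.OrderM22.Three

set_option autoImplicit false

namespace Cfsg.Agent.OrderM22

open Subgroup Cfsg.Agent.SmallOrders

variable {G : Type*} [Group G]

/-- The elements commuting with `x` whose square is 1. -/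
def four (x : G) : Set G := {g | g * g = 1 ∧ Commute g x}

theorem four_one (x : G) : (1 : G) ∈ four x := ⟨one_mul 1, Commute.one_left x⟩

theorem orderOf_of_mem_four {x g : G} (hg : g ∈ four x) (h1 : g ≠ 1) : orderOf g = 2 :=
  orderOf_eq_prime (by rw [pow_two, hg.1]) h1

variable [Finite G] [IsSimpleGroup G]

theorem Hyp.not_centralize_nine (h : Hyp G) {i : G} (hi : orderOf i = 2) {P : Subgroup G}
    (hP : Nat.card P = 9) : ∃ p ∈ P, ¬ Commute i p := by
  by_contra hc
  push Not at hc
  have hle : P ≤ centralizer ({i} : Set G) := fun p hp => mem_centralizer_singleton_iff.mpr (hc p hp).symm.eq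
  have := Subgroup.card_dvd_of_le hle
  rw [hP, h.card_centralizer_two hi] at this
  norm_num at this

theorem Hyp.exists_normal_four (h : Hyp G) {u : G} (hu : orderOf u = 3) :
    ∃ W : Subgroup G, Nat.card W = 4 ∧ (∀ g ∈ W, Commute g u) ∧
      (∀ (g : G) (n : ℕ), Commute g u → g ^ 2 ^ n = 1 → g ∈ W) ∧
      ∃ x i : G, i ∈ W ∧ x ^ 3 = 1 ∧ Commute x u ∧ x * i * x⁻¹ ≠ i ∧
        ∀ w ∈ W, x * w * x⁻¹ ∈ W := by
  classical
  have : Fact (Nat.Prime 3) := ⟨by norm_num⟩
  have : Fact (Nat.Prime 2) := ⟨Nat.prime_two⟩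
  set C := centralizer ({u} : Set G) with hCdef
  have hC : Nat.card C = 36 := h.card_centralizer_three hu
  let P : Sylow 3 C := default
  have hP : Nat.card (P : Subgroup C) = 9 :=
    (card_sylow_subgroup (hC.trans (show (36 : ℕ) = 3 ^ 2 * 4 by norm_num)) (by norm_num) P).trans (by norm_num)
  have hcomm : IsMulCommutative (P : Subgroup C) :=
    IsPGroup.isMulCommutative_of_card_eq_prime_sq (p := 3) (hP.trans (by norm_num))
  -- an involution of `C` does not centralise `P`
  have hno : ∀ i : C, orderOf i = 2 → ∃ p ∈ P, ¬ Commute i p := by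
    intro i hi
    obtain ⟨p, hp, hpi⟩ := h.not_centralize_nine (i := (i : G)) (by rw [Subgroup.orderOf_coe, hi])
      (P := (P : Subgroup C).map C.subtype)
      (by rw [Nat.card_congr ((P : Subgroup C).equivMapOfInjective C.subtype C.subtype_injective).toEquiv.symm, hP])
    obtain ⟨q, hq, rfl⟩ := hp
    exact ⟨q, hq, fun e => hpi (congrArg Subtype.val e.eq)⟩
  have hpow : ∀ w : C, w ≠ 1 → ∀ n : ℕ, w ^ 2 ^ n = 1 → ∃ m : ℕ, orderOf (w ^ m) = 2 := by
    intro w hw n hn
    obtain ⟨j, -, hj⟩ := (Nat.dvd_prime_pow Nat.prime_two).mp (orderOf_dvd_of_pow_eq_one hn)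
    cases j with
    | zero => exact absurd (orderOf_eq_one_iff.mp (by simpa using hj)) hw
    | succ j =>
      exact ⟨2 ^ j, by
        rw [orderOf_pow_of_dvd (by positivity) (by rw [hj, pow_succ]; exact dvd_mul_right _ _), hj,
          pow_succ, Nat.mul_div_cancel_left _ (by positivity)]⟩
  -- the Sylow 3-subgroup is not normal
  have hn := card_normalizer_mul_card_sylow P
  have hle : (P : Subgroup C) ≤ normalizer ((P : Subgroup C) : Set C) := le_normalizer
  have hd := Subgroup.card_dvd_of_le hle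
  rw [hP] at hd
  rw [hC] at hn
  have hmod : Nat.card (Sylow 3 C) % 3 = 1 := card_sylow_modEq_one 3 C
  have hN : Nat.card (normalizer ((P : Subgroup C) : Set C)) = 9 := by
    obtain ⟨c, hc⟩ := hd
    rw [hc] at hn
    have hc4 : c * Nat.card (Sylow 3 C) = 4 := by linarith
    have : c ∣ 4 := ⟨_, hc4.symm⟩
    have hc' : c ≤ 4 := Nat.le_of_dvd (by norm_num) this
    interval_cases c
    · omega
    · omega
    · omega
    · omega
    · exfalso
      have htop : normalizer ((P : Subgroup C) : Set C) = ⊤ :=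
        Subgroup.eq_top_of_card_eq _ (by rw [hc, hC])
      let W : Sylow 2 C := default
      have hW : Nat.card (W : Subgroup C) = 4 :=
        (card_sylow_subgroup (hC.trans (show (36 : ℕ) = 2 ^ 2 * 9 by norm_num)) (by norm_num) W).trans (by norm_num)
      let uC : C := ⟨u, mem_centralizer_singleton_iff.mpr rfl⟩
      have huc : ∀ g : C, Commute g uC := fun g => Subtype.ext (mem_centralizer_singleton_iff.mp g.2)
      have huC : orderOf uC = 3 := by rw [← Subgroup.orderOf_coe]; exact hu
      have huP : uC ∈ (P : Subgroup C) := by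
        have hp : IsPGroup 3 (zpowers uC) :=
          IsPGroup.of_card (n := 1) (by rw [Nat.card_zpowers, huC, pow_one])
        obtain ⟨Q, hQ⟩ := hp.exists_le_sylow
        obtain ⟨g, rfl⟩ := MulAction.exists_smul_eq C P Q
        have e : g • P = P := Sylow.smul_eq_of_normal (h := Subgroup.normalizer_eq_top_iff.mp htop)
        rw [e] at hQ
        exact hQ (mem_zpowers uC)
      set X : Set C := ((P : Subgroup C) : Set C) \ (zpowers uC : Set C) with hXdef
      have hX : X.ncard = 6 := by
        have h9 : ((P : Subgroup C) : Set C).ncard = 9 := by rw [← Nat.card_coe_set_eq]; exact hP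
        have h3 : (zpowers uC : Set C).ncard = 3 := by
          rw [← Nat.card_coe_set_eq]
          exact (Nat.card_zpowers uC).trans huC
        rw [hXdef, Set.ncard_sdiff (zpowers_le.mpr huP), h9, h3]
      by_cases hfix : ∃ w ∈ (W : Subgroup C), w ≠ 1 ∧ ∃ q ∈ X, Commute w q
      · obtain ⟨w, hw, hw1, q, hq, hwq⟩ := hfix
        have hall : ∀ p ∈ (P : Subgroup C), Commute w p := by
          set H := (P : Subgroup C) ⊓ centralizer ({w} : Set C)
          have hUH : zpowers uC ≤ H := zpowers_le.mpr ⟨huP, mem_centralizer_singleton_iff.mpr (huc w).symm.eq⟩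
          have hqH : q ∈ H := ⟨hq.1, mem_centralizer_singleton_iff.mpr hwq.symm.eq⟩
          have hH := Subgroup.card_dvd_of_le (inf_le_left : H ≤ (P : Subgroup C))
          rw [hP] at hH
          have h3 := Subgroup.card_dvd_of_le hUH
          rw [Nat.card_zpowers, huC] at h3
          have hne : Nat.card H ≠ 3 := fun e3 => hq.2 (by
            rw [eq_of_le_of_card_ge hUH (by rw [e3, Nat.card_zpowers, huC])]; exact hqH)
          have h9 : Nat.card H = 9 := by
            obtain ⟨j, hj, hj'⟩ := (Nat.dvd_prime_pow (show Nat.Prime 3 by norm_num)).mp (show Nat.card H ∣ 3 ^ 2 by rw [show (3 : ℕ) ^ 2 = 9 by norm_num]; exact hH)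
            interval_cases j <;> simp_all
          intro p hp
          have hHP : H = (P : Subgroup C) := eq_of_le_of_card_ge inf_le_left (le_of_eq (hP.trans h9.symm))
          have hpH : p ∈ H := hHP.symm ▸ hp
          exact (mem_centralizer_singleton_iff.mp hpH.2).symm
        have hw4 : w ^ 2 ^ 2 = 1 := by
          have := Subgroup.orderOf_dvd_natCard _ hw
          rw [hW] at this
          exact orderOf_dvd_iff_pow_eq_one.mp this
        obtain ⟨m, hm⟩ := hpow w hw1 2 hw4
        obtain ⟨p, hp, hpc⟩ := hno _ hm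
        exact hpc ((hall p hp).pow_left m)
      · push Not at hfix
        have hmap : ∀ q ∈ X, ∀ w ∈ (W : Subgroup C), w * q * w⁻¹ ∈ X := by
          intro q hq w _
          have hwN : w ∈ normalizer ((P : Subgroup C) : Set C) := htop ▸ mem_top w
          refine ⟨(mem_normalizer_iff.mp hwN q).mp hq.1, fun hU => hq.2 ?_⟩
          obtain ⟨k, hk⟩ := hU
          refine ⟨k, ?_⟩
          have hk' : uC ^ k = w * q * w⁻¹ := hk
          show uC ^ k = q
          have := ((huc w).zpow_right k).eq
          rw [hk'] at this ⊢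
          calc w * q * w⁻¹ = w⁻¹ * (w * (w * q * w⁻¹)) := by group
            _ = w⁻¹ * ((w * q * w⁻¹) * w) := by rw [this]
            _ = q := by group
        let O : C → Set C := fun q => Set.range fun w : (W : Subgroup C) => (w : C) * q * (w : C)⁻¹
        have hO : ∀ q ∈ X, (O q).ncard = 4 ∧ O q ⊆ X := by
          intro q hq
          refine ⟨?_, by rintro _ ⟨w, rfl⟩; exact hmap q hq w w.2⟩
          rw [Set.ncard_range_of_injective, hW]
          intro a b hab
          by_contra hne
          refine hfix ((b : C)⁻¹ * a) (mul_mem (inv_mem b.2) a.2) (fun e => hne ?_) q hq ?_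
          · exact (Subtype.ext (inv_mul_eq_one.mp e)).symm
          · show (b : C)⁻¹ * a * q = q * ((b : C)⁻¹ * a)
            have hab' : (a : C) * q * (a : C)⁻¹ = b * q * (b : C)⁻¹ := hab
            calc (b : C)⁻¹ * a * q = (b : C)⁻¹ * (a * q * (a : C)⁻¹) * a := by group
              _ = q * ((b : C)⁻¹ * a) := by rw [hab']; group
        obtain ⟨q, hq⟩ : X.Nonempty := Set.nonempty_of_ncard_ne_zero (by omega)
        obtain ⟨q', hq'⟩ : (X \ O q).Nonempty := Set.nonempty_of_ncard_ne_zero (by
          rw [Set.ncard_sdiff (hO q hq).2, (hO q hq).1, hX]; norm_num)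
        have hdis : Disjoint (O q) (O q') := by
          rw [Set.disjoint_left]
          rintro _ ⟨a, rfl⟩ ⟨b, hb⟩
          apply hq'.2
          refine ⟨b⁻¹ * a, ?_⟩
          have hb' : (b : C) * q' * (b : C)⁻¹ = a * q * (a : C)⁻¹ := hb
          show ((b⁻¹ * a : (W : Subgroup C)) : C) * q * ((b⁻¹ * a : (W : Subgroup C)) : C)⁻¹ = q'
          push_cast
          calc (b : C)⁻¹ * a * q * ((b : C)⁻¹ * a)⁻¹ = (b : C)⁻¹ * (a * q * (a : C)⁻¹) * b := by group
            _ = q' := by rw [← hb']; group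
        have := Set.ncard_union_eq hdis
        have h2 := Set.ncard_le_ncard (Set.union_subset (hO q hq).2 (hO q' hq'.1).2)
        rw [(hO q hq).1, (hO q' hq'.1).1] at this
        omega
  -- Burnside transfer
  have hPN : normalizer ((P : Subgroup C) : Set C) ≤ centralizer ((P : Subgroup C) : Set C) := by
    rw [← eq_of_le_of_card_ge hle (by rw [hN, hP])]
    exact fun a ha b hb => congrArg Subtype.val (mul_comm' (⟨b, hb⟩ : (P : Subgroup C)) ⟨a, ha⟩)
  set f := MonoidHom.transferSylow P hPN
  have hK := (MonoidHom.ker_transferSylow_isComplement' P hPN).card_mul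
  rw [hP, hC] at hK
  have hK4 : Nat.card f.ker = 4 := by
    show Nat.card (MonoidHom.transferSylow P hPN).ker = 4
    omega
  refine ⟨f.ker.map C.subtype, ?_, ?_, ?_, ?_⟩
  · rw [Nat.card_congr (f.ker.equivMapOfInjective C.subtype C.subtype_injective).toEquiv.symm, hK4]
  · rintro _ ⟨g, -, rfl⟩
    exact mem_centralizer_singleton_iff.mp g.2
  · intro g n hg hn
    refine ⟨⟨g, mem_centralizer_singleton_iff.mpr hg.eq⟩, ?_, rfl⟩
    set gC : C := ⟨g, mem_centralizer_singleton_iff.mpr hg.eq⟩
    have h1 : f gC ^ 2 ^ n = 1 := by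
      rw [← map_pow, show gC ^ 2 ^ n = 1 from Subtype.ext hn, map_one]
    have h2 : f gC ^ 9 = 1 := hP ▸ pow_card_eq_one'
    show f gC = 1
    have := Nat.dvd_gcd (orderOf_dvd_of_pow_eq_one h1) (orderOf_dvd_of_pow_eq_one h2)
    rw [Nat.Coprime.gcd_eq_one ((Nat.Coprime.pow_left n (by norm_num : Nat.Coprime 2 9)))] at this
    exact orderOf_eq_one_iff.mp (Nat.dvd_one.mp this)
  · obtain ⟨⟨i, hi⟩, hio⟩ := exists_prime_orderOf_dvd_card' (G := f.ker) 2 (by rw [hK4]; norm_num)
    rw [Subgroup.orderOf_mk] at hio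
    obtain ⟨p, hp, hpi⟩ := hno i hio
    refine ⟨(p : G), (i : G), ⟨i, hi, rfl⟩, ?_, mem_centralizer_singleton_iff.mp p.2, ?_, ?_⟩
    · have hd : orderOf (p : G) ∣ 3 ^ 2 := by
        rw [Subgroup.orderOf_coe]
        have := Subgroup.orderOf_dvd_natCard _ hp
        simpa [hP] using this
      obtain ⟨j, hj, hj'⟩ := (Nat.dvd_prime_pow (show Nat.Prime 3 by norm_num)).mp hd
      rw [← orderOf_dvd_iff_pow_eq_one, hj']
      interval_cases j
      · norm_num
      · norm_num
      · exact absurd (hj'.trans (by norm_num)) (h.no_nine (p : G))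
    · intro e
      apply hpi
      refine Subtype.ext ?_
      show (i : G) * p = p * i
      calc (i : G) * p = (p : G) * i * (p : G)⁻¹ * p := by rw [e]
        _ = p * i := by group
    · rintro _ ⟨w, hw, rfl⟩
      exact ⟨p * w * p⁻¹, (inferInstance : f.ker.Normal).conj_mem w hw p, rfl⟩

theorem Hyp.card_inv_commute (h : Hyp G) {u u' : G} (hu : orderOf u = 3) (hu' : orderOf u' = 3) :
    Nat.card {t : G // orderOf t = 2 ∧ Commute t u'} = Nat.card {t : G // orderOf t = 2 ∧ Commute t u} := by
  obtain ⟨c, rfl⟩ := isConj_iff.mp (h.one_class_three hu hu')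
  refine (Nat.card_congr ((MulAut.conj c).toEquiv.subtypeEquiv fun t => ?_)).symm
  show orderOf t = 2 ∧ Commute t u ↔ orderOf (MulAut.conj c t) = 2 ∧ Commute (MulAut.conj c t) (MulAut.conj c u)
  rw [(MulAut.conj c).orderOf_eq, commute_map_iff (MulAut.conj c).injective]

theorem Hyp.card_three_commute (h : Hyp G) {t t' : G} (ht : orderOf t = 2) (ht' : orderOf t' = 2) :
    Nat.card {u : G // orderOf u = 3 ∧ Commute t' u} = Nat.card {u : G // orderOf u = 3 ∧ Commute t u} := by
  obtain ⟨c, rfl⟩ := isConj_iff.mp (h.one_class ht ht')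
  refine (Nat.card_congr ((MulAut.conj c).toEquiv.subtypeEquiv fun v => ?_)).symm
  show orderOf v = 3 ∧ Commute t v ↔ orderOf (MulAut.conj c v) = 3 ∧ Commute (MulAut.conj c t) (MulAut.conj c v)
  rw [(MulAut.conj c).orderOf_eq, commute_map_iff (MulAut.conj c).injective]

theorem Hyp.card_involutions (h : Hyp G) {t : G} (ht : orderOf t = 2) :
    Nat.card {g : G // orderOf g = 2} = 1155 := by
  have hm := card_isConj_class t
  rw [h.card_centralizer_two ht, h.card] at hm
  rw [Nat.card_congr (Equiv.subtypeEquivRight (p := fun g => orderOf g = 2) (q := fun g => IsConj t g)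
    fun g => ⟨fun hg => h.one_class ht hg, fun hg => (isConj_orderOf_eq hg).symm.trans ht⟩)]
  omega

theorem Hyp.card_order_three (h : Hyp G) {u : G} (hu : orderOf u = 3) :
    Nat.card {g : G // orderOf g = 3} = 12320 := by
  have hm := card_isConj_class u
  rw [h.card_centralizer_three hu, h.card] at hm
  rw [Nat.card_congr (Equiv.subtypeEquivRight (p := fun g => orderOf g = 3) (q := fun g => IsConj u g)
    fun g => ⟨fun hg => h.one_class_three hu hg, fun hg => (isConj_orderOf_eq hg).symm.trans hu⟩)]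
  omega

theorem Hyp.count_pairs (h : Hyp G) {t u : G} (ht : orderOf t = 2) (hu : orderOf u = 3) :
    1155 * Nat.card {v : G // orderOf v = 3 ∧ Commute t v} =
      12320 * Nat.card {s : G // orderOf s = 2 ∧ Commute s u} := by
  classical
  have := Fintype.ofFinite G
  let e : (Σ s : {s : G // orderOf s = 2}, {v : G // orderOf v = 3 ∧ Commute s.1 v}) ≃
      Σ v : {v : G // orderOf v = 3}, {s : G // orderOf s = 2 ∧ Commute s v.1} :=
    { toFun := fun p => ⟨⟨p.2.1, p.2.2.1⟩, ⟨p.1.1, p.1.2, p.2.2.2⟩⟩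
      invFun := fun p => ⟨⟨p.2.1, p.2.2.1⟩, ⟨p.1.1, p.1.2, p.2.2.2⟩⟩
      left_inv := fun _ => rfl
      right_inv := fun _ => rfl }
  have := Nat.card_congr e
  rw [Nat.card_sigma, Nat.card_sigma, Finset.sum_congr rfl fun s _ => h.card_three_commute ht s.2,
    Finset.sum_congr rfl fun v _ => h.card_inv_commute hu v.2] at this
  simp only [Finset.sum_const, Finset.card_univ, smul_eq_mul, ← Nat.card_eq_fintype_card] at this
  rw [h.card_involutions ht, h.card_order_three hu] at this
  simpa [Nat.card_eq_fintype_card] using this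

theorem Hyp.four_spec (h : Hyp G) {u : G} (hu : orderOf u = 3) :
    (four u).ncard = 4 ∧ (∀ a ∈ four u, ∀ b ∈ four u, a * b ∈ four u) ∧
      (∀ (g : G) (n : ℕ), Commute g u → g ^ 2 ^ n = 1 → g ∈ four u) ∧
      ∀ i ∈ four u, ∀ j ∈ four u, i ≠ 1 → j ≠ 1 → ∃ c : G, Commute c u ∧ c * i * c⁻¹ = j := by
  classical
  have : Fact (Nat.Prime 2) := ⟨Nat.prime_two⟩
  obtain ⟨W, hW, hWu, hW2, x, i, hi, hx3, hxu, hxi, hxW⟩ := h.exists_normal_four hu
  have hfW : four u ⊆ (W : Set G) := fun g hg => hW2 g 1 hg.2 (by rw [pow_one, pow_two, hg.1])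
  have hWn : (W : Set G).ncard = 4 := by rw [← Nat.card_coe_set_eq]; exact hW
  -- all elements of `W` square to 1
  set k := Nat.card {s : G // orderOf s = 2 ∧ Commute s u}
  obtain ⟨⟨s, hs⟩, hso⟩ := exists_prime_orderOf_dvd_card' (G := W) 2 (by rw [hW]; norm_num)
  rw [Subgroup.orderOf_mk] at hso
  have hkf : k = (four u).ncard - 1 := by
    rw [← Set.ncard_sdiff_singleton_of_mem (four_one u), ← Nat.card_coe_set_eq]
    exact Nat.card_congr (Equiv.subtypeEquivRight fun g =>
      ⟨fun hg => ⟨⟨by rw [← pow_two, ← hg.1, pow_orderOf_eq_one], hg.2⟩, fun e => by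
        rw [show g = 1 from e, orderOf_one] at hg; exact absurd hg.1 (by norm_num)⟩,
      fun hg => ⟨orderOf_of_mem_four hg.1 hg.2, hg.1.2⟩⟩)
  have hk1 : 1 ≤ k := by
    have : (({1, s} : Set G)).ncard ≤ (four u).ncard := Set.ncard_le_ncard (by
      rintro g (rfl | rfl)
      · exact four_one u
      · exact ⟨by rw [← pow_two, ← hso, pow_orderOf_eq_one], hWu _ hs⟩)
    rw [Set.ncard_pair (fun e => by rw [← e, orderOf_one] at hso; norm_num at hso)] at this
    omega
  have hk3 : (four u).ncard ≤ 4 := (Set.ncard_le_ncard hfW).trans hWn.le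
  have hcount := h.count_pairs hso hu
  have hf4 : (four u).ncard = 4 := by omega
  have heq : four u = (W : Set G) := Set.eq_of_subset_of_ncard_le hfW (by rw [hf4, hWn])
  refine ⟨hf4, fun a ha b hb => ?_, fun g n hg hn => heq ▸ hW2 g n hg hn, ?_⟩
  · rw [heq] at ha hb ⊢; exact mul_mem ha hb
  · have hi1 : i ≠ 1 := fun e => hxi (by rw [e]; simp)
    have hd : x * i * x⁻¹ ≠ x ^ 2 * i * (x ^ 2)⁻¹ := fun e => hxi (by
      apply mul_left_cancel (a := x); apply mul_right_cancel (b := x⁻¹)
      calc x * (x * i * x⁻¹) * x⁻¹ = x ^ 2 * i * (x ^ 2)⁻¹ := by rw [pow_two]; group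
        _ = x * i * x⁻¹ := e.symm)
    have hd2 : x ^ 2 * i * (x ^ 2)⁻¹ ≠ i := fun e => hxi (by
      calc x * i * x⁻¹ = x * (x ^ 2 * i * (x ^ 2)⁻¹) * x⁻¹ := by rw [e]
        _ = x ^ 3 * i * (x ^ 3)⁻¹ := by group
        _ = i := by rw [hx3]; group)
    have hne : ∀ g : G, g * i * g⁻¹ ≠ 1 := fun g e => hi1 (by
      calc i = g⁻¹ * (g * i * g⁻¹) * g := by group
        _ = 1 := by rw [e]; group)
    have hmem : ∀ m : ℕ, x ^ m * i * (x ^ m)⁻¹ ∈ W := by
      intro m
      induction m with
      | zero => simpa using hi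
      | succ m ih =>
        rw [show x ^ (m + 1) * i * (x ^ (m + 1))⁻¹ = x * (x ^ m * i * (x ^ m)⁻¹) * x⁻¹ by
          rw [pow_succ']; group]
        exact hxW _ ih
    have hall : ({1, i, x * i * x⁻¹, x ^ 2 * i * (x ^ 2)⁻¹} : Set G) = four u := by
      refine Set.eq_of_subset_of_ncard_le ?_ ?_
      · rw [heq]
        rintro g (rfl | rfl | rfl | rfl)
        · exact one_mem W
        · exact hi
        · simpa using hmem 1
        · exact hmem 2
      · rw [hf4, Set.ncard_insert_of_notMem, Set.ncard_insert_of_notMem, Set.ncard_pair hd]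
        · simp only [Set.mem_insert_iff, Set.mem_singleton_iff]
          rintro (e | e)
          exacts [hxi e.symm, hd2 e.symm]
        · simp only [Set.mem_insert_iff, Set.mem_singleton_iff]
          rintro (e | e | e)
          exacts [hi1 e.symm, hne _ e.symm, hne _ e.symm]
    have hgen : ∀ j ∈ four u, j ≠ 1 → ∃ m : ℕ, j = x ^ m * i * (x ^ m)⁻¹ := by
      intro j hj hj1
      rw [← hall] at hj
      rcases hj with e | e | e | e
      · exact absurd e hj1
      · exact ⟨0, by simpa using e⟩
      · exact ⟨1, by simpa using e⟩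
      · exact ⟨2, e⟩
    intro a ha b hb ha1 hb1
    obtain ⟨m, rfl⟩ := hgen a ha ha1
    obtain ⟨n, rfl⟩ := hgen b hb hb1
    exact ⟨x ^ n * (x ^ m)⁻¹, (hxu.pow_left n).mul_left (hxu.pow_left m).inv_left, by group⟩

/-- The four group of an element of order 3. -/
def Hyp.V (h : Hyp G) {u : G} (hu : orderOf u = 3) : Subgroup G where
  carrier := four u
  one_mem' := four_one u
  mul_mem' := fun {a b} ha hb => (h.four_spec hu).2.1 a ha b hb
  inv_mem' := fun {a} ha => by rwa [inv_eq_of_mul_eq_one_right ha.1]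

theorem Hyp.card_three_in (h : Hyp G) {t : G} (ht : orderOf t = 2) :
    Nat.card {v : G // orderOf v = 3 ∧ Commute t v} = 32 := by
  have : Fact (Nat.Prime 3) := ⟨by norm_num⟩
  obtain ⟨u, hu⟩ := exists_prime_orderOf_dvd_card' (G := G) 3 (by rw [h.card]; norm_num)
  obtain ⟨h4, -, -, -⟩ := h.four_spec hu
  have hk : Nat.card {s : G // orderOf s = 2 ∧ Commute s u} = 3 := by
    have := Set.ncard_sdiff_singleton_of_mem (four_one u)
    rw [h4, ← Nat.card_coe_set_eq] at this
    rw [← show Nat.card (four u \ {1} : Set G) = 3 from this]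
    exact Nat.card_congr (Equiv.subtypeEquivRight fun g =>
      ⟨fun hg => ⟨⟨by rw [← pow_two, ← hg.1, pow_orderOf_eq_one], hg.2⟩, fun e => by
        rw [show g = 1 from e, orderOf_one] at hg; exact absurd hg.1 (by norm_num)⟩,
      fun hg => ⟨orderOf_of_mem_four hg.1 hg.2, hg.1.2⟩⟩)
  have := h.count_pairs ht hu
  omega

end Cfsg.Agent.OrderM22
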