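/-
The largest normal 2-subgroup of the centraliser of an involution.

Main results (namespace `Cfsg.Agent.OrderM22`):
* `TwoCore t Q`, `Hyp.exists_core` : order 64, containing every 2-subgroup of `C(t)` invariant under
  an element of order 3 of `C(t)`
* `TwoCore.four_le`, `TwoCore.fixed`, `TwoCore.card_cases`, `TwoCore.exists_conj`
-/
import Cfsg.Agent.Lib.OrderM22.Four
import Cfsg.Agent.Lib.OrderM22.Actions

set_option autoImplicit false

namespace Cfsg.Agent.OrderM22

open Subgroup Cfsg.Agent.SmallOrders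

variable {G : Type*} [Group G]

/-- `Q` is the 2-core of the centraliser of `t`. -/
structure TwoCore (t : G) (Q : Subgroup G) : Prop where
  card : Nat.card Q = 64
  comm : ∀ q ∈ Q, Commute t q
  normal : ∀ c, Commute c t → ∀ q ∈ Q, c * q * c⁻¹ ∈ Q
  max : ∀ (N : Subgroup G) (x : G), orderOf x = 3 → Commute x t → IsPGroup 2 N →
    (∀ n ∈ N, Commute t n) → (∀ n ∈ N, x * n * x⁻¹ ∈ N) → N ≤ Q

variable [Finite G]

theorem mem_normalizer_of_conj {N : Subgroup G} {x : G} (hN : ∀ n ∈ N, x * n * x⁻¹ ∈ N) :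
    x ∈ normalizer (N : Set G) := by
  have e : N.map (MulAut.conj x).toMonoidHom = N := by
    refine eq_of_le_of_card_ge ?_ ?_
    · rintro _ ⟨n, hn, rfl⟩
      exact hN n hn
    · rw [Nat.card_congr (N.equivMapOfInjective (MulAut.conj x).toMonoidHom (MulAut.conj x).injective).toEquiv.symm]
  rw [mem_normalizer_iff]
  intro g
  refine ⟨hN g, fun hg => ?_⟩
  rw [← e] at hg
  obtain ⟨n, hn, hn'⟩ := hg
  rwa [← (MulAut.conj x).injective hn']

theorem pGroup_card_dvd {S : Subgroup G} (hS : IsPGroup 2 S) {m : ℕ} (hd : Nat.card S ∣ 384)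
    (hm : m = 128) : Nat.card S ∣ m := by
  have : Fact (Nat.Prime 2) := ⟨Nat.prime_two⟩
  obtain ⟨k, hk⟩ := IsPGroup.iff_card.mp hS
  rw [hk] at hd ⊢
  subst hm
  exact (Nat.Coprime.pow_left k (show Nat.Coprime 2 3 by norm_num)).dvd_of_dvd_mul_right
    (show 2 ^ k ∣ 128 * 3 by simpa using hd)

variable [IsSimpleGroup G]

theorem Hyp.card_sylow_three_centralizer (h : Hyp G) {t : G} (ht : orderOf t = 2) [Fact (Nat.Prime 3)] :
    Nat.card (Sylow 3 (centralizer ({t} : Set G))) = 16 := by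
  have hP : ∀ P : Sylow 3 (centralizer ({t} : Set G)),
      Nat.card (P : Subgroup (centralizer ({t} : Set G))) = 3 := fun P => by
    rw [card_sylow_subgroup ((h.card_centralizer_two ht).trans (show (384 : ℕ) = 3 ^ 1 * 128 by norm_num))
      (by norm_num) P, pow_one]
  have := card_orderOf_eq_prime hP
  have e : Nat.card {g : centralizer ({t} : Set G) // orderOf g = 3} =
      Nat.card {v : G // orderOf v = 3 ∧ Commute t v} :=
    Nat.card_congr
      { toFun := fun g => ⟨g.1.1, by rw [Subgroup.orderOf_coe]; exact g.2,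
          (mem_centralizer_singleton_iff.mp g.1.2).symm⟩
        invFun := fun v => ⟨⟨v.1, mem_centralizer_singleton_iff.mpr v.2.2.symm.eq⟩, by
          rw [← Subgroup.orderOf_coe]; exact v.2.1⟩
        left_inv := fun _ => rfl
        right_inv := fun _ => rfl }
  rw [e, h.card_three_in ht] at this
  omega

/-- No Sylow 2-subgroup of `C(t)` is invariant under an element of order 3. -/
theorem Hyp.no_invariant (h : Hyp G) {t x : G} (ht : orderOf t = 2) (hx : orderOf x = 3)
    (hxt : Commute x t) {S : Subgroup G} (hS : Nat.card S = 128) (hSt : ∀ s ∈ S, Commute t s)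
    (hxS : ∀ s ∈ S, x * s * x⁻¹ ∈ S) : False := by
  have : Fact (Nat.Prime 3) := ⟨by norm_num⟩
  have : Fact (Nat.Prime 2) := ⟨Nat.prime_two⟩
  set C := centralizer ({t} : Set G) with hCdef
  have hC : Nat.card C = 384 := h.card_centralizer_two ht
  have hxC : x ∈ C := mem_centralizer_singleton_iff.mpr hxt.eq
  have hSC : S ≤ C := fun s hs => mem_centralizer_singleton_iff.mpr (hSt s hs).symm.eq
  have hnorm : C ≤ normalizer (S : Set G) := by
    have hle : C ⊓ normalizer (S : Set G) ≤ C := inf_le_left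
    have h1 : 128 ∣ Nat.card ↥(C ⊓ normalizer (S : Set G)) :=
      hS ▸ Subgroup.card_dvd_of_le (le_inf hSC le_normalizer)
    have h2 : 3 ∣ Nat.card ↥(C ⊓ normalizer (S : Set G)) := by
      rw [← hx]
      exact Subgroup.orderOf_dvd_natCard _ ⟨hxC, mem_normalizer_of_conj hxS⟩
    have h3 := Nat.le_of_dvd Nat.card_pos (Nat.Coprime.mul_dvd_of_dvd_of_dvd (by norm_num) h1 h2)
    exact (eq_of_le_of_card_ge hle (by omega)).ge.trans inf_le_right
  let xC : C := ⟨x, hxC⟩
  have hxo : orderOf xC = 3 := by rw [← Subgroup.orderOf_coe]; exact hx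
  obtain ⟨P, hP⟩ := exists_sylow_eq_zpowers (G := C) (q := 3) (fun P => by
    rw [card_sylow_subgroup (hC.trans (show (384 : ℕ) = 3 ^ 1 * 128 by norm_num)) (by norm_num) P, pow_one]) hxo
  have hn := card_normalizer_mul_card_sylow P
  rw [h.card_sylow_three_centralizer ht, hC] at hn
  obtain ⟨T, hT⟩ := Sylow.exists_subgroup_card_pow_prime (G := normalizer ((P : Subgroup C) : Set C)) 2 (n := 3)
    (by rw [show Nat.card (normalizer ((P : Subgroup C) : Set C)) = 24 by omega]; norm_num)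
  set T' := (T.map (normalizer ((P : Subgroup C) : Set C)).subtype).map C.subtype with hT'def
  have hT'c : Nat.card T' = 8 := by
    rw [hT'def, Nat.card_congr (Subgroup.equivMapOfInjective _ C.subtype C.subtype_injective).toEquiv.symm,
      Nat.card_congr (T.equivMapOfInjective _ (Subgroup.subtype_injective _)).toEquiv.symm, hT]
    norm_num
  have hS2 : IsPGroup 2 S := IsPGroup.of_card (n := 7) (by rw [hS]; norm_num)
  have hT2 : IsPGroup 2 T' := IsPGroup.of_card (n := 3) (by rw [hT'c]; norm_num)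
  have hT'C : T' ≤ C := Subgroup.map_subtype_le _
  have hsup := hS2.to_sup_of_normal_left' hT2 (hT'C.trans hnorm)
  have hTS : T' ≤ S := by
    have hd := pGroup_card_dvd hsup (hC ▸ Subgroup.card_dvd_of_le (sup_le hSC hT'C)) rfl
    have := Nat.le_of_dvd (by norm_num) hd
    exact le_sup_right.trans (eq_of_le_of_card_ge (le_sup_left : S ≤ S ⊔ T') (by omega)).ge
  have hTx : ∀ g ∈ T', g ∈ four x := by
    intro g hg
    have hgS := hTS hg
    obtain ⟨g1, hg1, rfl⟩ := hg
    obtain ⟨g2, -, rfl⟩ := hg1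
    have hconj : (g2 : C) * xC * (g2 : C)⁻¹ ∈ zpowers xC := by
      rw [← hP]
      exact (mem_normalizer_iff.mp g2.2 xC).mp (hP ▸ mem_zpowers xC)
    set z : G := ((g2 : C) : G) * x * ((g2 : C) : G)⁻¹ * x⁻¹
    have hz1 : z ∈ zpowers x := by
      refine mul_mem ?_ (inv_mem (mem_zpowers x))
      obtain ⟨k, hk⟩ := hconj
      exact ⟨k, by simpa [xC] using congrArg Subtype.val hk⟩
    have hz2 : z ∈ S := by
      rw [show z = ((g2 : C) : G) * (x * ((g2 : C) : G)⁻¹ * x⁻¹) by simp only [z]; group]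
      exact mul_mem hgS (hxS _ (inv_mem hgS))
    have hd1 := Subgroup.orderOf_dvd_natCard _ hz1
    have hd2 := Subgroup.orderOf_dvd_natCard _ hz2
    rw [Nat.card_zpowers, hx] at hd1
    rw [hS] at hd2
    have hd := Nat.dvd_gcd hd1 hd2
    rw [show Nat.gcd 3 128 = 1 by norm_num] at hd
    have hz : z = 1 := orderOf_eq_one_iff.mp (Nat.dvd_one.mp hd)
    refine (h.four_spec hx).2.2.1 _ 7 (show Commute ((g2 : C) : G) x from
      mul_inv_eq_iff_eq_mul.mp (mul_inv_eq_one.mp hz)) ?_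
    exact orderOf_dvd_iff_pow_eq_one.mp ((Subgroup.orderOf_dvd_natCard _ hgS).trans (by rw [hS]; norm_num))
  have := Set.ncard_le_ncard (s := (T' : Set G)) hTx
  rw [(h.four_spec hx).1, ← Nat.card_coe_set_eq] at this
  have e : Nat.card (T' : Set G) = 8 := hT'c
  omega

theorem Hyp.exists_core (h : Hyp G) {t : G} (ht : orderOf t = 2) : ∃ Q : Subgroup G, TwoCore t Q := by
  classical
  have : Fact (Nat.Prime 3) := ⟨by norm_num⟩
  have : Fact (Nat.Prime 2) := ⟨Nat.prime_two⟩
  set C := centralizer ({t} : Set G) with hCdef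
  have hC : Nat.card C = 384 := h.card_centralizer_two ht
  obtain ⟨⟨x, hxC⟩, hxo⟩ := exists_prime_orderOf_dvd_card' (G := C) 3 (by rw [hC]; norm_num)
  rw [Subgroup.orderOf_mk] at hxo
  have hxt : Commute x t := mem_centralizer_singleton_iff.mp hxC
  -- a subgroup of order 128 is not invariant
  have hnot : ∀ S : Subgroup C, Nat.card S = 128 → (⟨x, hxC⟩ : C) ∉ normalizer (S : Set C) := by
    intro S hS hx
    refine h.no_invariant ht hxo hxt (S := S.map C.subtype) ?_ ?_ ?_
    · rw [Nat.card_congr (S.equivMapOfInjective C.subtype C.subtype_injective).toEquiv.symm, hS]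
    · rintro _ ⟨s, -, rfl⟩
      exact (mem_centralizer_singleton_iff.mp s.2).symm
    · rintro _ ⟨s, hs, rfl⟩
      exact ⟨⟨x, hxC⟩ * s * ⟨x, hxC⟩⁻¹, (mem_normalizer_iff.mp hx s).mp hs, rfl⟩
  have hS : ∀ S : Sylow 2 C, Nat.card (S : Subgroup C) = 128 := fun S =>
    (card_sylow_subgroup (hC.trans (show (384 : ℕ) = 2 ^ 7 * 3 by norm_num)) (by norm_num) S).trans (by norm_num)
  let S : Sylow 2 C := default
  have hn := card_normalizer_mul_card_sylow S
  rw [hC] at hn
  have hdN := Subgroup.card_dvd_of_le (le_normalizer : (S : Subgroup C) ≤ normalizer ((S : Subgroup C) : Set C))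
  rw [hS S] at hdN
  obtain ⟨c, hc⟩ := hdN
  rw [hc] at hn
  have hc3 : c * Nat.card (Sylow 2 C) = 3 := by linarith
  have hn3 : Nat.card (Sylow 2 C) = 3 := by
    have hcd : c ∣ 3 := ⟨_, hc3.symm⟩
    rcases (show Nat.Prime 3 by norm_num).eq_one_or_self_of_dvd c hcd with rfl | rfl
    · omega
    · exfalso
      refine hnot _ (hS S) ?_
      rw [Subgroup.eq_top_of_card_eq (normalizer ((S : Subgroup C) : Set C)) (by rw [hc, hC])]
      exact mem_top _
  have := Fintype.ofFinite (Sylow 2 C)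
  set φ := MulAction.toPermHom C (Sylow 2 C) with hφ
  have hrk := φ.ker.card_mul_index
  rw [Subgroup.index_ker, hC] at hrk
  have hr6 : Nat.card φ.range ∣ 6 := by
    have := card_subgroup_dvd_card φ.range
    rwa [Nat.card_perm, hn3] at this
  have hkS : φ.ker ≤ normalizer ((S : Subgroup C) : Set C) := by
    intro g hg
    exact Sylow.smul_eq_iff_mem_normalizer.mp (DFunLike.congr_fun (show φ g = 1 from hg) S)
  have hk128 : Nat.card φ.ker ∣ 128 := by
    have h1 := Subgroup.card_dvd_of_le hkS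
    rwa [hc, show c = 1 by rw [hn3] at hc3; omega, mul_one] at h1
  have hk : Nat.card φ.ker = 64 := by
    have hne : Nat.card φ.ker ≠ 128 := fun e =>
      hnot φ.ker e ((Subgroup.normalizer_eq_top φ.ker).symm ▸ mem_top _)
    have hk' := Nat.le_of_dvd (by norm_num) hk128
    have hr := Nat.le_of_dvd (by norm_num) hr6
    generalize Nat.card φ.range = r at hrk hr hr6
    generalize Nat.card φ.ker = k at hrk hne hk' ⊢
    interval_cases r <;> first | omega | norm_num at hr6
  set Q := φ.ker.map C.subtype with hQ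
  have hQc : Nat.card Q = 64 := by
    rw [hQ, Nat.card_congr (φ.ker.equivMapOfInjective C.subtype C.subtype_injective).toEquiv.symm, hk]
  have hQC : Q ≤ C := Subgroup.map_subtype_le _
  have hnormal : ∀ c, Commute c t → ∀ q ∈ Q, c * q * c⁻¹ ∈ Q := by
    intro c hc g hg
    obtain ⟨q, hq, rfl⟩ := Subgroup.mem_map.mp hg
    let cC : C := ⟨c, mem_centralizer_singleton_iff.mpr hc.eq⟩
    exact Subgroup.mem_map.mpr ⟨cC * q * cC⁻¹, φ.normal_ker.conj_mem q hq cC, by
      simp only [Subgroup.coe_subtype, Subgroup.coe_mul, Subgroup.coe_inv, cC]⟩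
  refine ⟨Q, hQc, fun q hq => (mem_centralizer_singleton_iff.mp (hQC hq)).symm, hnormal, ?_⟩
  intro N y hy hyt hN hNt hyN
  have hNC : N ≤ C := fun n hn => mem_centralizer_singleton_iff.mpr (hNt n hn).symm.eq
  have hsup := (IsPGroup.of_card (n := 6) (show Nat.card Q = 2 ^ 6 by rw [hQc]; norm_num)).to_sup_of_normal_left' hN
    (fun n hn => mem_normalizer_of_conj (hnormal n (hNt n hn).symm))
  have hd := pGroup_card_dvd hsup (hC ▸ Subgroup.card_dvd_of_le (sup_le hQC hNC)) rfl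
  have hd' := Subgroup.card_dvd_of_le (le_sup_left : Q ≤ Q ⊔ N)
  rw [hQc] at hd'
  obtain ⟨m, hm⟩ := hd'
  rw [hm] at hd
  have hm2 : m ≤ 2 := by have := Nat.le_of_dvd (by norm_num) hd; omega
  interval_cases m
  · exact absurd hm (by simp [Nat.card_pos.ne'])
  · exact le_sup_right.trans (eq_of_le_of_card_ge (le_sup_left : Q ≤ Q ⊔ N) (by omega)).ge
  · exfalso
    refine h.no_invariant ht hy hyt (S := Q ⊔ N) (by omega)
      (fun s hs => (mem_centralizer_singleton_iff.mp (sup_le hQC hNC hs)).symm) ?_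
    have hle : Q ⊔ N ≤ (Q ⊔ N).comap (MulAut.conj y).toMonoidHom :=
      sup_le (fun q hq => le_sup_left (a := Q) (hnormal y hyt q hq))
        (fun n hn => le_sup_right (b := N) (hyN n hn))
    exact fun s hs => hle hs

variable {t : G} {Q : Subgroup G}

theorem TwoCore.isPGroup (T : TwoCore t Q) : IsPGroup 2 Q :=
  IsPGroup.of_card (n := 6) (by rw [T.card]; norm_num)

theorem TwoCore.four_le (T : TwoCore t Q) (h : Hyp G) {x : G} (ht : orderOf t = 2) (hx : orderOf x = 3)
    (hxt : Commute x t) : four x ⊆ (Q : Set G) := by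
  have : Fact (Nat.Prime 2) := ⟨Nat.prime_two⟩
  have htV : t ∈ four x := ⟨by rw [← pow_two, ← ht, pow_orderOf_eq_one], hxt.symm⟩
  have hV : Nat.card (h.V hx) = 4 := by
    rw [← (h.four_spec hx).1, ← Nat.card_coe_set_eq]; rfl
  have key := T.max (h.V hx) x hx hxt (IsPGroup.of_card (n := 2) (by rw [hV]; norm_num))
    (fun n hn => ?_) (fun n hn => ?_)
  · exact key
  · have hmul : t * n ∈ four x := (h.four_spec hx).2.1 t htV n hn
    show t * n = n * t
    calc t * n = (t * n)⁻¹ := (inv_eq_of_mul_eq_one_right hmul.1).symm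
      _ = n⁻¹ * t⁻¹ := mul_inv_rev t n
      _ = n * t := by rw [inv_eq_of_mul_eq_one_right hn.1, inv_eq_of_mul_eq_one_right htV.1]
  · show x * n * x⁻¹ ∈ four x
    have hn' : n ∈ four x := hn
    rwa [show x * n * x⁻¹ = n by rw [← hn'.2.eq, mul_inv_cancel_right]]

theorem TwoCore.fixed (T : TwoCore t Q) (h : Hyp G) {x q : G} (hx : orderOf x = 3) (hq : q ∈ Q)
    (hqx : Commute q x) : q ∈ four x := by
  refine (h.four_spec hx).2.2.1 q 6 hqx ?_
  have := Subgroup.orderOf_dvd_natCard _ hq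
  rw [T.card] at this
  exact orderOf_dvd_iff_pow_eq_one.mp (this.trans (by norm_num))

theorem TwoCore.card_cases (T : TwoCore t Q) (h : Hyp G) {x : G} (hx : orderOf x = 3) {M : Subgroup G}
    (hMQ : M ≤ Q) (hV : four x ⊆ (M : Set G)) (hxM : ∀ m ∈ M, x * m * x⁻¹ ∈ M) :
    Nat.card M = 4 ∨ Nat.card M = 16 ∨ Nat.card M = 64 := by
  have : Fact (Nat.Prime 3) := ⟨by norm_num⟩
  have hfix : {m ∈ (M : Set G) | Commute x m} = four x := by
    ext m
    exact ⟨fun hm => T.fixed h hx (hMQ hm.1) hm.2.symm, fun hm => ⟨hV hm, hm.2.symm⟩⟩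
  have h3 := ncard_modEq hx (M : Set G) hxM
  rw [hfix, (h.four_spec hx).1, ← Nat.card_coe_set_eq] at h3
  change 3 ∣ Nat.card M - 4 at h3
  have h4 : 4 ≤ Nat.card M := by
    have := Set.ncard_le_ncard hV
    rw [(h.four_spec hx).1, ← Nat.card_coe_set_eq] at this
    exact this
  obtain ⟨j, hj, hj'⟩ := (Nat.dvd_prime_pow Nat.prime_two).mp
    (show Nat.card M ∣ 2 ^ 6 by simpa [T.card] using Subgroup.card_dvd_of_le hMQ)
  rw [hj'] at h3 h4 ⊢
  interval_cases j <;> simp_all

theorem TwoCore.exists_conj (T : TwoCore t Q) (h : Hyp G) {x y : G} (ht : orderOf t = 2)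
    (hx : orderOf x = 3) (hxt : Commute x t) (hy : orderOf y = 3) (hyt : Commute y t) :
    ∃ q ∈ Q, q * x * q⁻¹ = y ∨ q * x ^ 2 * q⁻¹ = y := by
  set Y : Set G := {v | orderOf v = 3 ∧ Commute t v} with hYdef
  have hY : Y.ncard = 32 := by rw [← Nat.card_coe_set_eq]; exact h.card_three_in ht
  have hx2 : orderOf (x ^ 2) = 3 := by rw [orderOf_pow' x (by norm_num), hx]; norm_num
  have hsub : ∀ z, orderOf z = 3 → Commute z t → orb Q z ⊆ Y := by
    rintro z hz hzt _ ⟨q, hq, rfl⟩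
    refine ⟨(orderOf_injective (MulAut.conj q).toMonoidHom (MulAut.conj q).injective z).trans hz, ?_⟩
    exact ((T.comm q hq).mul_right hzt.symm).mul_right (T.comm q hq).inv_right
  have hcard : ∀ z, orderOf z = 3 → Commute z t → (orb Q z).ncard = 16 := by
    intro z hz hzt
    have := ncard_orbit_mul Q z
    have e : Nat.card ↥(Q ⊓ centralizer ({z} : Set G)) = 4 := by
      rw [← (h.four_spec hz).1, ← Nat.card_coe_set_eq]
      exact Nat.card_congr (Equiv.subtypeEquivRight fun g =>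
        ⟨fun hg => T.fixed h hz hg.1 (mem_centralizer_singleton_iff.mp hg.2),
        fun hg => ⟨T.four_le h ht hz hzt hg, mem_centralizer_singleton_iff.mpr hg.2.eq⟩⟩)
    rw [e, T.card] at this
    omega
  have hdis : Disjoint (orb Q x) (orb Q (x ^ 2)) := by
    rw [Set.disjoint_left]
    rintro _ ⟨a, ha, rfl⟩ ⟨b, hb, hb'⟩
    set c := a⁻¹ * b with hcdef
    have hc : c ∈ Q := mul_mem (inv_mem ha) hb
    have e : c * x ^ 2 * c⁻¹ = x := by
      calc c * x ^ 2 * c⁻¹ = a⁻¹ * (b * x ^ 2 * b⁻¹) * a := by rw [hcdef]; group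
        _ = x := by rw [hb']; group
    -- the commutator lies in `Q`
    have hz : x⁻¹ ∈ Q := by
      have hm : c * (x ^ 2 * c⁻¹ * (x ^ 2)⁻¹) ∈ Q :=
        mul_mem hc (T.normal _ (hxt.pow_left 2) _ (inv_mem hc))
      rwa [show c * (x ^ 2 * c⁻¹ * (x ^ 2)⁻¹) = x⁻¹ by
        rw [show c * (x ^ 2 * c⁻¹ * (x ^ 2)⁻¹) = (c * x ^ 2 * c⁻¹) * (x ^ 2)⁻¹ by group, e]; rw [pow_two]; group] at hm
    have := Subgroup.orderOf_dvd_natCard _ hz
    rw [T.card, orderOf_inv, hx] at this
    norm_num at this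
  have hU : orb Q x ∪ orb Q (x ^ 2) = Y := by
    refine Set.eq_of_subset_of_ncard_le (Set.union_subset (hsub x hx hxt) (hsub _ hx2 (hxt.pow_left 2))) ?_
    rw [Set.ncard_union_eq hdis, hcard x hx hxt, hcard _ hx2 (hxt.pow_left 2), hY]
  have hmem : y ∈ orb Q x ∪ orb Q (x ^ 2) := hU ▸ (⟨hy, hyt.symm⟩ : y ∈ Y)
  rcases hmem with ⟨q, hq, e⟩ | ⟨q, hq, e⟩
  exacts [⟨q, hq, Or.inl e⟩, ⟨q, hq, Or.inr e⟩]

theorem TwoCore.unique (T : TwoCore t Q) (h : Hyp G) {Q' : Subgroup G} (T' : TwoCore t Q')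
    (ht : orderOf t = 2) : Q' = Q := by
  have : Fact (Nat.Prime 3) := ⟨by norm_num⟩
  obtain ⟨⟨x, hxC⟩, hxo⟩ := exists_prime_orderOf_dvd_card' (G := centralizer ({t} : Set G)) 3
    (by rw [h.card_centralizer_two ht]; norm_num)
  rw [Subgroup.orderOf_mk] at hxo
  have hxt : Commute x t := mem_centralizer_singleton_iff.mp hxC
  refine eq_of_le_of_card_ge ?_ (le_of_eq (T.card.trans T'.card.symm))
  exact T.max Q' x hxo hxt T'.isPGroup T'.comm fun n hn => T'.normal x hxt n hn

omit [IsSimpleGroup G] in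
theorem TwoCore.conj (T : TwoCore t Q) (g : G) :
    TwoCore (g * t * g⁻¹) (Q.map (MulAut.conj g).toMonoidHom) := by
  have hcomm : ∀ {a b : G}, Commute (g * a * g⁻¹) b → Commute a (g⁻¹ * b * g) := fun {a b} hab => by
    show a * (g⁻¹ * b * g) = g⁻¹ * b * g * a
    calc a * (g⁻¹ * b * g) = g⁻¹ * ((g * a * g⁻¹) * b) * g := by group
      _ = g⁻¹ * (b * (g * a * g⁻¹)) * g := by rw [hab.eq]
      _ = g⁻¹ * b * g * a := by group
  refine ⟨?_, ?_, ?_, ?_⟩
  · rw [Nat.card_congr (Q.equivMapOfInjective _ (MulAut.conj g).injective).toEquiv.symm, T.card]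
  · rintro _ ⟨q, hq, rfl⟩
    exact (T.comm q hq).map (MulAut.conj g).toMonoidHom
  · rintro c hc _ ⟨q, hq, rfl⟩
    refine ⟨(g⁻¹ * c * g) * q * (g⁻¹ * c * g)⁻¹, T.normal _ (hcomm hc.symm).symm q hq, ?_⟩
    show g * ((g⁻¹ * c * g) * q * (g⁻¹ * c * g)⁻¹) * g⁻¹ = c * (g * q * g⁻¹) * c⁻¹
    group
  · intro N x hx hxt hN hNt hxN n hn
    have hle := T.max (N.map (MulAut.conj g⁻¹).toMonoidHom) (g⁻¹ * x * g)
      (by
        have := orderOf_injective (MulAut.conj g⁻¹).toMonoidHom (MulAut.conj g⁻¹).injective x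
        simpa [hx] using this)
      (hcomm hxt.symm).symm (hN.map _) ?_ ?_
    · refine ⟨g⁻¹ * n * g, hle ⟨n, hn, by simp⟩, ?_⟩
      show g * (g⁻¹ * n * g) * g⁻¹ = n
      group
    · rintro _ ⟨m, hm, rfl⟩
      simpa using hcomm (hNt m hm)
    · rintro _ ⟨m, hm, rfl⟩
      refine ⟨x * m * x⁻¹, hxN m hm, ?_⟩
      show g⁻¹ * (x * m * x⁻¹) * g⁻¹⁻¹ = g⁻¹ * x * g * (g⁻¹ * m * g⁻¹⁻¹) * (g⁻¹ * x * g)⁻¹
      group

end Cfsg.Agent.OrderM22
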