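/-
Local lemmas for the construction of the hexad subgroup.

Main results (namespace `Cfsg.Agent.OrderM22`):
* `Hyp.exists_nine`, `Hyp.not_centralize_pair` : the Sylow 3-subgroups
* `Hyp.no_index_five` : no subgroup of order divisible by 45 has a subgroup of index 5
* `Hyp.fixed_five` : elements of order 5 fix nothing in a subgroup of order prime to 5
* `TwoCore.normalizer_four` : the centraliser of the four group in the core
-/
import Cfsg.Agent.Lib.OrderM22.Core
import Cfsg.Agent.Lib.Orders5.Local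

set_option autoImplicit false

namespace Cfsg.Agent.OrderM22

open Subgroup Cfsg.Agent.SmallOrders

variable {G : Type*} [Group G]

theorem four_conj {x p n : G} (hp : Commute p x) (hn : n ∈ four x) : p * n * p⁻¹ ∈ four x := by
  refine ⟨by rw [conj_mul, hn.1]; group, (hp.mul_left hn.2).mul_left hp.inv_left⟩

theorem four_sq {x : G} (hx : x ^ 3 = 1) : four (x ^ 2) = four x := by
  ext n
  refine ⟨fun hn => ⟨hn.1, ?_⟩, fun hn => ⟨hn.1, hn.2.pow_right 2⟩⟩
  have := hn.2.pow_right 2
  rwa [← pow_mul, show (2 * 2 : ℕ) = 3 + 1 from rfl, pow_succ, hx, one_mul] at this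

theorem four_map {x g n : G} (hn : n ∈ four x) : g * n * g⁻¹ ∈ four (g * x * g⁻¹) :=
  ⟨by rw [conj_mul, hn.1]; group, hn.2.map (MulAut.conj g).toMonoidHom⟩

theorem commute_of_four {x a b : G} (ha : a ∈ four x) (hb : b ∈ four x) (hab : a * b ∈ four x) :
    Commute a b := by
  show a * b = b * a
  calc a * b = (a * b)⁻¹ := (inv_eq_of_mul_eq_one_right hab.1).symm
    _ = b⁻¹ * a⁻¹ := mul_inv_rev a b
    _ = b * a := by rw [inv_eq_of_mul_eq_one_right ha.1, inv_eq_of_mul_eq_one_right hb.1]

variable [Finite G] [IsSimpleGroup G]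

theorem Hyp.commute_four (h : Hyp G) {x a b : G} (hx : orderOf x = 3) (ha : a ∈ four x)
    (hb : b ∈ four x) : Commute a b :=
  commute_of_four ha hb ((h.four_spec hx).2.1 a ha b hb)

theorem Hyp.card_V (h : Hyp G) {x : G} (hx : orderOf x = 3) : Nat.card (h.V hx) = 4 := by
  rw [← (h.four_spec hx).1, ← Nat.card_coe_set_eq]; rfl

theorem Hyp.four_cases (h : Hyp G) {x a b w : G} (hx : orderOf x = 3) (ha : a ∈ four x)
    (hb : b ∈ four x) (ha1 : a ≠ 1) (hb1 : b ≠ 1) (hab : a ≠ b) (hw : w ∈ four x) :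
    w = 1 ∨ w = a ∨ w = b ∨ w = a * b := by
  have hab1 : a * b ≠ 1 := fun e => hab (by
    rw [← mul_one a, ← hb.1, ← mul_assoc, e, one_mul])
  have hsub : ({1, a, b, a * b} : Set G) ⊆ four x := by
    rintro g (rfl | rfl | rfl | rfl)
    exacts [four_one x, ha, hb, (h.four_spec hx).2.1 _ ha _ hb]
  have hcard : ({1, a, b, a * b} : Set G).ncard = 4 := by
    rw [Set.ncard_insert_of_notMem, Set.ncard_insert_of_notMem, Set.ncard_pair]
    · exact fun e => ha1 (mul_eq_right.mp e.symm)
    · rintro (e | e)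
      · exact hab e
      · exact hb1 (mul_eq_left.mp (Set.mem_singleton_iff.mp e).symm)
    · rintro (e | e | e)
      exacts [ha1 e.symm, hb1 e.symm, hab1 (Set.mem_singleton_iff.mp e).symm]
  rw [← Set.eq_of_subset_of_ncard_le hsub (by rw [hcard, (h.four_spec hx).1])] at hw
  simpa using hw

/-- A subgroup of order 9 containing an element of order 3. -/
theorem Hyp.exists_nine (h : Hyp G) {x : G} (hx : orderOf x = 3) :
    ∃ P : Subgroup G, Nat.card P = 9 ∧ x ∈ P ∧ (∀ p ∈ P, ∀ q ∈ P, Commute p q) ∧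
      ∀ p ∈ P, p ≠ 1 → orderOf p = 3 := by
  have : Fact (Nat.Prime 3) := ⟨by norm_num⟩
  obtain ⟨P, hP⟩ := (IsPGroup.of_card (G := zpowers x) (n := 1)
    (show Nat.card (zpowers x) = 3 ^ 1 by rw [Nat.card_zpowers, hx, pow_one])).exists_le_sylow
  have hcard : Nat.card (P : Subgroup G) = 3 ^ 2 :=
    card_sylow_subgroup (h.card.trans (show (443520 : ℕ) = 3 ^ 2 * 49280 by norm_num)) (by norm_num) P
  have hcomm : IsMulCommutative (P : Subgroup G) := IsPGroup.isMulCommutative_of_card_eq_prime_sq hcard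
  refine ⟨P, by rw [hcard]; norm_num, hP (mem_zpowers x),
    fun p hp q hq => congrArg Subtype.val (mul_comm' (⟨p, hp⟩ : (P : Subgroup G)) ⟨q, hq⟩), fun p hp hp1 => ?_⟩
  have hd := Subgroup.orderOf_dvd_natCard _ hp
  rw [hcard] at hd
  obtain ⟨j, hj, hj'⟩ := (Nat.dvd_prime_pow (show Nat.Prime 3 by norm_num)).mp hd
  interval_cases j
  · exact absurd (orderOf_eq_one_iff.mp (by simpa using hj')) hp1
  · simpa using hj'
  · exact absurd (hj'.trans (by norm_num)) (h.no_nine p)

theorem Hyp.mem_zpowers_of_centralize (h : Hyp G) {P : Subgroup G} (hP : Nat.card P = 9) {x p i : G}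
    (hx : orderOf x = 3) (hxP : x ∈ P) (hp : p ∈ P) (hi : i ∈ four x) (hi1 : i ≠ 1)
    (hpi : Commute i p) : p ∈ zpowers x := by
  by_contra hne
  set H := P ⊓ centralizer ({i} : Set G)
  have hUH : zpowers x ≤ H := zpowers_le.mpr ⟨hxP, mem_centralizer_singleton_iff.mpr hi.2.symm.eq⟩
  have hpH : p ∈ H := ⟨hp, mem_centralizer_singleton_iff.mpr hpi.symm.eq⟩
  have hH := Subgroup.card_dvd_of_le (inf_le_left : H ≤ P)
  have h3 := Subgroup.card_dvd_of_le hUH
  rw [Nat.card_zpowers, hx] at h3
  rw [hP] at hH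
  have hne3 : Nat.card H ≠ 3 := fun e3 => hne (by
    rw [eq_of_le_of_card_ge hUH (by rw [e3, Nat.card_zpowers, hx])]; exact hpH)
  have h9 : Nat.card H = 9 := by
    have := Nat.le_of_dvd (by norm_num) hH
    interval_cases hn : Nat.card H <;> first | rfl | omega
  have hHP : H = P := eq_of_le_of_card_ge inf_le_left (le_of_eq (hP.trans h9.symm))
  obtain ⟨q, hq, hqi⟩ := h.not_centralize_nine (orderOf_of_mem_four hi hi1) hP
  exact hqi (mem_centralizer_singleton_iff.mp ((hHP.symm ▸ hq : q ∈ H)).2).symm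

theorem Hyp.fixed_five (h : Hyp G) {z : G} (hz : orderOf z = 5) {M : Subgroup G}
    (hM : Nat.Coprime (Nat.card M) 5) (hinv : ∀ m ∈ M, z * m * z⁻¹ ∈ M) : 5 ∣ Nat.card M - 1 := by
  have : Fact (Nat.Prime 5) := ⟨by norm_num⟩
  have hfix : {m ∈ (M : Set G) | Commute z m} = {1} := by
    ext m
    refine ⟨fun hm => ?_, fun e => ?_⟩
    · have h1 := orderOf_dvd_of_centralizer (h.c5 z hz) hm.2.symm.eq
      have h2 := Subgroup.orderOf_dvd_natCard _ hm.1
      have := Nat.dvd_gcd h2 h1
      rw [hM.gcd_eq_one] at this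
      exact orderOf_eq_one_iff.mp (Nat.dvd_one.mp this)
    · rw [Set.mem_singleton_iff.mp e]; exact ⟨one_mem M, Commute.one_right z⟩
  have h5 := ncard_modEq hz (M : Set G) hinv
  rw [hfix, Set.ncard_singleton, ← Nat.card_coe_set_eq] at h5
  exact h5

theorem Hyp.no_index_five (h : Hyp G) {H : Subgroup G} (h45 : 45 ∣ Nat.card H) {M : Subgroup G}
    (hMH : M ≤ H) (hM : Nat.card H = 5 * Nat.card M) : False := by
  classical
  have : Fact (Nat.Prime 3) := ⟨by norm_num⟩
  have : Fact (Nat.Prime 5) := ⟨by norm_num⟩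
  set M' := M.subgroupOf H
  have hM' : M'.index = 5 := by
    have e := M'.card_mul_index
    rw [Nat.card_congr (subgroupOfEquivOfLe hMH).toEquiv, hM, mul_comm 5] at e
    exact Nat.eq_of_mul_eq_mul_left Nat.card_pos e
  have := Fintype.ofFinite (H ⧸ M')
  set φ := MulAction.toPermHom H (H ⧸ M') with hφ
  have hr : Nat.card φ.range ∣ 120 := by
    have := card_subgroup_dvd_card φ.range
    rw [Nat.card_perm, ← Subgroup.index_eq_card, hM'] at this
    exact this
  have hk : φ.ker ≤ M' := by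
    intro g hg
    have e : φ g ((1 : H) : H ⧸ M') = ((1 : H) : H ⧸ M') := by rw [show φ g = 1 from hg]; rfl
    change g • ((1 : H) : H ⧸ M') = _ at e
    rw [MulAction.Quotient.smul_coe, smul_eq_mul, mul_one] at e
    have := QuotientGroup.eq.mp e.symm
    simpa using this
  have hrk := φ.ker.card_mul_index
  rw [Subgroup.index_ker] at hrk
  have hr5 : 5 ∣ Nat.card φ.range := by
    have := Subgroup.index_dvd_of_le hk
    rwa [Subgroup.index_ker, hM'] at this
  have h25 : ¬ 25 ∣ Nat.card H := fun e => by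
    have := e.trans (card_subgroup_dvd_card H)
    rw [h.card] at this; norm_num at this
  have hk5 : Nat.Coprime (Nat.card φ.ker) 5 :=
    ((show Nat.Prime 5 by norm_num).coprime_iff_not_dvd.mpr fun e => h25 (by
      rw [← hrk]; exact mul_dvd_mul e hr5)).symm
  have hk3 : 3 ∣ Nat.card φ.ker := by
    by_contra e
    have h9 : (9 : ℕ) ∣ Nat.card φ.ker * Nat.card φ.range := hrk.symm ▸ (dvd_trans (by norm_num) h45)
    have := (Nat.Coprime.pow_left 2 ((show Nat.Prime 3 by norm_num).coprime_iff_not_dvd.mpr e)).dvd_of_dvd_mul_left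
      (show 3 ^ 2 ∣ Nat.card φ.ker * Nat.card φ.range by simpa using h9)
    have := this.trans hr
    norm_num at this
  let P : Sylow 3 φ.ker := default
  set P1 : Subgroup H := (P : Subgroup φ.ker).map φ.ker.subtype with hP1
  have htop := Sylow.normalizer_sup_eq_top P
  set N := normalizer (P1 : Set H) with hN
  have hNr : N.map φ = φ.range := by
    rw [MonoidHom.range_eq_map, ← htop, Subgroup.map_sup, (Subgroup.map_eq_bot_iff _).mpr le_rfl, sup_bot_eq]
  have hN5 : 5 ∣ Nat.card N :=
    (hNr ▸ hr5).trans (Subgroup.card_map_dvd (H := N) φ)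
  obtain ⟨⟨z, hzN⟩, hz⟩ := exists_prime_orderOf_dvd_card' (G := N) 5 hN5
  rw [Subgroup.orderOf_mk] at hz
  have hPc : Nat.card (P1.map H.subtype) = Nat.card (P : Subgroup φ.ker) := by
    rw [Nat.card_congr (P1.equivMapOfInjective H.subtype H.subtype_injective).toEquiv.symm, hP1,
      Nat.card_congr ((P : Subgroup φ.ker).equivMapOfInjective φ.ker.subtype φ.ker.subtype_injective).toEquiv.symm]
  have hd : Nat.card (P : Subgroup φ.ker) ∣ 443520 :=
    h.card ▸ hPc ▸ card_subgroup_dvd_card (P1.map H.subtype)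
  obtain ⟨j, hj⟩ := IsPGroup.iff_card.mp P.isPGroup'
  have hj2 : j ≤ 2 := by
    by_contra e
    have := ((pow_dvd_pow 3 (show 3 ≤ j by omega)).trans (hj ▸ hd))
    norm_num at this
  have hj1 : j ≠ 0 := fun e => by
    have := P.dvd_card_of_dvd_card hk3
    rw [hj, e] at this; norm_num at this
  have h5 := h.fixed_five (z := (z : G)) (by rw [Subgroup.orderOf_coe]; exact hz) (M := P1.map H.subtype)
    (by rw [hPc, hj]; exact Nat.Coprime.pow_left j (by norm_num)) (fun m hm => by
      obtain ⟨q, hq, rfl⟩ := Subgroup.mem_map.mp hm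
      exact Subgroup.mem_map.mpr ⟨z * q * z⁻¹, (mem_normalizer_iff.mp hzN q).mp hq, rfl⟩)
  rw [hPc, hj] at h5
  interval_cases j <;> first | exact hj1 rfl | norm_num at h5

theorem TwoCore.conj_four {t : G} {Q : Subgroup G} (_T : TwoCore t Q) (h : Hyp G) {x : G}
    (hx : orderOf x = 3) (ht : orderOf t = 2) (hxt : Commute x t) {q : G} (hq : Commute t q)
    (hqV : ∀ v ∈ four x, q * v * q⁻¹ ∈ four x) :
    ∀ v ∈ four x, q * v * q⁻¹ = v ∨ q * v * q⁻¹ = t * v := by
  intro v hv
  have htV : t ∈ four x := ⟨by rw [← pow_two, ← ht, pow_orderOf_eq_one], hxt.symm⟩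
  have ht1 : t ≠ 1 := fun e => by rw [e, orderOf_one] at ht; omega
  by_cases hv1 : v = 1
  · left; rw [hv1]; group
  by_cases hvt : v = t
  · left; rw [hvt, hq.symm.eq]; group
  rcases h.four_cases hx htV hv ht1 hv1 (Ne.symm hvt) (hqV v hv) with e | e | e | e
  · exact absurd (conj_eq_one_iff.mp e) hv1
  · exfalso; apply hvt
    calc v = q⁻¹ * (q * v * q⁻¹) * q := by group
      _ = q⁻¹ * t * q := by rw [e]
      _ = t := by rw [mul_assoc, hq.eq]; group
  · exact Or.inl e
  · exact Or.inr e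

/-- The normaliser of the four group in the core is its centraliser. -/
theorem TwoCore.normalizer_four {t : G} {Q : Subgroup G} (T : TwoCore t Q) (h : Hyp G) {x : G}
    (ht : orderOf t = 2) (hx : orderOf x = 3) (hxt : Commute x t) :
    (Nat.card ↥(Q ⊓ centralizer (four x)) = 16 ∨ Nat.card ↥(Q ⊓ centralizer (four x)) = 64) ∧
      ∀ q ∈ Q, (∀ v ∈ four x, q * v * q⁻¹ ∈ four x) → ∀ v ∈ four x, Commute q v := by
  classical
  have : Fact (Nat.Prime 2) := ⟨Nat.prime_two⟩
  set V := h.V hx
  set R := Q ⊓ centralizer (four x) with hR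
  set N := Q ⊓ normalizer (V : Set G) with hNdef
  have hVQ : four x ⊆ (Q : Set G) := T.four_le h ht hx hxt
  have hVR : four x ⊆ (R : Set G) := fun v hv => ⟨hVQ hv, fun w hw => (h.commute_four hx hw hv).eq⟩
  have hRN : R ≤ N := fun q hq => ⟨hq.1, mem_normalizer_of_conj fun v hv => by
    have e : v * q = q * v := hq.2 v hv
    rwa [← e, mul_inv_cancel_right]⟩
  have hxmap : ∀ {q : G}, q ∈ Q → x * q * x⁻¹ ∈ Q := fun {q} hq => T.normal x hxt q hq
  have hxV : x ∈ normalizer (V : Set G) := mem_normalizer_of_conj fun v hv => four_conj (Commute.refl x) hv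
  have hxR : ∀ q ∈ R, x * q * x⁻¹ ∈ R := fun q hq => ⟨hxmap hq.1, fun v hv => by
    have e : v * q = q * v := hq.2 v hv
    have hv2 : Commute v x := hv.2
    exact (hv2.mul_right e).mul_right hv2.inv_right⟩
  have hxN : ∀ q ∈ N, x * q * x⁻¹ ∈ N := fun q hq =>
    ⟨hxmap hq.1, mul_mem (mul_mem hxV hq.2) (Subgroup.inv_mem _ hxV)⟩
  have hcR : Nat.card R = 4 ∨ Nat.card R = 16 ∨ Nat.card R = 64 := T.card_cases h hx inf_le_left hVR hxR
  have hcN : Nat.card N = 4 ∨ Nat.card N = 16 ∨ Nat.card N = 64 :=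
    T.card_cases h hx inf_le_left (hVR.trans hRN) hxN
  have hmove : ∀ q ∈ N, q ∈ R ∨ ∃ v ∈ four x, q * v * q⁻¹ = t * v ∧ ¬ Commute q v := by
    intro q hq
    by_cases hall : ∀ v ∈ four x, Commute q v
    · exact Or.inl ⟨hq.1, fun v hv => (hall v hv).symm.eq⟩
    · push Not at hall
      obtain ⟨v, hv, hne⟩ := hall
      rcases T.conj_four h hx ht hxt (T.comm q hq.1) (fun w hw => (mem_normalizer_iff.mp hq.2 w).mp hw) v hv with e | e
      · exact absurd (show Commute q v from mul_inv_eq_iff_eq_mul.mp e) hne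
      · exact Or.inr ⟨v, hv, e, hne⟩
  have hNR : Nat.card N ≤ 2 * Nat.card R := by
    by_cases hall : ∀ q ∈ N, q ∈ R
    · have := Nat.card_le_card_of_injective (fun q : N => (⟨q.1, hall q.1 q.2⟩ : R))
        (fun a b e => Subtype.ext (by simpa using congrArg Subtype.val e))
      omega
    · push Not at hall
      obtain ⟨q0, hq0, hq0R⟩ := hall
      have hsub : (N : Set G) ⊆ (R : Set G) ∪ (fun r => q0 * r) '' (R : Set G) := by
        intro q hq
        by_cases hqR : q ∈ R
        · exact Or.inl hqR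
        refine Or.inr ⟨q0⁻¹ * q, ⟨mul_mem (Subgroup.inv_mem Q hq0.1) hq.1, fun v hv => ?_⟩, by group⟩
        have key : ∀ {g : G}, g ∈ N → g ∉ R → g * v * g⁻¹ = if v = 1 ∨ v = t then v else t * v := by
          intro g hg hgR
          obtain ⟨w, hw, hwe, hwn⟩ := (hmove g hg).resolve_left hgR
          split_ifs with hc
          · rcases hc with rfl | rfl
            · group
            · rw [← (T.comm g hg.1).eq, mul_inv_cancel_right]
          · push Not at hc
            rcases T.conj_four h hx ht hxt (T.comm g hg.1) (fun w hw => (mem_normalizer_iff.mp hg.2 w).mp hw) v hv with e | e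
            · exfalso
              apply hwn
              have htV : t ∈ four x := ⟨by rw [← pow_two, ← ht, pow_orderOf_eq_one], hxt.symm⟩
              rcases h.four_cases hx htV hv (fun e' => by rw [e', orderOf_one] at ht; omega) hc.1
                (Ne.symm hc.2) hw with e' | e' | e' | e'
              · rw [e']; exact Commute.one_right g
              · rw [e']; exact (T.comm g hg.1).symm
              · rw [e']; exact mul_inv_eq_iff_eq_mul.mp e
              · rw [e']; exact (T.comm g hg.1).symm.mul_right (mul_inv_eq_iff_eq_mul.mp e)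
            · exact e
        show v * (q0⁻¹ * q) = q0⁻¹ * q * v
        calc v * (q0⁻¹ * q) = q0⁻¹ * (q0 * v * q0⁻¹) * q := by group
          _ = q0⁻¹ * (q * v * q⁻¹) * q := by rw [key hq0 hq0R, key hq hqR]
          _ = q0⁻¹ * q * v := by group
      have h1 := (Set.ncard_le_ncard hsub).trans (Set.ncard_union_le _ _)
      have h2 := Set.ncard_image_le (f := fun r => q0 * r) (s := (R : Set G))
      rw [← Nat.card_coe_set_eq, ← Nat.card_coe_set_eq] at h1 h2
      change Nat.card R ≥ _ at h2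
      change Nat.card N ≤ Nat.card R + _ at h1
      rw [← Nat.card_coe_set_eq] at h1
      omega
  have hle := Nat.le_of_dvd Nat.card_pos (Subgroup.card_dvd_of_le hRN)
  have hcard : Nat.card N ≤ Nat.card R := by
    rcases hcR with e | e | e <;> rcases hcN with e' | e' | e' <;> omega
  have hNeq : N = R := (eq_of_le_of_card_ge hRN hcard).symm
  refine ⟨?_, fun q hq hqV v hv => ?_⟩
  · rcases hcR with e | e | e
    · exfalso
      have hVQ' : V ≤ Q := hVQ
      obtain ⟨w, hwQ, hwV, hwn⟩ := Orders5.exists_normalizing (p := 2) hVQ' T.isPGroup (fun e' => by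
        have := T.card; rw [← e', h.card_V hx] at this; omega)
      have hVRle : V ≤ R := hVR
      rw [eq_of_le_of_card_ge hVRle (by rw [e, h.card_V hx]), ← hNeq] at hwV
      exact hwV ⟨hwQ, hwn⟩
    · exact Or.inl e
    · exact Or.inr e
  · have hqN : q ∈ N := ⟨hq, mem_normalizer_of_conj hqV⟩
    rw [hNeq] at hqN
    have e : v * q = q * v := hqN.2 v hv
    exact e.symm

end Cfsg.Agent.OrderM22
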