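/-
The four group of an element of order 3 is not central in the 2-core.

Main result (namespace `Cfsg.Agent.OrderM22`):
* `Hyp.not_central`
-/
import Cfsg.Agent.Lib.OrderM22.Local

set_option autoImplicit false

namespace Cfsg.Agent.OrderM22

open Subgroup Cfsg.Agent.SmallOrders

variable {G : Type*} [Group G]

/-- The assumption to be refuted, for all involutions and commuting elements of order 3. -/
def AllCentral (G : Type*) [Group G] : Prop :=
  ∀ (s y : G) (Qs : Subgroup G), orderOf s = 2 → orderOf y = 3 → Commute y s → TwoCore s Qs →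
    ∀ q ∈ Qs, ∀ v ∈ four y, Commute q v

/-- The elements of a subgroup that square to one and commute with `w`, times such elements. -/
def prodSet (V U : Set G) : Set G := {g | ∃ v ∈ V, ∃ u ∈ U, v * u = g}

variable [Finite G] [IsSimpleGroup G]

theorem Hyp.allCentral (h : Hyp G) {t x : G} {Q : Subgroup G} (T : TwoCore t Q) (ht : orderOf t = 2)
    (hx : orderOf x = 3) (hxt : Commute x t) (hc : ∀ q ∈ Q, ∀ v ∈ four x, Commute q v) :
    AllCentral G := by
  intro s y Qs hs hy hys Ts q hq v hv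
  obtain ⟨g, hg⟩ := isConj_iff.mp (h.one_class_three hx hy)
  have ht' : g * t * g⁻¹ ∈ four y :=
    hg ▸ four_map ⟨by rw [← pow_two, ← ht, pow_orderOf_eq_one], hxt.symm⟩
  obtain ⟨c, hc', hcs⟩ := (h.four_spec hy).2.2.2 _ ht' s
    ⟨by rw [← pow_two, ← hs, pow_orderOf_eq_one], hys.symm⟩
    (fun e => by
      have := conj_eq_one_iff.mp e
      rw [this, orderOf_one] at ht; omega)
    (fun e => by rw [e, orderOf_one] at hs; omega)
  have e1 : (c * g) * t * (c * g)⁻¹ = s := by rw [← hcs]; group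
  have e2 : (c * g) * x * (c * g)⁻¹ = y := by
    rw [show (c * g) * x * (c * g)⁻¹ = c * (g * x * g⁻¹) * c⁻¹ by group, hg, hc'.eq, mul_inv_cancel_right]
  have hT := T.conj (c * g)
  rw [e1] at hT
  rw [← hT.unique h Ts hs |>.symm] at hq
  obtain ⟨q', hq', rfl⟩ := Subgroup.mem_map.mp hq
  have hv' : (c * g)⁻¹ * v * (c * g) ∈ four x := by
    have := four_map (g := (c * g)⁻¹) hv
    rwa [show (c * g)⁻¹ * y * (c * g)⁻¹⁻¹ = x by rw [← e2]; group, inv_inv] at this
  have := (hc q' hq' _ hv').map (MulAut.conj (c * g)).toMonoidHom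
  simpa [mul_assoc] using this

theorem AllCentral.conj_core (hall : AllCentral G) (h : Hyp G) {s y p : G} {Qs : Subgroup G}
    (Ts : TwoCore s Qs) (hs : orderOf s = 2) (hy : orderOf y = 3) (hys : Commute y s)
    (hp : Commute p y) : ∀ q ∈ Qs, p * q * p⁻¹ ∈ Qs := by
  intro q hq
  refine Ts.max (Qs.map (MulAut.conj p).toMonoidHom) y hy hys (Ts.isPGroup.map _) ?_ ?_ ⟨q, hq, rfl⟩
  · rintro _ ⟨r, hr, rfl⟩
    have hs' : p⁻¹ * s * p ∈ four y := by
      have := four_conj (n := s) hp.inv_left ⟨by rw [← pow_two, ← hs, pow_orderOf_eq_one], hys.symm⟩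
      rwa [inv_inv] at this
    have := (hall s y Qs hs hy hys Ts r hr _ hs').map (MulAut.conj p).toMonoidHom
    simpa [mul_assoc] using this.symm
  · rintro _ ⟨r, hr, rfl⟩
    refine ⟨y * r * y⁻¹, Ts.normal y hys r hr, ?_⟩
    show p * (y * r * y⁻¹) * p⁻¹ = y * (p * r * p⁻¹) * y⁻¹
    calc p * (y * r * y⁻¹) * p⁻¹ = (p * y) * r * (p * y)⁻¹ := by group
      _ = (y * p) * r * (y * p)⁻¹ := by rw [hp.eq]
      _ = y * (p * r * p⁻¹) * y⁻¹ := by group

theorem AllCentral.four_eq (hall : AllCentral G) (h : Hyp G) {s y y' : G} (hs : orderOf s = 2)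
    (hy : orderOf y = 3) (hys : Commute y s) (hy' : orderOf y' = 3) (hys' : Commute y' s) :
    four y' = four y := by
  obtain ⟨Qs, Ts⟩ := h.exists_core hs
  obtain ⟨q, hq, e⟩ := Ts.exists_conj h hs hy hys hy' hys'
  have hy3 : y ^ 3 = 1 := by rw [← hy, pow_orderOf_eq_one]
  obtain ⟨z, hz, rfl⟩ : ∃ z, four z = four y ∧ q * z * q⁻¹ = y' := by
    rcases e with e | e
    exacts [⟨y, rfl, e⟩, ⟨y ^ 2, four_sq hy3, e⟩]
  ext v
  have hfix : ∀ w ∈ four y, q * w * q⁻¹ = w := fun w hw => by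
    rw [(hall s y Qs hs hy hys Ts q hq w hw).eq, mul_inv_cancel_right]
  constructor
  · intro hv
    have := four_map (g := q⁻¹) hv
    rw [show q⁻¹ * (q * z * q⁻¹) * q⁻¹⁻¹ = z by group, hz, inv_inv] at this
    have e2 := hfix _ this
    rw [show q * (q⁻¹ * v * q) * q⁻¹ = v by group] at e2
    rwa [← e2] at this
  · intro hv
    have := four_map (g := q) (hz.symm ▸ hv : v ∈ four z)
    rwa [hfix v hv] at this

/-- A four group of another element of the Sylow 3-subgroup inside the core. -/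
theorem AllCentral.pair (hall : AllCentral G) (h : Hyp G) {t x a w : G} {Q P : Subgroup G}
    (T : TwoCore t Q) (ht : orderOf t = 2) (hx : orderOf x = 3) (hxt : Commute x t)
    (hP : Nat.card P = 9) (hxP : x ∈ P) (hPc : ∀ p ∈ P, ∀ q ∈ P, Commute p q)
    (hP3 : ∀ p ∈ P, p ≠ 1 → orderOf p = 3) (ha : a ∈ P) (ha1 : a ≠ 1) (hwQ : w ∈ Q)
    (hwV : w ∉ four x) (haw : Commute a w) :
    orderOf a = 3 ∧ w ∈ four a ∧ w ≠ 1 ∧ four a ⊆ (Q : Set G) ∧ (∀ v ∈ four x, v ∈ four a → v = 1) ∧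
      (∀ p ∈ P, ∀ i ∈ four x, i ≠ 1 → Commute i p → p ∈ zpowers x) ∧
      (∀ p ∈ P, ∀ i ∈ four a, i ≠ 1 → Commute i p → p ∈ zpowers a) ∧
      zpowers x ⊓ zpowers a = ⊥ := by
  have ha3 := hP3 a ha ha1
  have hax : a ∉ zpowers x := by
    intro hm
    apply hwV
    refine T.fixed h hx hwQ ?_
    have hz : zpowers a = zpowers x := eq_of_le_of_card_ge (zpowers_le.mpr hm)
      (by rw [Nat.card_zpowers, Nat.card_zpowers, hx, ha3])
    obtain ⟨k, hk⟩ : x ∈ zpowers a := hz ▸ mem_zpowers x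
    rw [← hk]
    exact haw.symm.zpow_right k
  have hw1 : w ≠ 1 := fun e => hwV (e ▸ four_one x)
  have hwa : w ∈ four a := by
    refine (h.four_spec ha3).2.2.1 w 6 haw.symm ?_
    have := Subgroup.orderOf_dvd_natCard _ hwQ
    rw [T.card] at this
    exact orderOf_dvd_iff_pow_eq_one.mp (this.trans (by norm_num))
  have hxa : Commute x a := hPc x hxP a ha
  have hw' : x * w * x⁻¹ ∈ four a := four_conj hxa hwa
  have hne : w ≠ x * w * x⁻¹ := fun e => hwV (T.fixed h hx hwQ (mul_inv_eq_iff_eq_mul.mp e.symm).symm)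
  have hsub : four a ⊆ (Q : Set G) := by
    intro v hv
    rcases h.four_cases ha3 hwa hw' hw1 (fun e => hw1 (conj_eq_one_iff.mp e)) hne hv with rfl | rfl | rfl | rfl
    exacts [one_mem Q, hwQ, T.normal x hxt w hwQ, mul_mem hwQ (T.normal x hxt w hwQ)]
  refine ⟨ha3, hwa, hw1, hsub, fun v hv hva => ?_, fun p hp i hi hi1 hip => h.mem_zpowers_of_centralize hP hx hxP hp hi hi1 hip,
    fun p hp i hi hi1 hip => h.mem_zpowers_of_centralize hP ha3 ha hp hi hi1 hip, ?_⟩
  · by_contra hv1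
    exact hax (h.mem_zpowers_of_centralize hP hx hxP ha hv hv1 hva.2)
  · rw [eq_bot_iff]
    intro g hg
    rw [mem_bot]
    by_contra hg1
    apply hax
    have hgo := hP3 g (zpowers_le.mpr ha hg.2) hg1
    have e1 : zpowers g = zpowers a := eq_of_le_of_card_ge (zpowers_le.mpr hg.2)
      (by rw [Nat.card_zpowers, Nat.card_zpowers, hgo, ha3])
    exact (e1 ▸ zpowers_le.mpr hg.1 : zpowers a ≤ zpowers x) (mem_zpowers a)

omit [IsSimpleGroup G] in
theorem ncard_orb_of_stab {H S : Subgroup G} {t : G} (hS : H ⊓ centralizer ({t} : Set G) = S) :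
    (orb H t).ncard * Nat.card S = Nat.card H := hS ▸ ncard_orbit_mul H t

theorem AllCentral.false_abelian (hall : AllCentral G) (h : Hyp G) {t x : G} {Q P : Subgroup G}
    (T : TwoCore t Q) (ht : orderOf t = 2) (hx : orderOf x = 3) (hxt : Commute x t)
    (hP : Nat.card P = 9) (hxP : x ∈ P) (hPc : ∀ p ∈ P, ∀ q ∈ P, Commute p q)
    (hP3 : ∀ p ∈ P, p ≠ 1 → orderOf p = 3) {a w : G} (ha : a ∈ P) (ha1 : a ≠ 1) (hwQ : w ∈ Q)
    (hwV : w ∉ four x) (haw : Commute a w) (hab : ∀ q ∈ Q, ∀ r ∈ Q, Commute q r) : False := by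
  classical
  obtain ⟨ha3, hwa, hw1, hVa, hdis, hpx, hpa, -⟩ :=
    hall.pair h T ht hx hxt hP hxP hPc hP3 ha ha1 hwQ hwV haw
  set H := normalizer (Q : Set G) with hH
  set C := centralizer ({t} : Set G) with hCdef
  have hCH : C ≤ H := fun c hc => mem_normalizer_of_conj (T.normal c (mem_centralizer_singleton_iff.mp hc))
  have hPH : P ≤ H := fun p hp => mem_normalizer_of_conj (hall.conj_core h T ht hx hxt (hPc p hp x hxP))
  have hw2 := orderOf_of_mem_four hwa hw1
  -- the involution `w` is in the orbit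
  obtain ⟨g, hg⟩ := isConj_iff.mp (h.one_class ht hw2)
  have hgH : g ∈ H := by
    have hTg := T.conj g
    rw [hg] at hTg
    refine mem_normalizer_of_conj fun q hq => ?_
    obtain ⟨Qw, Tw⟩ := h.exists_core hw2
    have hQQ : Q ≤ Qw := by
      refine Tw.max Q a ha3 haw T.isPGroup (fun q hq => hab w hwQ q hq) ?_
      exact hall.conj_core h T ht hx hxt (hPc a ha x hxP)
    rw [eq_of_le_of_card_ge hQQ (le_of_eq (Tw.card.trans T.card.symm)), ← hTg.unique h Tw hw2 |>.symm]
    exact ⟨q, hq, rfl⟩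
  have ht1 : t ≠ 1 := fun e => by rw [e, orderOf_one] at ht; omega
  have htV : t ∈ four x := ⟨by rw [← pow_two, ← ht, pow_orderOf_eq_one], hxt.symm⟩
  set O := orb H t with hO
  have hOQ : O ⊆ (Q : Set G) \ {1} := by
    rintro _ ⟨c, hc, rfl⟩
    exact ⟨(mem_normalizer_iff.mp hc t).mp (T.four_le h ht hx hxt htV),
      fun e => ht1 (conj_eq_one_iff.mp (Set.mem_singleton_iff.mp e))⟩
  have hOle : O.ncard ≤ 63 := by
    have := Set.ncard_le_ncard hOQ
    rw [Set.ncard_sdiff_singleton_of_mem (show (1 : G) ∈ (Q : Set G) from one_mem Q)] at this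
    rw [← Nat.card_coe_set_eq (Q : Set G)] at this
    change O.ncard ≤ Nat.card Q - 1 at this
    rw [T.card] at this; omega
  have hP3' : ∀ {i u : G}, orderOf u = 3 → u ∈ P → i ∈ four u → i ≠ 1 →
      (∀ p ∈ P, Commute i p → p ∈ zpowers u) → (orb P i).ncard = 3 := by
    intro i u hu huP hi hi1 hfix
    have e : P ⊓ centralizer ({i} : Set G) = zpowers u := le_antisymm
      (fun p hp => hfix p hp.1 (mem_centralizer_singleton_iff.mp hp.2).symm)
      (zpowers_le.mpr ⟨huP, mem_centralizer_singleton_iff.mpr hi.2.symm.eq⟩)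
    have := ncard_orb_of_stab e
    rw [Nat.card_zpowers, hu, hP] at this; omega
  have hsub : orb P t ∪ orb P w ⊆ O := by
    rintro _ (⟨p, hp, rfl⟩ | ⟨p, hp, rfl⟩)
    · exact ⟨p, hPH hp, rfl⟩
    · exact orb_conj (hPH hp) ⟨g, hgH, hg⟩
  have hdj : Disjoint (orb P t) (orb P w) := by
    rw [Set.disjoint_left]
    rintro _ ⟨p, hp, rfl⟩ ⟨p', hp', e⟩
    have h1 : p * t * p⁻¹ ∈ four x := four_conj (hPc p hp x hxP) htV
    have h2 : p * t * p⁻¹ ∈ four a := e ▸ four_conj (hPc p' hp' a ha) hwa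
    exact ht1 (conj_eq_one_iff.mp (hdis _ h1 h2))
  have h6 : 6 ≤ O.ncard := by
    have := Set.ncard_le_ncard hsub
    rw [Set.ncard_union_eq hdj, hP3' hx hxP htV ht1 (fun p hp => hpx p hp t htV ht1),
      hP3' ha3 ha hwa hw1 (fun p hp => hpa p hp w hwa hw1)] at this
    exact this
  have hcard := ncard_orbit_mul H t
  rw [show H ⊓ C = C from inf_eq_right.mpr hCH, h.card_centralizer_two ht, ← hO] at hcard
  have hdG := card_subgroup_dvd_card H
  rw [h.card, ← hcard] at hdG
  have h9 : 9 ∣ O.ncard * 384 := hcard.symm ▸ hP ▸ Subgroup.card_dvd_of_le hPH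
  have hr : O.ncard = 15 ∨ O.ncard = 21 ∨ O.ncard = 33 := by
    generalize O.ncard = r at hOle h6 hdG h9 ⊢
    interval_cases r <;> first | omega | norm_num at hdG | norm_num at h9
  have : Fact (Nat.Prime 7) := ⟨by norm_num⟩
  have : Fact (Nat.Prime 11) := ⟨by norm_num⟩
  have : Fact (Nat.Prime 5) := ⟨by norm_num⟩
  have hsyl : ∀ {p : ℕ} [Fact p.Prime] {m b : ℕ}, Nat.card H = p * m → ¬ p ∣ m →
      (∀ y : G, orderOf y = p → Nat.card (normalizer (zpowers y : Set G)) = b) →
      ∃ n, n % p = 1 ∧ ∃ k, k ∣ b ∧ p ∣ k ∧ k * n = p * m := by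
    intro p _ m b hcH hpm hb
    let S : Sylow p H := default
    have hS : Nat.card (S : Subgroup H) = p := by
      rw [card_sylow_subgroup (hcH.trans (by rw [pow_one])) hpm S, pow_one]
    refine ⟨Nat.card (Sylow p H), Eq.trans (card_sylow_modEq_one p H) (Nat.mod_eq_of_lt (Fact.out : p.Prime).one_lt),
      Nat.card (normalizer ((S : Subgroup H) : Set H)), ?_, (dvd_of_eq hS.symm).trans (Subgroup.card_dvd_of_le le_normalizer), ?_⟩
    · obtain ⟨⟨y, hyS⟩, hy⟩ := exists_prime_orderOf_dvd_card' (G := (S : Subgroup H)) p (by rw [hS])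
      rw [Subgroup.orderOf_mk] at hy
      rw [← hb y (by rw [Subgroup.orderOf_coe]; exact hy), ← Nat.card_congr
        ((normalizer ((S : Subgroup H) : Set H)).equivMapOfInjective H.subtype H.subtype_injective).toEquiv.symm]
      refine Subgroup.card_dvd_of_le ?_
      rintro _ ⟨c, hc, rfl⟩
      have hyz : zpowers y = (S : Subgroup H) := eq_of_le_of_card_ge (zpowers_le.mpr hyS)
        (by rw [Nat.card_zpowers, hy, hS])
      refine mem_normalizer_of_conj fun m hm => ?_
      obtain ⟨k, rfl⟩ := hm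
      have hcy : c * y ^ k * c⁻¹ ∈ zpowers y := by
        rw [hyz]
        exact (mem_normalizer_iff.mp hc _).mp (zpow_mem hyS k)
      obtain ⟨j, hj⟩ := hcy
      exact ⟨j, by simpa using congrArg Subtype.val hj⟩
    · have := card_normalizer_mul_card_sylow S
      rwa [hcH] at this
  rcases hr with e | e | e
  · rw [e] at hcard
    obtain ⟨⟨z, hzH⟩, hz⟩ := exists_prime_orderOf_dvd_card' (G := H) 5 (by rw [← hcard]; norm_num)
    rw [Subgroup.orderOf_mk] at hz
    have := h.fixed_five hz (M := Q) (by rw [T.card]; norm_num)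
      (fun q hq => (mem_normalizer_iff.mp hzH q).mp hq)
    rw [T.card] at this; norm_num at this
  · rw [e] at hcard
    obtain ⟨n, hn, k, hk, hpk, hkn⟩ := hsyl (p := 7) (m := 1152) (b := 21) (by rw [← hcard])
      (by norm_num) (fun y hy => (h.seven hy).2)
    have := Nat.le_of_dvd (by norm_num) hk
    interval_cases k <;> omega
  · rw [e] at hcard
    obtain ⟨n, hn, k, hk, hpk, hkn⟩ := hsyl (p := 11) (m := 1152) (b := 55) (by rw [← hcard])
      (by norm_num) (fun y hy => (h.eleven hy).2)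
    have := Nat.le_of_dvd (by norm_num) hk
    interval_cases k <;> omega

theorem AllCentral.false_moving (hall : AllCentral G) (h : Hyp G) {t x : G} {Q P : Subgroup G}
    (T : TwoCore t Q) (ht : orderOf t = 2) (hx : orderOf x = 3) (hxt : Commute x t)
    (hP : Nat.card P = 9) (hxP : x ∈ P) (hPc : ∀ p ∈ P, ∀ q ∈ P, Commute p q)
    (hP3 : ∀ p ∈ P, p ≠ 1 → orderOf p = 3) {a w q0 : G} (ha : a ∈ P) (ha1 : a ≠ 1) (hwQ : w ∈ Q)
    (hwV : w ∉ four x) (haw : Commute a w) (hq0 : q0 ∈ Q) (hq0w : ¬ Commute q0 w) : False := by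
  classical
  obtain ⟨ha3, hwa, hw1, hVa, hdis, hpx, hpa, hxa⟩ :=
    hall.pair h T ht hx hxt hP hxP hPc hP3 ha ha1 hwQ hwV haw
  have hw2 := orderOf_of_mem_four hwa hw1
  obtain ⟨Qw, Tw⟩ := h.exists_core hw2
  have ht1 : t ≠ 1 := fun e => by rw [e, orderOf_one] at ht; omega
  have htV : t ∈ four x := ⟨by rw [← pow_two, ← ht, pow_orderOf_eq_one], hxt.symm⟩
  have hVQ := T.four_le h ht hx hxt
  have hcentQ : ∀ q ∈ Q, ∀ v ∈ four x, Commute q v := hall t x Q ht hx hxt T
  have hcentW : ∀ q ∈ Qw, ∀ v ∈ four a, Commute q v := hall w a Qw hw2 ha3 haw Tw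
  have hinv : ∀ {g : G} {u : G}, g ∈ four u → g⁻¹ = g := fun hg => inv_eq_of_mul_eq_one_right hg.1
  -- the group of order 16
  set V := h.V hx
  set U := h.V ha3
  let E : Subgroup G :=
    { carrier := prodSet (four x) (four a)
      one_mem' := ⟨1, four_one x, 1, four_one a, one_mul 1⟩
      mul_mem' := by
        rintro _ _ ⟨v, hv, u, hu, rfl⟩ ⟨v', hv', u', hu', rfl⟩
        refine ⟨v * v', mul_mem (show v ∈ V from hv) hv', u * u', mul_mem (show u ∈ U from hu) hu', ?_⟩
        calc v * v' * (u * u') = v * (v' * u) * u' := by group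
          _ = v * (u * v') * u' := by rw [(hcentQ u (hVa hu) v' hv').eq]
          _ = v * u * (v' * u') := by group
      inv_mem' := by
        rintro _ ⟨v, hv, u, hu, rfl⟩
        exact ⟨v, hv, u, hu, by rw [mul_inv_rev, hinv hv, hinv hu, (hcentQ u (hVa hu) v hv).eq]⟩ }
  have memE : ∀ {g : G}, g ∈ E ↔ ∃ v ∈ four x, ∃ u ∈ four a, v * u = g := Iff.rfl
  have huniq : ∀ {v v' u u' : G}, v ∈ four x → v' ∈ four x → u ∈ four a → u' ∈ four a →
      v * u = v' * u' → v = v' ∧ u = u' := by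
    intro v v' u u' hv hv' hu hu' e
    have e2 : v'⁻¹ * v = u' * u⁻¹ := by
      calc v'⁻¹ * v = v'⁻¹ * (v * u) * u⁻¹ := by group
        _ = u' * u⁻¹ := by rw [e]; group
    have h1 : v'⁻¹ * v ∈ V := mul_mem (inv_mem (show v' ∈ V from hv')) hv
    have h2 : u' * u⁻¹ ∈ U := mul_mem (show u' ∈ U from hu') (inv_mem (show u ∈ U from hu))
    have := hdis _ h1 (e2 ▸ h2)
    refine ⟨(inv_mul_eq_one.mp this).symm, ?_⟩
    rw [this] at e2
    exact (mul_inv_eq_one.mp e2.symm).symm
  have hEcard : Nat.card E = 16 := by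
    have e : Nat.card (V × U) = Nat.card E := Nat.card_congr (Equiv.ofBijective
      (fun p => (⟨(p.1 : G) * p.2, memE.mpr ⟨p.1, p.1.2, p.2, p.2.2, rfl⟩⟩ : E))
      ⟨fun p p' e => by
        obtain ⟨e1, e2⟩ := huniq p.1.2 p'.1.2 p.2.2 p'.2.2 (congrArg Subtype.val e)
        exact Prod.ext (Subtype.ext e1) (Subtype.ext e2),
      fun g => by
        obtain ⟨v, hv, u, hu, e⟩ := memE.mp g.2
        exact ⟨(⟨v, hv⟩, ⟨u, hu⟩), Subtype.ext e⟩⟩)
    rw [← e, Nat.card_prod, h.card_V hx, h.card_V ha3]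
  have hVE : four x ⊆ (E : Set G) := fun v hv => memE.mpr ⟨v, hv, 1, four_one a, mul_one v⟩
  have hUE : four a ⊆ (E : Set G) := fun u hu => memE.mpr ⟨1, four_one x, u, hu, one_mul u⟩
  have hEQ : E ≤ Q := by
    intro g hg
    obtain ⟨v, hv, u, hu, rfl⟩ := memE.mp hg
    exact mul_mem (hVQ hv) (hVa hu)
  have hEQw : E ≤ Qw := by
    have hVw : V ≤ Qw := by
      refine Tw.max V a ha3 haw (IsPGroup.of_card (n := 2) (by rw [h.card_V hx]; norm_num)) ?_ ?_
      · exact fun v hv => hcentQ w hwQ v hv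
      · exact fun v hv => four_conj (hPc a ha x hxP) hv
    intro g hg
    obtain ⟨v, hv, u, hu, rfl⟩ := memE.mp hg
    exact mul_mem (hVw hv) (Tw.four_le h hw2 ha3 haw hu)
  set H := normalizer (E : Set G) with hH
  have hPH : P ≤ H := fun p hp => mem_normalizer_of_conj fun g hg => by
    obtain ⟨v, hv, u, hu, rfl⟩ := memE.mp hg
    exact memE.mpr ⟨_, four_conj (hPc p hp x hxP) hv, _, four_conj (hPc p hp a ha) hu, by group⟩
  have : Fact (Nat.Prime 2) := ⟨Nat.prime_two⟩
  have hgrow : ∀ {s y : G} {S : Subgroup G}, TwoCore s S → orderOf y = 3 → y ∈ P → E ≤ S →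
      four y ⊆ (E : Set G) → Commute y s → S ≤ H := by
    intro s y S TS hy hyP hES hyE hys
    set N := S ⊓ H
    have hc := TS.card_cases h hy (inf_le_left : N ≤ S) (fun v hv => ⟨hES (hyE hv), le_normalizer (hyE hv)⟩)
      (fun n hn => ⟨TS.normal y hys n hn.1,
        mul_mem (mul_mem (hPH hyP) hn.2) (Subgroup.inv_mem _ (hPH hyP))⟩)
    obtain ⟨g, hgS, hgE, hgn⟩ := Orders5.exists_normalizing (p := 2) hES TS.isPGroup (fun e => by
      have := TS.card; rw [← e, hEcard] at this; omega)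
    have hlt : 16 < Nat.card N := by
      have hEN : E ≤ N := le_inf hES le_normalizer
      by_contra hle
      exact hgE ((eq_of_le_of_card_ge hEN (by omega)).ge ⟨hgS, hgn⟩)
    have h64 : Nat.card N = 64 := by
      change Nat.card N = 4 ∨ Nat.card N = 16 ∨ Nat.card N = 64 at hc
      omega
    exact (eq_of_le_of_card_ge (inf_le_left : N ≤ S) (by rw [h64, TS.card])).ge.trans inf_le_right
  have hQH : Q ≤ H := hgrow T hx hxP hEQ hVE hxt
  have hQwH : Qw ≤ H := hgrow Tw ha3 ha hEQw hUE haw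
  -- an element of the other core moving the four group
  obtain ⟨g, hg, v, hv, hgv⟩ : ∃ g ∈ Qw, ∃ v ∈ four x, g * v * g⁻¹ ∉ four x := by
    by_contra hno
    push Not at hno
    set K := Qw ⊓ centralizer ({t} : Set G)
    have horb := ncard_orbit_mul Qw t
    rw [Tw.card] at horb
    have hle : (orb Qw t).ncard ≤ 3 := by
      have h1 : orb Qw t ⊆ four x \ {1} := by
        rintro _ ⟨c, hc, rfl⟩
        exact ⟨hno c hc t htV, fun e => ht1 (conj_eq_one_iff.mp (Set.mem_singleton_iff.mp e))⟩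
      have h2 := Set.ncard_le_ncard h1
      rw [Set.ncard_sdiff_singleton_of_mem (four_one x), (h.four_spec hx).1] at h2
      omega
    have hKQ : K ≤ Q := by
      refine T.max K x hx hxt (Tw.isPGroup.to_le inf_le_left) (fun n hn => ?_) (fun n hn => ?_)
      · exact (mem_centralizer_singleton_iff.mp hn.2).symm
      · refine ⟨hall.conj_core h Tw hw2 ha3 haw (hPc x hxP a ha) n hn.1, mem_centralizer_singleton_iff.mpr ?_⟩
        exact ((hxt.mul_left (mem_centralizer_singleton_iff.mp hn.2)).mul_left hxt.inv_left).eq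
    have hc := T.card_cases h hx hKQ (fun u hu => ⟨hEQw (hVE hu), mem_centralizer_singleton_iff.mpr
      (h.commute_four hx hu htV).eq⟩) (fun n hn => by
        refine ⟨hall.conj_core h Tw hw2 ha3 haw (hPc x hxP a ha) n hn.1, mem_centralizer_singleton_iff.mpr ?_⟩
        exact ((hxt.mul_left (mem_centralizer_singleton_iff.mp hn.2)).mul_left hxt.inv_left).eq)
    change Nat.card K = 4 ∨ Nat.card K = 16 ∨ Nat.card K = 64 at hc
    have hK : Nat.card K = 64 := by
      generalize (orb Qw t).ncard = r at horb hle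
      change r * Nat.card K = 64 at horb
      interval_cases r <;> omega
    have hKw : K = Qw := eq_of_le_of_card_ge inf_le_left (le_of_eq (Tw.card.trans hK.symm))
    have hKQ' : K = Q := eq_of_le_of_card_ge hKQ (le_of_eq (T.card.trans hK.symm))
    exact hq0w ((Tw.comm q0 (by rw [← hKw, hKQ']; exact hq0)).symm)
  have hv1 : v ≠ 1 := fun e => hgv (by rw [e]; simpa using four_one x)
  obtain ⟨v', hv', u', hu', he⟩ := memE.mp ((mem_normalizer_iff.mp (hQwH hg) v).mp (hVE hv))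
  have hu1 : u' ≠ 1 := fun e => hgv (by rw [← he, e, mul_one]; exact hv')
  have hv'1 : v' ≠ 1 := fun e => hgv (by
    rw [e, one_mul] at he
    have hfix : g * u' * g⁻¹ = u' := by rw [(hcentW g hg u' hu').eq, mul_inv_cancel_right]
    have : u' = v := mul_left_cancel (mul_right_cancel (hfix.trans he))
    rw [← he, this]; exact hv)
  set O := orb H t with hO
  have hVO : ∀ u ∈ four x, u ≠ 1 → u ∈ orb P t := by
    intro u hu hu1'
    have e : P ⊓ centralizer ({t} : Set G) = zpowers x := le_antisymm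
      (fun p hp => hpx p hp.1 t htV ht1 (mem_centralizer_singleton_iff.mp hp.2).symm)
      (zpowers_le.mpr ⟨hxP, mem_centralizer_singleton_iff.mpr hxt.eq⟩)
    have h3 := ncard_orb_of_stab e
    rw [Nat.card_zpowers, hx, hP] at h3
    have hsub : orb P t ⊆ four x \ {1} := by
      rintro _ ⟨p, hp, rfl⟩
      exact ⟨four_conj (hPc p hp x hxP) htV, fun e => ht1 (conj_eq_one_iff.mp (Set.mem_singleton_iff.mp e))⟩
    rw [Set.eq_of_subset_of_ncard_le hsub (by
      rw [Set.ncard_sdiff_singleton_of_mem (four_one x), (h.four_spec hx).1]; omega)]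
    exact ⟨hu, hu1'⟩
  have heO : g * v * g⁻¹ ∈ O := by
    obtain ⟨p, hp, rfl⟩ := hVO v hv hv1
    exact orb_conj (hQwH hg) ⟨p, hPH hp, rfl⟩
  have horb9 : (orb P (g * v * g⁻¹)).ncard = 9 := by
    have e : P ⊓ centralizer ({g * v * g⁻¹} : Set G) = ⊥ := by
      rw [eq_bot_iff]
      intro p hp
      have hc : Commute (v' * u') p := by
        rw [he]; exact (mem_centralizer_singleton_iff.mp hp.2).symm
      have e3 : p * v' * p⁻¹ * (p * u' * p⁻¹) = v' * u' := by
        rw [show p * v' * p⁻¹ * (p * u' * p⁻¹) = p * (v' * u') * p⁻¹ by group, ← hc.eq, mul_inv_cancel_right]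
      obtain ⟨f1, f2⟩ := huniq (four_conj (hPc p hp.1 x hxP) hv') hv' (four_conj (hPc p hp.1 a ha) hu') hu' e3
      rw [← hxa]
      exact ⟨hpx p hp.1 v' hv' hv'1 (mul_inv_eq_iff_eq_mul.mp f1).symm,
        hpa p hp.1 u' hu' hu1 (mul_inv_eq_iff_eq_mul.mp f2).symm⟩
    have := ncard_orb_of_stab e
    rw [Subgroup.card_bot, mul_one, hP] at this
    exact this
  have hOE : O ⊆ (E : Set G) \ {1} := by
    rintro _ ⟨c, hc, rfl⟩
    exact ⟨(mem_normalizer_iff.mp hc t).mp (hVE htV), fun e => ht1 (conj_eq_one_iff.mp (Set.mem_singleton_iff.mp e))⟩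
  have h12 : 12 ≤ O.ncard := by
    have hd : Disjoint (four x \ {1}) (orb P (g * v * g⁻¹)) := by
      rw [Set.disjoint_left]
      rintro _ hmem ⟨p, hp, rfl⟩
      apply hgv
      have := four_conj (hPc p hp x hxP).inv_left hmem.1
      rwa [show p⁻¹ * (p * (g * v * g⁻¹) * p⁻¹) * p⁻¹⁻¹ = g * v * g⁻¹ by group] at this
    have hsub : four x \ {1} ∪ orb P (g * v * g⁻¹) ⊆ O := by
      rintro u (hu | ⟨p, hp, rfl⟩)
      · obtain ⟨p, hp, rfl⟩ := hVO u hu.1 hu.2
        exact ⟨p, hPH hp, rfl⟩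
      · exact orb_conj (hPH hp) heO
    have := Set.ncard_le_ncard hsub
    rw [Set.ncard_union_eq hd, horb9, Set.ncard_sdiff_singleton_of_mem (four_one x), (h.four_spec hx).1] at this
    omega
  have h15 : O.ncard ≤ 15 := by
    have := Set.ncard_le_ncard hOE
    rw [Set.ncard_sdiff_singleton_of_mem (show (1 : G) ∈ (E : Set G) from one_mem E),
      ← Nat.card_coe_set_eq (E : Set G)] at this
    change O.ncard ≤ Nat.card E - 1 at this
    omega
  set S := H ⊓ centralizer ({t} : Set G) with hS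
  have hcard : O.ncard * Nat.card S = Nat.card H := ncard_orbit_mul H t
  have hS192 : 192 ∣ Nat.card S := by
    have h1 : 64 ∣ Nat.card S := T.card ▸ Subgroup.card_dvd_of_le
      (le_inf hQH fun q hq => mem_centralizer_singleton_iff.mpr (T.comm q hq).symm.eq)
    have h2 : 3 ∣ Nat.card S := by
      rw [← hx]
      exact Subgroup.orderOf_dvd_natCard _ ⟨hPH hxP, mem_centralizer_singleton_iff.mpr hxt.eq⟩
    exact Nat.Coprime.mul_dvd_of_dvd_of_dvd (m := 64) (n := 3) (by norm_num) h1 h2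
  have hS384 : Nat.card S ∣ 384 := h.card_centralizer_two ht ▸ Subgroup.card_dvd_of_le inf_le_right
  have h9 : 9 ∣ Nat.card H := hP ▸ Subgroup.card_dvd_of_le hPH
  have hdG := card_subgroup_dvd_card H
  rw [h.card, ← hcard] at hdG
  rw [← hcard] at h9
  obtain ⟨m, hm⟩ := hS192
  have hm2 : m = 1 ∨ m = 2 := by
    have := Nat.le_of_dvd (by norm_num) hS384
    have := Nat.card_pos (α := S)
    omega
  have hr : O.ncard = 15 := by
    rw [hm] at hdG h9
    generalize O.ncard = r at h12 h15 hdG h9 ⊢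
    rcases hm2 with rfl | rfl <;> interval_cases r <;> first | omega | norm_num at hdG | norm_num at h9
  rw [hr] at hcard
  set M := H ⊓ normalizer (V : Set G) with hM
  have hMt : M ⊓ centralizer ({t} : Set G) = S := by
    refine le_antisymm (inf_le_inf_right _ inf_le_left) (le_inf (le_inf inf_le_left ?_) inf_le_right)
    intro c hc
    have hct : Commute c t := mem_centralizer_singleton_iff.mp hc.2
    refine mem_normalizer_of_conj fun u hu => ?_
    have := four_map (g := c) (show u ∈ four x from hu)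
    rw [hall.four_eq h ht hx hxt (y' := c * x * c⁻¹) ?_ ((hct.mul_left hxt).mul_left hct.inv_left)] at this
    · exact this
    · exact (orderOf_injective (MulAut.conj c).toMonoidHom (MulAut.conj c).injective x).trans hx
  have hPM : P ≤ M := le_inf hPH fun p hp => mem_normalizer_of_conj fun u hu => four_conj (hPc p hp x hxP) hu
  have hMorb : orb M t = four x \ {1} := by
    refine Set.Subset.antisymm ?_ ?_
    · rintro _ ⟨c, hc, rfl⟩
      exact ⟨(mem_normalizer_iff.mp hc.2 t).mp htV, fun e => ht1 (conj_eq_one_iff.mp (Set.mem_singleton_iff.mp e))⟩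
    · intro u hu
      obtain ⟨p, hp, rfl⟩ := hVO u hu.1 hu.2
      exact ⟨p, hPM hp, rfl⟩
  have hMc := ncard_orb_of_stab hMt
  rw [hMorb, Set.ncard_sdiff_singleton_of_mem (four_one x), (h.four_spec hx).1] at hMc
  have h5 : Nat.card H = 5 * Nat.card M := by
    rw [← hMc, ← hcard]; ring
  refine h.no_index_five (H := H) (M := M) ?_ inf_le_left h5
  rw [← hcard, hm]
  exact ⟨64 * m, by ring⟩

theorem Hyp.not_central (h : Hyp G) {t x : G} {Q : Subgroup G} (T : TwoCore t Q) (ht : orderOf t = 2)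
    (hx : orderOf x = 3) (hxt : Commute x t) (hc : ∀ q ∈ Q, ∀ v ∈ four x, Commute q v) : False := by
  classical
  have hall := h.allCentral T ht hx hxt hc
  obtain ⟨P, hP, hxP, hPc, hP3⟩ := h.exists_nine hx
  have hPQ : ∀ p ∈ P, ∀ q ∈ Q, p * q * p⁻¹ ∈ Q := fun p hp =>
    hall.conj_core h T ht hx hxt (hPc p hp x hxP)
  have hpick : ∀ X : Set G, X ⊆ (Q : Set G) → (∀ p ∈ P, ∀ m ∈ X, p * m * p⁻¹ ∈ X) → ¬ 9 ∣ X.ncard →
      ∃ a ∈ P, a ≠ 1 ∧ ∃ w ∈ X, Commute a w := by
    intro X _ hinv h9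
    by_contra hno
    push Not at hno
    exact h9 (hP ▸ card_dvd_of_free P X hinv fun p hp m hm e => by
      by_contra hp1
      exact hno p hp hp1 m hm (mul_inv_eq_iff_eq_mul.mp e))
  set Z := Q ⊓ centralizer (Q : Set G) with hZ
  have hVZ : four x ⊆ (Z : Set G) := fun v hv =>
    ⟨T.four_le h ht hx hxt hv, fun q hq => (hc q hq v hv).eq⟩
  have hxQ : ∀ p ∈ P, ∀ z ∈ Z, p * z * p⁻¹ ∈ Z := by
    intro p hp z hz
    refine ⟨hPQ p hp z hz.1, fun q hq => ?_⟩
    have e : p⁻¹ * q * p * z = z * (p⁻¹ * q * p) := hz.2 _ (by simpa using hPQ p⁻¹ (inv_mem hp) q hq)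
    calc q * (p * z * p⁻¹) = p * (p⁻¹ * q * p * z) * p⁻¹ := by group
      _ = p * (z * (p⁻¹ * q * p)) * p⁻¹ := by rw [e]
      _ = p * z * p⁻¹ * q := by group
  have hinvD : ∀ (S : Set G), (∀ p ∈ P, ∀ z ∈ S, p * z * p⁻¹ ∈ S) →
      ∀ p ∈ P, ∀ m ∈ (Q : Set G) \ S, p * m * p⁻¹ ∈ (Q : Set G) \ S := fun S hS p hp m hm =>
    ⟨hPQ p hp m hm.1, fun hm' => hm.2 (by
      have := hS p⁻¹ (inv_mem hp) _ hm'
      rwa [show p⁻¹ * (p * m * p⁻¹) * p⁻¹⁻¹ = m by group] at this)⟩
  have hnc : ∀ S : Set G, S ⊆ (Q : Set G) → ((Q : Set G) \ S).ncard = 64 - S.ncard := fun S hS => by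
    rw [Set.ncard_sdiff hS, ← Nat.card_coe_set_eq (Q : Set G)]
    change Nat.card Q - S.ncard = _
    rw [T.card]
  have hZc : Nat.card Z = 4 ∨ Nat.card Z = 16 ∨ Nat.card Z = 64 :=
    T.card_cases h hx inf_le_left hVZ (fun z hz => hxQ x hxP z hz)
  by_cases hZ64 : Nat.card Z = 64
  · have hab : ∀ q ∈ Q, ∀ r ∈ Q, Commute q r := by
      intro q hq r hr
      have hrZ : r ∈ Z := (eq_of_le_of_card_ge (inf_le_left : Z ≤ Q) (le_of_eq (T.card.trans hZ64.symm))).ge hr
      exact hrZ.2 q hq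
    obtain ⟨a, ha, ha1, w, hw, haw⟩ := hpick ((Q : Set G) \ four x) Set.diff_subset
      (hinvD (four x) fun p hp z hz => four_conj (hPc p hp x hxP) hz)
      (by rw [hnc _ (T.four_le h ht hx hxt), (h.four_spec hx).1]; norm_num)
    exact hall.false_abelian h T ht hx hxt hP hxP hPc hP3 ha ha1 hw.1 hw.2 haw hab
  · obtain ⟨a, ha, ha1, w, hw, haw⟩ := hpick ((Q : Set G) \ Z) Set.diff_subset (hinvD Z hxQ) (by
      rw [hnc _ (fun z hz => hz.1), ← Nat.card_coe_set_eq (Z : Set G)]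
      change ¬ 9 ∣ 64 - Nat.card Z
      rcases hZc with e | e | e <;> rw [e] <;> first | exact absurd e hZ64 | norm_num)
    have hwV : w ∉ four x := fun e => hw.2 (hVZ e)
    obtain ⟨q, hq, hqw⟩ : ∃ q ∈ Q, ¬ Commute q w := by
      by_contra hno
      push Not at hno
      exact hw.2 ⟨hw.1, fun q hq => (hno q hq).eq⟩
    exact hall.false_moving h T ht hx hxt hP hxP hPc hP3 ha ha1 hw.1 hwV haw hq hqw

end Cfsg.Agent.OrderM22
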