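/-
The elementary abelian subgroup of order 16 with normaliser of order 5760.

Main results (namespace `Cfsg.Agent.OrderM22`):
* `Hexad E`, `Hyp.exists_hexad`
* `Hexad.eq_of_mem` : each involution is in exactly one conjugate
-/
import Cfsg.Agent.Lib.OrderM22.Central

set_option autoImplicit false

namespace Cfsg.Agent.OrderM22

open Subgroup Cfsg.Agent.SmallOrders

variable {G : Type*} [Group G]

/-- An elementary abelian subgroup of order 16 on which the normaliser is transitive. -/
structure Hexad (E : Subgroup G) : Prop where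
  card : Nat.card E = 16
  elem : ∀ e ∈ E, e * e = 1
  card_normalizer : Nat.card (normalizer (E : Set G)) = 5760
  cent_le : ∀ e ∈ E, e ≠ 1 → centralizer ({e} : Set G) ≤ normalizer (E : Set G)
  trans : ∀ e ∈ E, ∀ f ∈ E, e ≠ 1 → f ≠ 1 → ∃ g ∈ normalizer (E : Set G), g * e * g⁻¹ = f

theorem Hexad.comm {E : Subgroup G} (hE : Hexad E) {a b : G} (ha : a ∈ E) (hb : b ∈ E) : Commute a b := by
  show a * b = b * a
  calc a * b = (a * b)⁻¹ := (inv_eq_of_mul_eq_one_right (hE.elem _ (mul_mem ha hb))).symm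
    _ = b⁻¹ * a⁻¹ := mul_inv_rev a b
    _ = b * a := by rw [inv_eq_of_mul_eq_one_right (hE.elem a ha), inv_eq_of_mul_eq_one_right (hE.elem b hb)]

variable [Finite G] [IsSimpleGroup G]

theorem Hyp.exists_hexad (h : Hyp G) : ∃ E : Subgroup G, Hexad E := by
  classical
  have : Fact (Nat.Prime 3) := ⟨by norm_num⟩
  have : Fact (Nat.Prime 2) := ⟨Nat.prime_two⟩
  obtain ⟨x, hx⟩ := exists_prime_orderOf_dvd_card' (G := G) 3 (by rw [h.card]; norm_num)
  obtain ⟨t, htV, ht1⟩ : ∃ t ∈ four x, t ≠ 1 := by
    have := (h.four_spec hx).1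
    obtain ⟨t, ht⟩ : (four x \ {1}).Nonempty := Set.nonempty_of_ncard_ne_zero (by
      rw [Set.ncard_sdiff_singleton_of_mem (four_one x), this]; norm_num)
    exact ⟨t, ht.1, ht.2⟩
  have ht := orderOf_of_mem_four htV ht1
  have hxt : Commute x t := htV.2.symm
  obtain ⟨Q, T⟩ := h.exists_core ht
  obtain ⟨hR, hnorm⟩ := T.normalizer_four h ht hx hxt
  have hVQ := T.four_le h ht hx hxt
  set E := Q ⊓ centralizer (four x) with hEdef
  change Nat.card E = 16 ∨ Nat.card E = 64 at hR
  rcases hR with hE | hE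
  swap
  · exfalso
    refine h.not_central T ht hx hxt fun q hq v hv => ?_
    have hq' : q ∈ E := (eq_of_le_of_card_ge (inf_le_left : E ≤ Q) (le_of_eq (T.card.trans hE.symm))).ge hq
    have e : v * q = q * v := hq'.2 v hv
    exact e.symm
  have hVE : four x ⊆ (E : Set G) := fun v hv => ⟨hVQ hv, fun w hw => (h.commute_four hx hw hv).eq⟩
  have hcE : ∀ {g v : G}, g ∈ E → v ∈ four x → Commute v g := fun {g v} hg hv => hg.2 v hv
  -- `E` is invariant under an element centralising `x`
  have hxpE : ∀ p, Commute p x → p ∈ normalizer (E : Set G) := by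
    intro p hp
    refine mem_normalizer_of_conj fun g hg => ?_
    have hcent : ∀ v ∈ four x, Commute v (p * g * p⁻¹) := fun v hv => by
      have hv' : p⁻¹ * v * p ∈ four x := by simpa using four_conj hp.inv_left hv
      simpa [mul_assoc] using (hcE hg hv').map (MulAut.conj p).toMonoidHom
    refine ⟨T.max (E.map (MulAut.conj p).toMonoidHom) x hx hxt ((T.isPGroup.to_le inf_le_left).map _) ?_ ?_ ⟨g, hg, rfl⟩,
      fun v hv => (hcent v hv).eq⟩
    · rintro _ ⟨g', hg', rfl⟩
      have hv' : p⁻¹ * t * p ∈ four x := by simpa using four_conj hp.inv_left htV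
      simpa [mul_assoc] using (hcE hg' hv').map (MulAut.conj p).toMonoidHom
    · rintro _ ⟨g', hg', rfl⟩
      refine ⟨x * g' * x⁻¹, ⟨T.normal x hxt g' hg'.1, fun v hv => ?_⟩, ?_⟩
      · exact ((hv.2.mul_right (hcE hg' hv)).mul_right hv.2.inv_right).eq
      · show p * (x * g' * x⁻¹) * p⁻¹ = x * (p * g' * p⁻¹) * x⁻¹
        calc p * (x * g' * x⁻¹) * p⁻¹ = (p * x) * g' * (p * x)⁻¹ := by group
          _ = (x * p) * g' * (x * p)⁻¹ := by rw [hp.eq]
          _ = x * (p * g' * p⁻¹) * x⁻¹ := by group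
  have hxH := hxpE x (Commute.refl x)
  have hxE : ∀ g ∈ E, x * g * x⁻¹ ∈ E := fun g hg => (mem_normalizer_iff.mp hxH g).mp hg
  -- `E` is abelian
  have hab : ∀ a ∈ E, ∀ b ∈ E, Commute a b := by
    set Z := E ⊓ centralizer (E : Set G)
    have hVZ : four x ⊆ (Z : Set G) := fun v hv => ⟨hVE hv, fun g hg => (hcE hg hv).symm.eq⟩
    have hc := T.card_cases h hx ((inf_le_left : Z ≤ E).trans inf_le_left) hVZ (fun z hz => by
      refine ⟨hxE z hz.1, fun g hg => ?_⟩
      have hg' : x⁻¹ * g * x ∈ E := by simpa using (mem_normalizer_iff.mp (Subgroup.inv_mem _ hxH) g).mp hg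
      have hzg : Commute (x⁻¹ * g * x) z := hz.2 _ hg'
      have := hzg.map (MulAut.conj x).toMonoidHom
      simpa [mul_assoc] using this.eq)
    change Nat.card Z = 4 ∨ Nat.card Z = 16 ∨ Nat.card Z = 64 at hc
    rcases hc with e | e | e
    · exfalso
      obtain ⟨w, hwQ, hwE, hwn⟩ := Orders5.exists_normalizing (p := 2) (inf_le_left : E ≤ Q) T.isPGroup
        (fun e' => by have := T.card; rw [← e', hE] at this; omega)
      have hZV : Z = h.V hx := (eq_of_le_of_card_ge (show h.V hx ≤ Z from hVZ) (le_of_eq (e.trans (h.card_V hx).symm))).symm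
      refine hwE ⟨hwQ, fun v hv => ?_⟩
      refine ((hnorm w hwQ (fun u hu => ?_)) v hv).symm.eq
      show w * u * w⁻¹ ∈ h.V hx
      rw [← hZV]
      have huZ : u ∈ Z := hVZ hu
      refine ⟨(mem_normalizer_iff.mp hwn u).mp huZ.1, fun g hg => ?_⟩
      have hg' : w⁻¹ * g * w ∈ E := by
        have := (mem_normalizer_iff.mp (Subgroup.inv_mem _ hwn) g).mp hg
        rwa [inv_inv] at this
      have hug : Commute (w⁻¹ * g * w) u := huZ.2 _ hg'
      have := hug.map (MulAut.conj w).toMonoidHom
      simpa [mul_assoc] using this.eq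
    · intro a ha b hb
      have hbZ : b ∈ Z := (eq_of_le_of_card_ge (inf_le_left : Z ≤ E) (le_of_eq (hE.trans e.symm))).ge hb
      exact hbZ.2 a ha
    · have := Subgroup.card_dvd_of_le (inf_le_left : Z ≤ E)
      rw [e, hE] at this; norm_num at this
  have hQH : Q ≤ normalizer (E : Set G) := by
    set N := Q ⊓ normalizer (E : Set G)
    have hc := T.card_cases h hx (inf_le_left : N ≤ Q) (fun v hv => ⟨hVQ hv, le_normalizer (hVE hv)⟩)
      (fun n hn => ⟨T.normal x hxt n hn.1, mul_mem (mul_mem hxH hn.2) (Subgroup.inv_mem _ hxH)⟩)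
    change Nat.card N = 4 ∨ Nat.card N = 16 ∨ Nat.card N = 64 at hc
    obtain ⟨g, hgQ, hgE, hgn⟩ := Orders5.exists_normalizing (p := 2) (inf_le_left : E ≤ Q) T.isPGroup
      (fun e' => by have := T.card; rw [← e', hE] at this; omega)
    have hEN : E ≤ N := le_inf inf_le_left le_normalizer
    have hlt : 16 < Nat.card N := by
      by_contra hle
      exact hgE ((eq_of_le_of_card_ge hEN (by omega)).ge ⟨hgQ, hgn⟩)
    have h64 : Nat.card N = 64 := by omega
    exact (eq_of_le_of_card_ge (inf_le_left : N ≤ Q) (le_of_eq (T.card.trans h64.symm))).ge.trans inf_le_right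
  -- an element of the core moving the four group
  obtain ⟨v, hv, hv1, hvt⟩ : ∃ v ∈ four x, v ≠ 1 ∧ v ≠ t := by
    obtain ⟨v, hv⟩ : (four x \ {1, t}).Nonempty := Set.nonempty_of_ncard_ne_zero (by
      rw [Set.ncard_sdiff (by rintro g (rfl | rfl); exacts [four_one x, htV]), (h.four_spec hx).1,
        Set.ncard_pair ht1.symm]; norm_num)
    simp only [Set.mem_sdiff, Set.mem_insert_iff, Set.mem_singleton_iff, not_or] at hv
    exact ⟨v, hv.1, hv.2.1, hv.2.2⟩
  have hQv : (orb Q v).ncard = 4 := by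
    have e : Q ⊓ centralizer ({v} : Set G) = E := by
      refine le_antisymm (fun q hq => ⟨hq.1, fun w hw => ?_⟩)
        (le_inf inf_le_left fun q hq => mem_centralizer_singleton_iff.mpr (hcE hq hv).symm.eq)
      have hqv : Commute q v := mem_centralizer_singleton_iff.mp hq.2
      have hqt : Commute q t := (T.comm q hq.1).symm
      rcases h.four_cases hx htV hv ht1 hv1 (Ne.symm hvt) hw with e | e | e | e <;> rw [e]
      · simp
      · exact hqt.symm.eq
      · exact hqv.symm.eq
      · exact (hqt.mul_right hqv).symm.eq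
    have := ncard_orb_of_stab e
    rw [hE, T.card] at this; omega
  -- elementary abelian
  have helem : ∀ a ∈ E, a * a = 1 := by
    let S : Subgroup G :=
      { carrier := {a | a ∈ E ∧ a * a = 1}
        one_mem' := ⟨one_mem E, one_mul 1⟩
        mul_mem' := fun {a b} ha hb => ⟨mul_mem ha.1 hb.1, by
          calc a * b * (a * b) = a * (b * a) * b := by group
            _ = a * (a * b) * b := by rw [(hab a ha.1 b hb.1).eq]
            _ = a * a * (b * b) := by group
            _ = 1 := by rw [ha.2, hb.2, one_mul]⟩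
        inv_mem' := fun {a} ha => ⟨inv_mem ha.1, by rw [inv_eq_of_mul_eq_one_right ha.2]; exact ha.2⟩ }
    have hSE : S ≤ E := fun a ha => ha.1
    have hVS : four x ⊆ (S : Set G) := fun u hu => ⟨hVE hu, hu.1⟩
    have hc := T.card_cases h hx (hSE.trans inf_le_left) hVS (fun a ha => ⟨hxE a ha.1, by rw [conj_mul, ha.2]; group⟩)
    rcases hc with e | e | e
    · exfalso
      have hSV : S = h.V hx := (eq_of_le_of_card_ge (show h.V hx ≤ S from hVS) (le_of_eq (e.trans (h.card_V hx).symm))).symm
      have hsub : orb Q v ⊆ (four x \ {1, t}) := by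
        rintro _ ⟨q, hq, rfl⟩
        have hm : q * v * q⁻¹ ∈ S := ⟨(mem_normalizer_iff.mp (hQH hq) v).mp (hVE hv), by rw [conj_mul, hv.1]; group⟩
        rw [hSV] at hm
        refine ⟨hm, ?_⟩
        simp only [Set.mem_insert_iff, Set.mem_singleton_iff, not_or]
        refine ⟨fun e' => hv1 (conj_eq_one_iff.mp e'), fun e' => hvt ?_⟩
        calc v = q⁻¹ * (q * v * q⁻¹) * q := by group
          _ = q⁻¹ * (t * q) := by rw [e']; group
          _ = t := by rw [(T.comm q hq).eq]; group
      have := Set.ncard_le_ncard hsub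
      rw [hQv, Set.ncard_sdiff (by rintro g (rfl | rfl); exacts [four_one x, htV]), (h.four_spec hx).1,
        Set.ncard_pair ht1.symm] at this
      omega
    · intro a ha
      have haS : a ∈ S := (eq_of_le_of_card_ge hSE (le_of_eq (hE.trans e.symm))).ge ha
      exact haS.2
    · have := Subgroup.card_dvd_of_le hSE
      rw [e, hE] at this; norm_num at this
  -- the centraliser of `t` normalises `E`
  set H := normalizer (E : Set G) with hH
  have hx3 : x ^ 3 = 1 := by rw [← hx, pow_orderOf_eq_one]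
  have hCH : centralizer ({t} : Set G) ≤ H := by
    intro c hc
    have hct : Commute c t := mem_centralizer_singleton_iff.mp hc
    obtain ⟨q, hq, e⟩ := T.exists_conj h ht hx hxt (y := c * x * c⁻¹)
      ((orderOf_injective (MulAut.conj c).toMonoidHom (MulAut.conj c).injective x).trans hx)
      ((hct.mul_left hxt).mul_left hct.inv_left)
    set d := q⁻¹ * c with hd
    have hdt : Commute d t := (T.comm q hq).symm.inv_left.mul_left hct
    have hdx : four (d * x * d⁻¹) = four x := by
      rcases e with e | e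
      · rw [hd, show q⁻¹ * c * x * (q⁻¹ * c)⁻¹ = q⁻¹ * (c * x * c⁻¹) * q by group, ← e,
          show q⁻¹ * (q * x * q⁻¹) * q = x by group]
      · rw [hd, show q⁻¹ * c * x * (q⁻¹ * c)⁻¹ = q⁻¹ * (c * x * c⁻¹) * q by group, ← e,
          show q⁻¹ * (q * x ^ 2 * q⁻¹) * q = x ^ 2 by group, four_sq hx3]
    have hdV : d⁻¹ ∈ normalizer (h.V hx : Set G) := Subgroup.inv_mem _ (mem_normalizer_of_conj fun u hu => by
      have := four_map (g := d) (show u ∈ four x from hu)
      rw [hdx] at this
      exact this)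
    have hdH : d ∈ H := by
      refine mem_normalizer_of_conj fun g hg => ⟨T.normal d hdt g hg.1, fun u hu => ?_⟩
      have hu' : d⁻¹ * u * d⁻¹⁻¹ ∈ four x := (mem_normalizer_iff.mp hdV u).mp hu
      have := (hcE hg hu').map (MulAut.conj d).toMonoidHom
      simpa [mul_assoc] using this.eq
    have hcq : c = q * d := by rw [hd]; group
    rw [hcq]
    exact mul_mem (hQH hq) hdH
  obtain ⟨P, hP, hxP, hPc, -⟩ := h.exists_nine hx
  have hPH : P ≤ H := fun p hp => hxpE p (hPc p hp x hxP)
  -- the orbit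
  have horb : orb H t = (E : Set G) \ {1} := by
    have hsub : orb H t ⊆ (E : Set G) \ {1} := by
      rintro _ ⟨g, hg, rfl⟩
      exact ⟨(mem_normalizer_iff.mp hg t).mp (hVE htV), fun e => ht1 (conj_eq_one_iff.mp (Set.mem_singleton_iff.mp e))⟩
    refine Set.eq_of_subset_of_ncard_le hsub ?_
    rw [Set.ncard_sdiff_singleton_of_mem (show (1 : G) ∈ (E : Set G) from one_mem E), ← Nat.card_coe_set_eq (E : Set G)]
    change Nat.card E - 1 ≤ _
    rw [hE]
    have hcard := ncard_orbit_mul H t
    rw [inf_eq_right.mpr hCH, h.card_centralizer_two ht] at hcard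
    have h9 : 9 ∣ (orb H t).ncard * 384 := hcard.symm ▸ hP ▸ Subgroup.card_dvd_of_le hPH
    have hdG := card_subgroup_dvd_card H
    rw [h.card, ← hcard] at hdG
    have hle := Set.ncard_le_ncard hsub
    rw [Set.ncard_sdiff_singleton_of_mem (show (1 : G) ∈ (E : Set G) from one_mem E), ← Nat.card_coe_set_eq (E : Set G)] at hle
    change (orb H t).ncard ≤ Nat.card E - 1 at hle
    rw [hE] at hle
    have h5 : 5 ≤ (orb H t).ncard := by
      obtain ⟨c, hc, hct⟩ := (h.four_spec hx).2.2.2 t htV v hv ht1 hv1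
      have hvO : v ∈ orb H t := ⟨c, hxpE c hc, hct⟩
      have htn : t ∉ orb Q v := by
        rintro ⟨q, hq, e⟩
        apply hvt
        calc v = q⁻¹ * (q * v * q⁻¹) * q := by group
          _ = q⁻¹ * (t * q) := by rw [e]; group
          _ = t := by rw [(T.comm q hq).eq]; group
      have hins : insert t (orb Q v) ⊆ orb H t := by
        refine Set.insert_subset (mem_orb_self H t) ?_
        rintro _ ⟨q, hq, rfl⟩
        exact orb_conj (hQH hq) hvO
      have := Set.ncard_le_ncard hins
      rw [Set.ncard_insert_of_notMem htn, hQv] at this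
      omega
    generalize (orb H t).ncard = r at h5 hle hdG h9 ⊢
    interval_cases r <;> first | omega | norm_num at hdG | norm_num at h9
  have hcardH : Nat.card H = 5760 := by
    have hcard := ncard_orbit_mul H t
    rw [inf_eq_right.mpr hCH, h.card_centralizer_two ht, horb,
      Set.ncard_sdiff_singleton_of_mem (show (1 : G) ∈ (E : Set G) from one_mem E), ← Nat.card_coe_set_eq (E : Set G)] at hcard
    change (Nat.card E - 1) * 384 = Nat.card H at hcard
    rw [hE] at hcard
    omega
  have hmem : ∀ {e : G}, e ∈ E → e ≠ 1 → ∃ g ∈ H, g * t * g⁻¹ = e := fun {e} he he1 => by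
    have : e ∈ orb H t := by rw [horb]; exact ⟨he, he1⟩
    exact this
  refine ⟨E, hE, helem, hcardH, fun e he he1 c hc => ?_, fun e he f hf he1 hf1 => ?_⟩
  · obtain ⟨g, hg, rfl⟩ := hmem he he1
    have hc' : g⁻¹ * c * g ∈ centralizer ({t} : Set G) := by
      rw [mem_centralizer_singleton_iff] at hc ⊢
      calc g⁻¹ * c * g * t = g⁻¹ * (c * (g * t * g⁻¹)) * g := by group
        _ = g⁻¹ * ((g * t * g⁻¹) * c) * g := by rw [hc]
        _ = t * (g⁻¹ * c * g) := by group
    have := mul_mem (mul_mem hg (hCH hc')) (Subgroup.inv_mem _ hg)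
    rwa [show g * (g⁻¹ * c * g) * g⁻¹ = c by group] at this
  · obtain ⟨g, hg, rfl⟩ := hmem he he1
    obtain ⟨g', hg', rfl⟩ := hmem hf hf1
    exact ⟨g' * g⁻¹, mul_mem hg' (Subgroup.inv_mem _ hg), by group⟩

end Cfsg.Agent.OrderM22
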