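/-
The 77 conjugates of the hexad subgroup.

Main results (namespace `Cfsg.Agent.OrderM22`):
* `Pt E` : the conjugates, with `Hexad.card_pt` = 77
* `Hexad.eq_of_mem` : each involution is in exactly one of them
* `Hexad.card_regular` : 16 conjugates are moved regularly by one of them
* `Hexad.card_fixPart` : the other 60 are fixed by a subgroup of order 4
-/
import Cfsg.Agent.Lib.OrderM22.Hexad

set_option autoImplicit false

open scoped ComplexConjugate

namespace Cfsg.Agent.OrderM22

open Subgroup Cfsg Cfsg.Agent.SmallOrders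

variable {G : Type*} [Group G]

/-- The conjugates of `E`. -/
def Pt (E : Subgroup G) : Type _ := {F : Subgroup G // ∃ g : G, E.map (MulAut.conj g).toMonoidHom = F}

variable {E : Subgroup G}

instance [Finite G] : Finite (Pt E) := Subtype.finite

/-- `E` as a point. -/
def Pt.base (E : Subgroup G) : Pt E := ⟨E, 1, by ext g; simp⟩

theorem map_conj_mul (g h : G) (F : Subgroup G) :
    F.map (MulAut.conj (g * h)).toMonoidHom =
      (F.map (MulAut.conj h).toMonoidHom).map (MulAut.conj g).toMonoidHom := by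
  rw [Subgroup.map_map]
  congr 1
  ext x
  simp [mul_assoc]

instance : MulAction G (Pt E) where
  smul g F := ⟨F.1.map (MulAut.conj g).toMonoidHom, by
    obtain ⟨c, hc⟩ := F.2
    exact ⟨g * c, by rw [map_conj_mul, hc]⟩⟩
  one_smul F := Subtype.ext (by
    show F.1.map (MulAut.conj 1).toMonoidHom = F.1
    ext x; simp)
  mul_smul g h F := Subtype.ext (map_conj_mul g h F.1)

theorem Pt.smul_val (g : G) (F : Pt E) : (g • F).1 = F.1.map (MulAut.conj g).toMonoidHom := rfl

theorem Pt.mem_smul {g e : G} {F : Pt E} : e ∈ (g • F).1 ↔ g⁻¹ * e * g ∈ F.1 := by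
  rw [Pt.smul_val]
  constructor
  · rintro ⟨x, hx, rfl⟩
    simpa [mul_assoc] using hx
  · intro h
    exact ⟨g⁻¹ * e * g, h, by simp [mul_assoc]⟩

theorem Pt.exists_smul (F K : Pt E) : ∃ g : G, g • F = K := by
  obtain ⟨a, ha⟩ := F.2
  obtain ⟨b, hb⟩ := K.2
  refine ⟨b * a⁻¹, Subtype.ext ?_⟩
  rw [Pt.smul_val, ← ha, ← map_conj_mul, inv_mul_cancel_right, hb]

theorem Pt.smul_eq_iff [Finite G] {g : G} {F : Pt E} : g • F = F ↔ g ∈ normalizer (F.1 : Set G) := by
  constructor
  · intro e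
    refine mem_normalizer_of_conj fun n hn => ?_
    rw [← e, Pt.mem_smul]
    rwa [show g⁻¹ * (g * n * g⁻¹) * g = n by group]
  · intro hg
    refine Subtype.ext (SetLike.ext fun n => ?_)
    rw [Pt.mem_smul]
    have := (mem_normalizer_iff.mp (Subgroup.inv_mem _ hg) n)
    rw [inv_inv] at this
    exact this.symm

theorem Pt.stabilizer_eq [Finite G] (F : Pt E) :
    MulAction.stabilizer G F = normalizer (F.1 : Set G) := by
  ext g; exact Pt.smul_eq_iff

theorem Hexad.map (hE : Hexad E) (g : G) : Hexad (E.map (MulAut.conj g).toMonoidHom) := by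
  set f := (MulAut.conj g : G ≃* G)
  have hN : normalizer ((E.map f.toMonoidHom : Subgroup G) : Set G) =
      (normalizer (E : Set G)).map f.toMonoidHom := (Subgroup.map_equiv_normalizer_eq E f).symm
  refine ⟨?_, ?_, ?_, ?_, ?_⟩
  · rw [Nat.card_congr (E.equivMapOfInjective f.toMonoidHom f.injective).toEquiv.symm, hE.card]
  · rintro _ ⟨e, he, rfl⟩
    rw [← map_mul, hE.elem e he, map_one]
  · rw [hN, Nat.card_congr ((normalizer (E : Set G)).equivMapOfInjective f.toMonoidHom f.injective).toEquiv.symm,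
      hE.card_normalizer]
  · rintro _ ⟨e, he, rfl⟩ he1 c hc
    rw [hN]
    refine ⟨f.symm c, hE.cent_le e he (fun e' => he1 (by rw [e', map_one])) ?_, f.apply_symm_apply c⟩
    rw [mem_centralizer_singleton_iff] at hc ⊢
    apply f.injective
    rw [map_mul, map_mul, f.apply_symm_apply]
    exact hc
  · rintro _ ⟨e, he, rfl⟩ _ ⟨e', he', rfl⟩ h1 h1'
    obtain ⟨c, hc, hce⟩ := hE.trans e he e' he' (fun x => h1 (by rw [x, map_one]))
      (fun x => h1' (by rw [x, map_one]))
    rw [hN]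
    exact ⟨f c, ⟨c, hc, rfl⟩, by rw [← hce]; simp [MulEquiv.coe_toMonoidHom]⟩

theorem Pt.hexad (hE : Hexad E) (F : Pt E) : Hexad F.1 := by
  obtain ⟨g, hg⟩ := F.2
  exact hg ▸ hE.map g

/-- The part of `F` fixing `K`. -/
def fixPart (F K : Pt E) : Subgroup G := F.1 ⊓ normalizer (K.1 : Set G)

variable [Finite G] [IsSimpleGroup G]

theorem Hexad.card_pt (hE : Hexad E) (h : Hyp G) : Nat.card (Pt E) = 77 := by
  have h1 := MulAction.index_stabilizer (G := G) (x := Pt.base E)
  have h2 : MulAction.orbit G (Pt.base E) = Set.univ :=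
    Set.eq_univ_of_forall fun K => Pt.exists_smul _ K
  have hst : MulAction.stabilizer G (Pt.base E) = normalizer (E : Set G) := Pt.stabilizer_eq (Pt.base E)
  rw [h2, Set.ncard_univ, hst] at h1
  have h3 := (normalizer (E : Set G)).card_mul_index
  rw [h1, hE.card_normalizer, h.card] at h3
  omega

theorem Hexad.eq_of_mem (hE : Hexad E) (h : Hyp G) {F K : Pt E} {e : G} (he : e ≠ 1) (heF : e ∈ F.1)
    (heK : e ∈ K.1) : F = K := by
  classical
  have := Fintype.ofFinite (Pt E)
  let f : (Σ F : Pt E, {e : G // e ∈ F.1 ∧ e ≠ 1}) → {g : G // orderOf g = 2} :=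
    fun p => ⟨p.2.1, orderOf_eq_prime (by rw [pow_two, (p.1.hexad hE).elem _ p.2.2.1]) p.2.2.2⟩
  have ho : orderOf e = 2 := (f ⟨F, e, heF, he⟩).2
  have hsurj : Function.Surjective f := by
    rintro ⟨g, hg⟩
    obtain ⟨c, hc⟩ := isConj_iff.mp (h.one_class ho hg)
    refine ⟨⟨c • F, g, ?_, fun e1 => by rw [e1, orderOf_one] at hg; omega⟩, rfl⟩
    rw [Pt.mem_smul, ← hc, show c⁻¹ * (c * e * c⁻¹) * c = e by group]
    exact heF
  have hcard : Nat.card (Σ F : Pt E, {e : G // e ∈ F.1 ∧ e ≠ 1}) = 1155 := by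
    rw [Nat.card_sigma, Finset.sum_congr rfl (fun F _ => show Nat.card {e : G // e ∈ F.1 ∧ e ≠ 1} = 15 by
      change Nat.card ↥((F.1 : Set G) \ {1}) = 15
      rw [Nat.card_coe_set_eq, Set.ncard_sdiff_singleton_of_mem (show (1 : G) ∈ (F.1 : Set G) from one_mem _),
        ← Nat.card_coe_set_eq (F.1 : Set G)]
      change Nat.card F.1 - 1 = 15
      rw [(F.hexad hE).card])]
    rw [Finset.sum_const, Finset.card_univ, ← Nat.card_eq_fintype_card, hE.card_pt h]
    rfl
  have hinj := (hsurj.bijective_of_nat_card_le (by rw [hcard, h.card_involutions ho])).1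
  exact congrArg Sigma.fst (hinj (a₁ := ⟨F, e, heF, he⟩) (a₂ := ⟨K, e, heK, he⟩) rfl)

theorem Hexad.smul_of_commute (hE : Hexad E) (h : Hyp G) {K : Pt E} {e j : G} (hj : j ∈ K.1)
    (hj1 : j ≠ 1) (hej : Commute e j) : e ∈ normalizer (K.1 : Set G) :=
  Pt.smul_eq_iff.mp (hE.eq_of_mem h hj1 (F := e • K) (by
    rw [Pt.mem_smul, mul_assoc, ← hej.eq, inv_mul_cancel_left]
    exact hj) hj)

/-- An involution normalising `K` centralises at least four of its elements. -/
theorem Hexad.four_le_centralizer (hE : Hexad E) {K : Pt E} {e : G} (he : e * e = 1)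
    (heK : e ∈ normalizer (K.1 : Set G)) :
    4 ≤ Nat.card ↥(K.1 ⊓ centralizer ({e} : Set G)) := by
  have hK := K.hexad hE
  have hinv : e⁻¹ = e := inv_eq_of_mul_eq_one_right he
  have hmem : ∀ k ∈ K.1, e * k * e ∈ K.1 := fun k hk => by
    have := (mem_normalizer_iff.mp heK k).mp hk
    rwa [hinv] at this
  let f : K.1 →* K.1 :=
    { toFun := fun k => ⟨k.1 * (e * k.1 * e), mul_mem k.2 (hmem k.1 k.2)⟩
      map_one' := Subtype.ext (by simp [he])
      map_mul' := fun a b => Subtype.ext (by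
        show a.1 * b.1 * (e * (a.1 * b.1) * e) = a.1 * (e * a.1 * e) * (b.1 * (e * b.1 * e))
        calc a.1 * b.1 * (e * (a.1 * b.1) * e) = a.1 * b.1 * ((e * a.1 * e) * (e * b.1 * e)) := by
              rw [show (e * a.1 * e) * (e * b.1 * e) = e * a.1 * (e * e) * b.1 * e by group, he]; group
          _ = a.1 * (b.1 * (e * a.1 * e)) * (e * b.1 * e) := by group
          _ = a.1 * ((e * a.1 * e) * b.1) * (e * b.1 * e) := by rw [(hK.comm b.2 (hmem a.1 a.2)).eq]
          _ = a.1 * (e * a.1 * e) * (b.1 * (e * b.1 * e)) := by group) }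
  set C := K.1 ⊓ centralizer ({e} : Set G)
  set C' := C.subgroupOf K.1
  have hC' : Nat.card C' = Nat.card C := Nat.card_congr (subgroupOfEquivOfLe inf_le_left).toEquiv
  have hker : f.ker ≤ C' := by
    intro k hk
    refine ⟨k.2, mem_centralizer_singleton_iff.mpr ?_⟩
    have e1 : k.1 * (e * k.1 * e) = 1 := congrArg Subtype.val hk
    have e2 : e * k.1 * e = k.1 := by rw [eq_inv_of_mul_eq_one_right e1, inv_eq_of_mul_eq_one_right (hK.elem _ k.2)]
    calc k.1 * e = e * k.1 * e * e := by rw [e2]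
      _ = e * k.1 := by rw [mul_assoc, he, mul_one]
  have hrange : f.range ≤ C' := by
    rintro _ ⟨k, rfl⟩
    refine ⟨(f k).2, mem_centralizer_singleton_iff.mpr ?_⟩
    show k.1 * (e * k.1 * e) * e = e * (k.1 * (e * k.1 * e))
    calc k.1 * (e * k.1 * e) * e = k.1 * (e * k.1) * (e * e) := by group
      _ = k.1 * e * k.1 := by rw [he]; group
      _ = e * ((e * k.1 * e) * k.1) := by
        rw [show e * ((e * k.1 * e) * k.1) = (e * e) * k.1 * e * k.1 by group, he]; group
      _ = e * (k.1 * (e * k.1 * e)) := by rw [(hK.comm (hmem k.1 k.2) k.2).eq]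
  have h1 := f.ker.card_mul_index
  rw [Subgroup.index_ker, hK.card] at h1
  have h2 := Nat.le_of_dvd Nat.card_pos (Subgroup.card_dvd_of_le hker)
  have h3 := Nat.le_of_dvd Nat.card_pos (Subgroup.card_dvd_of_le hrange)
  rw [hC'] at h2 h3
  by_contra hlt
  have := Nat.mul_le_mul h2 h3
  rw [h1] at this
  have hle : Nat.card C ≤ 3 := by omega
  have := this.trans (Nat.mul_le_mul hle hle)
  omega

theorem Hexad.fixPart_bot_iff (hE : Hexad E) (h : Hyp G) {F K : Pt E} :
    fixPart F K ≠ ⊥ → 4 ≤ Nat.card (fixPart K F) ∧ fixPart K F ≠ ⊥ := by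
  intro hne
  obtain ⟨a, ha, ha1⟩ := Subgroup.ne_bot_iff_exists_ne_one.mp hne |> fun ⟨a, ha⟩ =>
    (⟨a.1, a.2, fun e => ha (Subtype.ext e)⟩ : ∃ a, a ∈ fixPart F K ∧ a ≠ 1)
  have h4 := hE.four_le_centralizer ((F.hexad hE).elem a ha.1) ha.2
  have hle : K.1 ⊓ centralizer ({a} : Set G) ≤ fixPart K F := fun b hb =>
    ⟨hb.1, (F.hexad hE).cent_le a ha.1 ha1 hb.2⟩
  have hcard := h4.trans (Nat.le_of_dvd Nat.card_pos (Subgroup.card_dvd_of_le hle))
  exact ⟨hcard, fun e => by rw [e, Subgroup.card_bot] at hcard; omega⟩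

theorem Hexad.fixPart_symm (hE : Hexad E) (h : Hyp G) {F K : Pt E} :
    fixPart F K = ⊥ ↔ fixPart K F = ⊥ :=
  ⟨fun e => by_contra fun hne => (hE.fixPart_bot_iff h hne).2 e,
    fun e => by_contra fun hne => (hE.fixPart_bot_iff h hne).2 e⟩

theorem Hexad.four_le_fixPart (hE : Hexad E) (h : Hyp G) {F K : Pt E} (hne : fixPart F K ≠ ⊥) :
    4 ≤ Nat.card (fixPart F K) :=
  (hE.fixPart_bot_iff h (hE.fixPart_bot_iff h hne).2).1

omit [Finite G] [IsSimpleGroup G] in
theorem invol_pair {a b t : G} (ha : a * a = 1) (hb : b * b = 1) (ht : t * t = 1) (hab : a * b = t) :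
    a * t = t * a ∧ a * t = b := by
  subst hab
  have e : b * a = a * b := by
    calc b * a = (a * b)⁻¹ := by
          rw [mul_inv_rev, inv_eq_of_mul_eq_one_right ha, inv_eq_of_mul_eq_one_right hb]
      _ = a * b := inv_eq_of_mul_eq_one_right ht
  refine ⟨?_, by rw [← mul_assoc, ha, one_mul]⟩
  rw [mul_assoc a b a, e]

theorem Hyp.card_commuting_involutions (h : Hyp G) {t : G} (ht : orderOf t = 2) :
    Nat.card {j : G // orderOf j = 2 ∧ Commute j t} = 51 := by
  classical
  have := Fintype.ofFinite (IrrCharacter G)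
  obtain ⟨f, T⟩ := h.exists_table
  have hf := Char.class_mult_formula t t t
  rw [T.sum_eq] at hf
  have hv := (T.at_two h ht).1
  have hd : ∀ i, (f i : G → ℂ) 1 = (degs i : ℂ) := fun i => by rw [apply_one, T.deg]
  simp only [hv, hd, map_intCast] at hf
  have hcl : Nat.card {x : G // IsConj t x} = 1155 := by
    have := card_isConj_class t
    rw [h.card_centralizer_two ht, h.card] at this
    omega
  rw [hcl, h.card] at hf
  simp [Fin.sum_univ_succ, vals2, degs] at hf
  norm_num at hf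
  have hf50 : Nat.card {p : G × G // IsConj t p.1 ∧ IsConj t p.2 ∧ p.1 * p.2 = t} = 50 := by
    simp only [isConj_iff]
    exact_mod_cast hf
  have hsq : ∀ {g : G}, orderOf g = 2 → g * g = 1 := fun hg => by rw [← pow_two, ← hg, pow_orderOf_eq_one]
  let e : {p : G × G // IsConj t p.1 ∧ IsConj t p.2 ∧ p.1 * p.2 = t} ≃
      ↥({j : G | orderOf j = 2 ∧ Commute j t} \ {t}) :=
    { toFun := fun p => ⟨p.1.1, ⟨(isConj_orderOf_eq p.2.1).symm.trans ht,
          (invol_pair (hsq ((isConj_orderOf_eq p.2.1).symm.trans ht))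
            (hsq ((isConj_orderOf_eq p.2.2.1).symm.trans ht)) (hsq ht) p.2.2.2).1⟩, fun e1 => by
          have hb := (isConj_orderOf_eq p.2.2.1).symm.trans ht
          have : p.1.2 = 1 := mul_eq_left.mp (p.2.2.2.trans (Set.mem_singleton_iff.mp e1).symm)
          rw [this, orderOf_one] at hb; omega⟩
      invFun := fun j => ⟨(j.1, j.1 * t), h.one_class ht j.2.1.1, h.one_class ht (orderOf_eq_prime
          (by rw [pow_two]; calc j.1 * t * (j.1 * t) = j.1 * (t * j.1) * t := by group
                _ = (j.1 * j.1) * (t * t) := by rw [← j.2.1.2.eq]; group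
                _ = 1 := by rw [hsq j.2.1.1, hsq ht, one_mul])
          (fun e1 => j.2.2 (Set.mem_singleton_iff.mpr (by
            have e2 : j.1 * t = 1 := e1
            rw [← mul_one j.1, ← hsq ht, ← mul_assoc, e2, one_mul])))),
        by show j.1 * (j.1 * t) = t; rw [← mul_assoc, hsq j.2.1.1, one_mul]⟩
      left_inv := fun p => Subtype.ext (Prod.ext rfl
        (invol_pair (hsq ((isConj_orderOf_eq p.2.1).symm.trans ht))
          (hsq ((isConj_orderOf_eq p.2.2.1).symm.trans ht)) (hsq ht) p.2.2.2).2)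
      right_inv := fun _ => rfl }
  have h2 := Nat.card_congr e
  rw [hf50, Nat.card_coe_set_eq, Set.ncard_sdiff_singleton_of_mem (show t ∈ {j : G | orderOf j = 2 ∧ Commute j t} from ⟨ht, Commute.refl t⟩)] at h2
  change Nat.card ↥{j : G | orderOf j = 2 ∧ Commute j t} = 51
  rw [Nat.card_coe_set_eq]
  omega

theorem Hexad.fixed_le (hE : Hexad E) (h : Hyp G) {F : Pt E} {e : G} (he : e ∈ F.1) (he1 : e ≠ 1) :
    Nat.card {K : Pt E // K ≠ F ∧ e ∈ fixPart F K} ≤ 12 := by
  classical
  have := Fintype.ofFinite (Pt E)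
  have ho : orderOf e = 2 := orderOf_eq_prime (by rw [pow_two, (F.hexad hE).elem e he]) he1
  set J := {j : G | orderOf j = 2 ∧ Commute j e} \ ((F.1 : Set G) \ {1}) with hJ
  have hJc : J.ncard = 36 := by
    have hsub : (F.1 : Set G) \ {1} ⊆ {j : G | orderOf j = 2 ∧ Commute j e} := fun j hj =>
      ⟨orderOf_eq_prime (by rw [pow_two, (F.hexad hE).elem j hj.1]) hj.2, (F.hexad hE).comm hj.1 he⟩
    rw [hJ, Set.ncard_sdiff hsub, Set.ncard_sdiff_singleton_of_mem (show (1 : G) ∈ (F.1 : Set G) from one_mem _),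
      ← Nat.card_coe_set_eq, ← Nat.card_coe_set_eq (F.1 : Set G)]
    change Nat.card {j : G // orderOf j = 2 ∧ Commute j e} - (Nat.card F.1 - 1) = 36
    rw [h.card_commuting_involutions ho, (F.hexad hE).card]
  let S := {K : Pt E // K ≠ F ∧ e ∈ fixPart F K}
  let f : (Σ K : S, ↥(((K.1.1 ⊓ centralizer ({e} : Set G) : Subgroup G) : Set G) \ {1})) → ↥J :=
    fun p => ⟨p.2.1, ⟨orderOf_eq_prime (by rw [pow_two, (p.1.1.hexad hE).elem _ p.2.2.1.1]) p.2.2.2,
      mem_centralizer_singleton_iff.mp p.2.2.1.2⟩, fun hj => p.1.2.1 (hE.eq_of_mem h p.2.2.2 p.2.2.1.1 hj.1)⟩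
  have hinj : Function.Injective f := by
    rintro ⟨K, j, hj⟩ ⟨K', j', hj'⟩ hjj
    obtain rfl : j = j' := congrArg Subtype.val hjj
    obtain rfl : K = K' := Subtype.ext (hE.eq_of_mem h hj.2 hj.1.1 hj'.1.1)
    rfl
  have hle := Nat.card_le_card_of_injective f hinj
  rw [Nat.card_coe_set_eq, hJc, Nat.card_sigma] at hle
  have h3 : ∀ K : S, 3 ≤ Nat.card ↥(((K.1.1 ⊓ centralizer ({e} : Set G) : Subgroup G) : Set G) \ {1}) := fun K => by
    rw [Nat.card_coe_set_eq, Set.ncard_sdiff_singleton_of_mem (show (1 : G) ∈ ((K.1.1 ⊓ centralizer ({e} : Set G) : Subgroup G) : Set G) from one_mem _),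
      ← Nat.card_coe_set_eq (((K.1.1 ⊓ centralizer ({e} : Set G) : Subgroup G) : Set G))]
    have := hE.four_le_centralizer (K := K.1) ((F.hexad hE).elem e he) K.2.2.2
    change 3 ≤ Nat.card ↥(K.1.1 ⊓ centralizer ({e} : Set G)) - 1
    omega
  have hsum := (Finset.card_nsmul_le_sum (Finset.univ : Finset S) _ 3 fun K _ => h3 K).trans hle
  rw [Finset.card_univ, smul_eq_mul, ← Nat.card_eq_fintype_card] at hsum
  change Nat.card S ≤ 12
  omega

omit [IsSimpleGroup G] in
theorem card_dvd_of_free' {X : Type*} [MulAction G X] [Finite X] (P : Subgroup G) (S : Set X)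
    (hS : ∀ p ∈ P, ∀ m ∈ S, p • m ∈ S) (hfree : ∀ p ∈ P, ∀ m ∈ S, p • m = m → p = 1) :
    Nat.card P ∣ S.ncard := by
  induction hn : S.ncard using Nat.strong_induction_on generalizing S with
  | _ n ih =>
    rcases S.eq_empty_or_nonempty with rfl | ⟨w, hw⟩
    · simp at hn; simp [← hn]
    set O := Set.range fun p : P => (p : G) • w
    have hO : O ⊆ S := by rintro _ ⟨p, rfl⟩; exact hS p p.2 w hw
    have hcard : O.ncard = Nat.card P := Set.ncard_range_of_injective fun a b e => by
      have := hfree ((b : G)⁻¹ * a) (mul_mem (inv_mem b.2) a.2) w hw (by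
        have e' : (a : G) • w = (b : G) • w := e
        rw [mul_smul, e', inv_smul_smul])
      exact Subtype.ext (inv_mul_eq_one.mp this).symm
    have hd := Set.ncard_sdiff hO
    have hle := Set.ncard_le_ncard hO
    have hlt : (S \ O).ncard < n := by
      have : 0 < Nat.card P := Nat.card_pos
      omega
    have hdvd := ih _ hlt (S \ O) (fun p hp m hm => ⟨hS p hp m hm.1, fun ⟨q, hq⟩ => hm.2
        ⟨⟨p⁻¹ * q, mul_mem (inv_mem hp) q.2⟩, by
          show (p⁻¹ * (q : G)) • w = m
          have hq' : (q : G) • w = p • m := hq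
          rw [mul_smul, hq', inv_smul_smul]⟩⟩)
      (fun p hp m hm => hfree p hp m hm.1) rfl
    rw [show n = (S \ O).ncard + Nat.card P by omega]
    exact dvd_add hdvd dvd_rfl

omit [IsSimpleGroup G] in
/-- Pairs of a point and an element fixing it, for an elementary abelian 2-group. -/
theorem card_fix_pairs_dvd {X : Type*} [MulAction G X] [Finite X] (P : Subgroup G) (S : Set X)
    (hS : ∀ p ∈ P, ∀ m ∈ S, p • m ∈ S) :
    Nat.card P ∣ Nat.card (Σ m : S, ↥(P ⊓ MulAction.stabilizer G (m : X))) := by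
  classical
  have := Fintype.ofFinite P
  letI : MulAction P S :=
    { smul := fun p m => ⟨(p : G) • (m : X), hS p p.2 m m.2⟩
      one_smul := fun m => Subtype.ext (one_smul G (m : X))
      mul_smul := fun p q m => Subtype.ext (mul_smul (p : G) (q : G) (m : X)) }
  have := Fintype.ofFinite S
  have hsm : ∀ (p : P) (m : S), ((p • m : S) : X) = (p : G) • (m : X) := fun _ _ => rfl
  let e : (Σ m : S, ↥(P ⊓ MulAction.stabilizer G (m : X))) ≃ Σ p : P, MulAction.fixedBy S p :=
    { toFun := fun q => ⟨⟨q.2.1, q.2.2.1⟩, q.1, Subtype.ext (MulAction.mem_stabilizer_iff.mp q.2.2.2)⟩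
      invFun := fun q => ⟨q.2.1, q.1.1, q.1.2,
        MulAction.mem_stabilizer_iff.mpr (congrArg Subtype.val q.2.2)⟩
      left_inv := fun _ => rfl
      right_inv := fun _ => rfl }
  have : Finite (MulAction.orbitRel.Quotient P S) := Quotient.finite _
  have := Fintype.ofFinite (MulAction.orbitRel.Quotient P S)
  have := MulAction.sum_card_fixedBy_eq_card_orbits_mul_card_group P S
  rw [Nat.card_congr e, Nat.card_sigma]
  simp only [Nat.card_eq_fintype_card]
  rw [this]
  exact dvd_mul_left _ _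

end Cfsg.Agent.OrderM22
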