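/-
The strongly regular graph on the 77 conjugates of the hexad subgroup.

Main results (namespace `Cfsg.Agent.OrderM22`):
* `Hexad.card_regular` : 16 points are moved regularly, the other 60 form one orbit
* `Hexad.isSRG` : the graph of regular pairs has parameters (77, 16, 0, 4)
-/
import Cfsg.Agent.Lib.OrderM22.Points

set_option autoImplicit false

open scoped Pointwise

namespace Cfsg.Agent.OrderM22

open Subgroup Cfsg.Agent.SmallOrders

variable {G : Type*} [Group G] {E : Subgroup G}

/-- Two points are adjacent when one moves the other regularly. -/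
def RegPair (F K : Pt E) : Prop := fixPart F K = ⊥

theorem fixPart_smul [Finite G] (g : G) (F K : Pt E) :
    fixPart (g • F) (g • K) = (fixPart F K).map (MulAut.conj g).toMonoidHom := by
  ext e
  constructor
  · intro he
    refine ⟨g⁻¹ * e * g, ⟨Pt.mem_smul.mp he.1, ?_⟩, by simp [mul_assoc]⟩
    have h2 := Pt.smul_eq_iff.mpr he.2
    refine Pt.smul_eq_iff.mp ?_
    rw [mul_smul, mul_smul, h2, inv_smul_smul]
  · rintro ⟨a, ha, rfl⟩
    refine ⟨⟨a, ha.1, rfl⟩, Pt.smul_eq_iff.mp ?_⟩
    show (g * a * g⁻¹) • g • K = g • K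
    rw [← mul_smul, inv_mul_cancel_right, mul_smul, Pt.smul_eq_iff.mpr ha.2]

theorem regPair_smul [Finite G] (g : G) (F K : Pt E) : RegPair (g • F) (g • K) ↔ RegPair F K := by
  unfold RegPair
  rw [fixPart_smul, Subgroup.map_eq_bot_iff_of_injective _ (MulAut.conj g).injective]

theorem ncard_range_smul [Finite G] {X : Type*} [MulAction G X] (P : Subgroup G) (K : X) :
    (Set.range fun p : P => (p : G) • K).ncard * Nat.card ↥(P ⊓ MulAction.stabilizer G K) = Nat.card P := by
  letI : MulAction P X := MulAction.compHom X P.subtype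
  have h1 := MulAction.index_stabilizer (G := P) (x := K)
  have h3 : MulAction.stabilizer P K = (P ⊓ MulAction.stabilizer G K).subgroupOf P := by
    ext p
    rw [MulAction.mem_stabilizer_iff, mem_subgroupOf, mem_inf, MulAction.mem_stabilizer_iff]
    exact ⟨fun e => ⟨p.2, e⟩, fun e => e.2⟩
  rw [h3] at h1
  change _ = (Set.range fun p : P => (p : G) • K).ncard at h1
  rw [← h1, mul_comm, ← Nat.card_congr (subgroupOfEquivOfLe (inf_le_left : P ⊓ MulAction.stabilizer G K ≤ P)).toEquiv]
  exact card_mul_index _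

variable [Finite G] [IsSimpleGroup G]

theorem RegPair.symm (hE : Hexad E) (h : Hyp G) {F K : Pt E} (hr : RegPair F K) : RegPair K F :=
  (hE.fixPart_symm h).mp hr

omit [IsSimpleGroup G] in
theorem fixPart_self (F : Pt E) : fixPart F F = F.1 := inf_eq_left.mpr le_normalizer

theorem RegPair.irrefl (hE : Hexad E) (F : Pt E) : ¬ RegPair F F := by
  intro hr
  have hF := (F.hexad hE).card
  rw [show F.1 = ⊥ from (fixPart_self F).symm.trans hr, Subgroup.card_bot] at hF
  omega

omit [IsSimpleGroup G] in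
theorem smul_ne_of_normalizer {F K : Pt E} {g : G} (hg : g ∈ normalizer (F.1 : Set G)) (hK : K ≠ F) :
    g • K ≠ F := fun e => hK (by
  have := congrArg (g⁻¹ • ·) (e.trans (Pt.smul_eq_iff.mpr hg).symm)
  simpa using this)

theorem Hexad.fixed_const (hE : Hexad E) {F : Pt E} {e e' : G} (he : e ∈ F.1)
    (he' : e' ∈ F.1) (h1 : e ≠ 1) (h1' : e' ≠ 1) :
    Nat.card {K : Pt E // K ≠ F ∧ e ∈ fixPart F K} = Nat.card {K : Pt E // K ≠ F ∧ e' ∈ fixPart F K} := by
  obtain ⟨g, hg, rfl⟩ := (F.hexad hE).trans e he e' he' h1 h1'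
  have hgF : g • F = F := Pt.smul_eq_iff.mpr hg
  refine Nat.card_congr ((MulAction.toPerm g).subtypeEquiv fun K => ?_)
  show K ≠ F ∧ e ∈ fixPart F K ↔ g • K ≠ F ∧ g * e * g⁻¹ ∈ fixPart F (g • K)
  have hfp := fixPart_smul g F K
  rw [hgF] at hfp
  rw [hfp]
  refine and_congr ⟨smul_ne_of_normalizer hg, fun hne e' => hne (by rw [e', hgF])⟩ ?_
  exact ⟨fun hm => ⟨e, hm, rfl⟩, fun ⟨a, ha, hae⟩ => by rwa [← (MulAut.conj g).injective hae]⟩

/-- An element of order 5 fixing one point of `S` fixes only regular partners. -/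
theorem Hexad.exists_five (hE : Hexad E) (h : Hyp G) (F : Pt E) :
    ∃ z ∈ normalizer (F.1 : Set G), orderOf z = 5 ∧ ∀ K : Pt E, K ≠ F → z • K = K → RegPair F K := by
  have : Fact (Nat.Prime 5) := ⟨by norm_num⟩
  have : Fact (Nat.Prime 2) := ⟨Nat.prime_two⟩
  have hF := F.hexad hE
  obtain ⟨⟨z, hzH⟩, hz⟩ := exists_prime_orderOf_dvd_card' (G := normalizer (F.1 : Set G)) 5
    (by rw [hF.card_normalizer]; norm_num)
  rw [Subgroup.orderOf_mk] at hz
  refine ⟨z, hzH, hz, fun K hKF hfix => ?_⟩
  have hzK := Pt.smul_eq_iff.mp hfix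
  set A := fixPart F K with hA
  have hd : Nat.card A ∣ 2 ^ 4 := by
    rw [show (2 : ℕ) ^ 4 = Nat.card F.1 by rw [hF.card]; norm_num]
    exact Subgroup.card_dvd_of_le inf_le_left
  have h5 := h.fixed_five hz (M := A)
    (Nat.Coprime.coprime_dvd_left hd (by norm_num))
    (fun m hm => ⟨(mem_normalizer_iff.mp hzH m).mp hm.1,
      mul_mem (mul_mem hzK hm.2) (Subgroup.inv_mem _ hzK)⟩)
  obtain ⟨j, hj, hj'⟩ := (Nat.dvd_prime_pow Nat.prime_two).mp hd
  rw [hj'] at h5
  interval_cases j
  · exact Subgroup.card_eq_one.mp (by simpa using hj')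
  · norm_num at h5
  · norm_num at h5
  · norm_num at h5
  · exfalso
    have hK := K.hexad hE
    have hFK : F.1 ≤ normalizer (K.1 : Set G) :=
      (eq_of_le_of_card_ge (inf_le_left : A ≤ F.1) (le_of_eq (hF.card.trans (hj'.trans (by norm_num)).symm))).ge.trans inf_le_right
    have hsup := (IsPGroup.of_card (n := 4) (show Nat.card K.1 = 2 ^ 4 by rw [hK.card]; norm_num)).to_sup_of_normal_left'
      (IsPGroup.of_card (n := 4) (show Nat.card F.1 = 2 ^ 4 by rw [hF.card]; norm_num)) hFK
    obtain ⟨m, hm⟩ := IsPGroup.iff_card.mp hsup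
    have hinj := Nat.card_le_card_of_injective
      (fun p : F.1 × K.1 => (⟨(p.1 : G) * p.2, mul_mem (Subgroup.mem_sup_right p.1.2)
        (Subgroup.mem_sup_left p.2.2)⟩ : ↥(K.1 ⊔ F.1)))
      (fun p q e => by
        have e' : (p.1 : G) * p.2 = q.1 * q.2 := congrArg Subtype.val e
        have e2 : (q.1 : G)⁻¹ * p.1 = q.2 * (p.2 : G)⁻¹ := by
          calc (q.1 : G)⁻¹ * p.1 = (q.1 : G)⁻¹ * ((p.1 : G) * p.2) * (p.2 : G)⁻¹ := by group
            _ = q.2 * (p.2 : G)⁻¹ := by rw [e']; group
        have h1 : (q.1 : G)⁻¹ * p.1 = 1 := by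
          by_contra h1
          exact hKF (hE.eq_of_mem h h1 (e2 ▸ mul_mem q.2.2 (inv_mem p.2.2)) (mul_mem (inv_mem q.1.2) p.1.2))
        rw [h1] at e2
        exact Prod.ext (Subtype.ext (inv_mul_eq_one.mp h1).symm)
          (Subtype.ext (mul_inv_eq_one.mp e2.symm).symm))
    rw [Nat.card_prod, hF.card, hK.card, hm] at hinj
    have hdG := h.card ▸ hm ▸ card_subgroup_dvd_card (K.1 ⊔ F.1)
    have h8 : 8 ≤ m := by
      by_contra h8
      have := hinj.trans (Nat.pow_le_pow_right (by norm_num) (show m ≤ 7 by omega))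
      norm_num at this
    have := (pow_dvd_pow 2 h8).trans hdG
    norm_num at this

omit [IsSimpleGroup G] in
theorem zpowers_fix {X : Type*} [MulAction G X] {z q : G} (hz : (orderOf z).Prime) (hq : q ∈ zpowers z)
    (hq1 : q ≠ 1) {K : X} (hfix : q • K = K) : z • K = K := by
  have hqd := Subgroup.orderOf_dvd_natCard _ hq
  rw [Nat.card_zpowers] at hqd
  have hzq : zpowers q = zpowers z := eq_of_le_of_card_ge (zpowers_le.mpr hq) (by
    rw [Nat.card_zpowers, Nat.card_zpowers]
    rcases hz.eq_one_or_self_of_dvd _ hqd with e | e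
    · exact absurd (orderOf_eq_one_iff.mp e) hq1
    · exact e.ge)
  have : zpowers z ≤ MulAction.stabilizer G K := hzq ▸ zpowers_le.mpr (MulAction.mem_stabilizer_iff.mpr hfix)
  exact MulAction.mem_stabilizer_iff.mp (this (mem_zpowers z))

/-- Sixteen regular partners; the others are fixed by exactly four elements. -/
theorem Hexad.card_regular (hE : Hexad E) (h : Hyp G) (F : Pt E) :
    {K : Pt E | RegPair F K}.ncard = 16 ∧
      ∀ K : Pt E, K ≠ F → ¬ RegPair F K → Nat.card (fixPart F K) = 4 := by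
  classical
  have := Fintype.ofFinite (Pt E)
  have := Fintype.ofFinite G
  have hF := F.hexad hE
  have hFN : F.1 ≤ normalizer (F.1 : Set G) := le_normalizer
  set S : Set (Pt E) := {K | K ≠ F} with hSdef
  have hScard : S.ncard = 76 := by
    rw [show S = {F}ᶜ from rfl, Set.ncard_compl, Set.ncard_singleton, hE.card_pt h]
  -- sum over the other points
  obtain ⟨f, hf⟩ : ∃ f, ∀ e ∈ F.1, e ≠ 1 → Nat.card {K : Pt E // K ≠ F ∧ e ∈ fixPart F K} = f := by
    obtain ⟨e, he⟩ : ((F.1 : Set G) \ {1}).Nonempty := Set.nonempty_of_ncard_ne_zero (by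
      rw [Set.ncard_sdiff_singleton_of_mem (show (1 : G) ∈ (F.1 : Set G) from one_mem _), ← Nat.card_coe_set_eq]
      change Nat.card F.1 - 1 ≠ 0
      rw [hF.card]; norm_num)
    exact ⟨_, fun e' he' h1' => hE.fixed_const he' he.1 h1' he.2⟩
  have hswap : ∑ K ∈ Finset.univ.filter (fun K : Pt E => K ≠ F), Nat.card (fixPart F K) = 76 + 15 * f := by
    calc ∑ K ∈ Finset.univ.filter (fun K : Pt E => K ≠ F), Nat.card (fixPart F K)
        = Nat.card (Σ K : {K : Pt E // K ≠ F}, ↥(fixPart F K.1)) := by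
          rw [Nat.card_sigma]
          exact Finset.sum_subtype _ (fun K => by simp) (fun K => Nat.card (fixPart F K))
      _ = Nat.card (Σ e : F.1, {K : Pt E // K ≠ F ∧ (e : G) ∈ fixPart F K}) :=
          Nat.card_congr
            { toFun := fun p => ⟨⟨p.2.1, p.2.2.1⟩, ⟨p.1.1, p.1.2, p.2.2⟩⟩
              invFun := fun p => ⟨⟨p.2.1, p.2.2.1⟩, ⟨p.1.1, p.2.2.2⟩⟩
              left_inv := fun _ => rfl
              right_inv := fun _ => rfl }
      _ = 76 + 15 * f := by
          rw [Nat.card_sigma, ← Finset.add_sum_erase _ _ (Finset.mem_univ (1 : F.1)),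
            Finset.sum_congr rfl (fun e he => hf e.1 e.2 (fun e1 => (Finset.mem_erase.mp he).1 (Subtype.ext e1))),
            Finset.sum_const, Finset.card_erase_of_mem (Finset.mem_univ _), Finset.card_univ,
            ← Nat.card_eq_fintype_card (α := F.1), hF.card, smul_eq_mul]
          congr 1
          rw [← hScard, ← Nat.card_coe_set_eq]
          exact Nat.card_congr (Equiv.subtypeEquivRight fun K => ⟨fun hK => hK.1, fun hK => ⟨hK, one_mem _⟩⟩)
  have h16 : 16 ∣ 76 + 15 * f := by
    have hd := card_fix_pairs_dvd F.1 S (fun p hp m hm => smul_ne_of_normalizer (hFN hp) hm)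
    rw [hF.card, Nat.card_sigma] at hd
    rw [← hswap, Finset.sum_subtype _ (p := fun K => K ≠ F) (fun K => by simp) (fun K => Nat.card (fixPart F K))]
    convert hd using 1
    exact Finset.sum_congr (by rfl) fun K _ => by
      show Nat.card ↥(fixPart F K.1) = _
      rw [show fixPart F K.1 = F.1 ⊓ MulAction.stabilizer G K.1 by rw [Pt.stabilizer_eq]; rfl]
  have hf12 : f ≤ 12 := by
    obtain ⟨e, he⟩ : ((F.1 : Set G) \ {1}).Nonempty := Set.nonempty_of_ncard_ne_zero (by
      rw [Set.ncard_sdiff_singleton_of_mem (show (1 : G) ∈ (F.1 : Set G) from one_mem _), ← Nat.card_coe_set_eq]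
      change Nat.card F.1 - 1 ≠ 0
      rw [hF.card]; norm_num)
    exact hf e he.1 he.2 ▸ hE.fixed_le h he.1 he.2
  have hf' : f = 12 := by omega
  -- the element of order 5
  obtain ⟨z, hzH, hz, hzreg⟩ := hE.exists_five h F
  have hzp : (orderOf z).Prime := by rw [hz]; norm_num
  have hzN : zpowers z ≤ normalizer (F.1 : Set G) := zpowers_le.mpr hzH
  set R := {K : Pt E | RegPair F K} with hRdef
  have hRS : R ⊆ S := by
    intro K hK e
    exact RegPair.irrefl hE F ((congrArg (RegPair F) e).mp hK)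
  have hRinv : ∀ g ∈ normalizer (F.1 : Set G), ∀ K ∈ R, g • K ∈ R := fun g hg K hK => by
    have := (regPair_smul g F K).mpr hK
    rwa [Pt.smul_eq_iff.mpr hg] at this
  have hne : R.Nonempty := by
    by_contra hne
    have h5 := card_dvd_of_free' (zpowers z) S (fun p hp m hm => smul_ne_of_normalizer (hzN hp) hm)
      (fun p hp m hm hpm => by
        by_contra hp1
        exact hne ⟨m, hzreg m hm (zpowers_fix hzp hp hp1 hpm)⟩)
    rw [Nat.card_zpowers, hz, hScard] at h5
    norm_num at h5
  have hR16 : 16 ∣ R.ncard := by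
    have := card_dvd_of_free' F.1 R (fun p hp => hRinv p (hFN hp)) (fun p hp m hm hpm => by
      have hm' : fixPart F m = ⊥ := hm
      have : p ∈ fixPart F m := ⟨hp, Pt.smul_eq_iff.mp hpm⟩
      rwa [hm', mem_bot] at this)
    rwa [hF.card] at this
  have hT5 : 5 ∣ 76 - R.ncard := by
    have := card_dvd_of_free' (zpowers z) (S \ R)
      (fun p hp m hm => ⟨smul_ne_of_normalizer (hzN hp) hm.1, fun hr => hm.2 (by
        have := hRinv p⁻¹ (Subgroup.inv_mem _ (hzN hp)) _ hr
        rwa [inv_smul_smul] at this)⟩)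
      (fun p hp m hm hpm => by
        by_contra hp1
        exact hm.2 (hzreg m hm.1 (zpowers_fix hzp hp hp1 hpm)))
    rwa [Nat.card_zpowers, hz, Set.ncard_sdiff hRS, hScard] at this
  set T := (Finset.univ.filter (fun K : Pt E => K ≠ F)).filter (fun K => ¬ RegPair F K) with hT
  have hsplit := Finset.sum_filter_add_sum_filter_not (Finset.univ.filter (fun K : Pt E => K ≠ F))
    (fun K => RegPair F K) (fun K => Nat.card (fixPart F K))
  rw [hswap, hf'] at hsplit
  have h1 : ∑ K ∈ (Finset.univ.filter (fun K : Pt E => K ≠ F)).filter (fun K => RegPair F K),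
      Nat.card (fixPart F K) = R.ncard := by
    rw [Finset.sum_congr rfl (fun K hK => show Nat.card (fixPart F K) = 1 by
      rw [show fixPart F K = ⊥ from (Finset.mem_filter.mp hK).2, Subgroup.card_bot]),
      Finset.sum_const, smul_eq_mul, mul_one, ← Set.ncard_coe_finset]
    congr 1
    ext K
    simp only [Finset.coe_filter, Finset.mem_filter, Finset.mem_univ, true_and, Set.mem_ofPred_eq]
    exact ⟨fun hK => hK.2, fun hK => ⟨hRS hK, hK⟩⟩
  have hTc : T.card = 76 - R.ncard := by
    rw [← hScard, ← Set.ncard_sdiff hRS, ← Set.ncard_coe_finset]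
    congr 1
    ext K
    simp [hT, hSdef, hRdef]
  have h4 : ∀ K ∈ T, 4 ≤ Nat.card (fixPart F K) := fun K hK =>
    hE.four_le_fixPart h (Finset.mem_filter.mp hK).2
  have hle := Finset.card_nsmul_le_sum T _ 4 h4
  rw [smul_eq_mul, hTc] at hle
  have hsum : R.ncard + ∑ K ∈ T, Nat.card (fixPart F K) = 256 := by
    rw [← h1, hT]
    convert hsplit using 3
  have hR1 : 1 ≤ R.ncard := (Set.ncard_pos).mpr hne
  have hRle : R.ncard ≤ 76 := hScard ▸ Set.ncard_le_ncard hRS
  have hR : R.ncard = 16 := by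
    rw [h1] at hsplit
    omega
  refine ⟨hR, fun K hKF hKR => le_antisymm ?_ (hE.four_le_fixPart h hKR)⟩
  by_contra hlt
  push Not at hlt
  have hK : K ∈ T := Finset.mem_filter.mpr ⟨Finset.mem_filter.mpr ⟨Finset.mem_univ K, hKF⟩, hKR⟩
  have := Finset.sum_lt_sum (f := fun _ => 4) h4 ⟨K, hK, hlt⟩
  rw [Finset.sum_const, smul_eq_mul, hTc, hR] at this
  rw [hR] at hsum
  omega

/-- The non-regular points form one orbit of the stabiliser. -/
theorem Hexad.transitive_far (hE : Hexad E) (h : Hyp G) (F : Pt E) {K K' : Pt E} (hK : K ≠ F)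
    (hKR : ¬ RegPair F K) (hK' : K' ≠ F) (hKR' : ¬ RegPair F K') : ∃ g : G, g • F = F ∧ g • K = K' := by
  classical
  have hF := F.hexad hE
  set H := normalizer (F.1 : Set G) with hH
  obtain ⟨hR, hA⟩ := hE.card_regular h F
  set T : Set (Pt E) := {M | M ≠ F ∧ ¬ RegPair F M} with hTdef
  have hTc : T.ncard = 60 := by
    have hsub : {M | RegPair F M} ⊆ ({F}ᶜ : Set (Pt E)) := fun M hM e =>
      RegPair.irrefl hE F (Set.mem_singleton_iff.mp e ▸ hM)
    rw [show T = ({F}ᶜ : Set (Pt E)) \ {M | RegPair F M} from rfl, Set.ncard_sdiff hsub,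
      Set.ncard_compl, Set.ncard_singleton, hE.card_pt h, hR]
  obtain ⟨z, hzH, hz, hzreg⟩ := hE.exists_five h F
  have hTinv : ∀ g ∈ H, ∀ M ∈ T, g • M ∈ T := fun g hg M hM =>
    ⟨smul_ne_of_normalizer hg hM.1, fun hr => hM.2 (by
      have := (regPair_smul g F M)
      rw [Pt.smul_eq_iff.mpr hg] at this
      exact this.mp hr)⟩
  have key : ∀ M ∈ T, (Set.range fun g : H => (g : G) • M).ncard = 40 ∨
      (Set.range fun g : H => (g : G) • M).ncard = 60 := by
    intro M hM
    set O := Set.range fun g : H => (g : G) • M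
    set O' := Set.range fun a : F.1 => (a : G) • M with hO'
    have hOT : O ⊆ T := by rintro _ ⟨g, rfl⟩; exact hTinv g g.2 M hM
    have hO := ncard_range_smul H M
    have hO'c : O'.ncard = 4 := by
      have e := ncard_range_smul F.1 M
      rw [Pt.stabilizer_eq, hF.card] at e
      change O'.ncard * Nat.card (fixPart F M) = 16 at e
      rw [hA M hM.1 hM.2] at e
      omega
    set N := H ⊓ MulAction.stabilizer G O'
    have hN1 : N ⊓ MulAction.stabilizer G M = H ⊓ MulAction.stabilizer G M := by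
      refine le_antisymm (inf_le_inf_right _ inf_le_left) (le_inf (le_inf inf_le_left ?_) inf_le_right)
      intro g hg
      rw [MulAction.mem_stabilizer_set_iff_subset_smul_set (Set.toFinite _)]
      rintro _ ⟨a, rfl⟩
      refine ⟨(g⁻¹ * a * g) • M, ⟨⟨g⁻¹ * a * g, ?_⟩, rfl⟩, ?_⟩
      · have := (mem_normalizer_iff.mp (Subgroup.inv_mem _ hg.1) a.1).mp a.2
        rwa [inv_inv] at this
      · show g • (g⁻¹ * a * g) • M = (a : G) • M
        rw [← mul_smul, show g * (g⁻¹ * a * g) = a * g by group, mul_smul, MulAction.mem_stabilizer_iff.mp hg.2]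
    have hN2 : (Set.range fun g : N => (g : G) • M) = O' := by
      refine Set.Subset.antisymm ?_ ?_
      · rintro _ ⟨g, rfl⟩
        have hg : (g : G) • O' = O' := MulAction.mem_stabilizer_iff.mp g.2.2
        rw [← hg]
        exact Set.smul_mem_smul_set ⟨1, one_smul G M⟩
      · rintro _ ⟨a, rfl⟩
        refine ⟨⟨a, le_normalizer a.2, ?_⟩, rfl⟩
        refine MulAction.mem_stabilizer_iff.mpr (Set.eq_of_subset_of_ncard_le ?_
          (le_of_eq (Set.ncard_image_of_injective _ (MulAction.injective (a : G))).symm))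
        rintro _ ⟨_, ⟨b, rfl⟩, rfl⟩
        exact ⟨⟨a * b, mul_mem a.2 b.2⟩, mul_smul (a : G) (b : G) M⟩
    have hN := ncard_range_smul N M
    rw [hN1, hN2, hO'c] at hN
    set s := Nat.card ↥(H ⊓ MulAction.stabilizer G M)
    have h5 : 5 ∣ O.ncard := by
      have := card_dvd_of_free' (zpowers z) O
        (fun p hp m ⟨g, hg⟩ => ⟨⟨p * g, mul_mem (zpowers_le.mpr hzH hp) g.2⟩, by
          show (p * (g : G)) • M = p • m
          rw [mul_smul]; exact congrArg (p • ·) hg⟩)
        (fun p hp m hm hpm => by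
          by_contra hp1
          exact (hOT hm).2 (hzreg m (hOT hm).1 (zpowers_fix (by rw [hz]; norm_num) hp hp1 hpm)))
      rwa [Nat.card_zpowers, hz] at this
    have h4 : 4 ∣ O.ncard := by
      have hd : Nat.card N ∣ Nat.card H := Subgroup.card_dvd_of_le inf_le_left
      rw [← hN, ← hO] at hd
      exact Nat.dvd_of_mul_dvd_mul_right Nat.card_pos hd
    have h20 : O.ncard ≠ 20 := fun e => by
      refine h.no_index_five (H := H) (M := N) (by rw [hF.card_normalizer]; norm_num) inf_le_left ?_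
      rw [← hN, ← hO, e]
      ring
    have hle := Set.ncard_le_ncard hOT
    rw [hTc] at hle
    have hpos : 0 < O.ncard := (Set.ncard_pos).mpr ⟨M, 1, one_smul G M⟩
    change O.ncard = 40 ∨ O.ncard = 60
    omega
  by_contra hno
  push Not at hno
  set O := Set.range fun g : H => (g : G) • K
  set O2 := Set.range fun g : H => (g : G) • K'
  have hsub : O ∪ O2 ⊆ T := by
    rintro _ (⟨g, rfl⟩ | ⟨g, rfl⟩)
    exacts [hTinv g g.2 K ⟨hK, hKR⟩, hTinv g g.2 K' ⟨hK', hKR'⟩]
  have hd : Disjoint O O2 := by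
    rw [Set.disjoint_left]
    rintro _ ⟨a, rfl⟩ ⟨b, hb⟩
    have hmem : ((b : G)⁻¹ * a) ∈ H := mul_mem (Subgroup.inv_mem _ b.2) a.2
    refine hno _ (Pt.smul_eq_iff.mpr hmem) ?_
    have hb' : (b : G) • K' = (a : G) • K := hb
    rw [mul_smul, ← hb', inv_smul_smul]
  have hc := Set.ncard_le_ncard hsub
  rw [Set.ncard_union_eq hd, hTc] at hc
  have e1 : O.ncard = 40 ∨ O.ncard = 60 := key K ⟨hK, hKR⟩
  have e2 : O2.ncard = 40 ∨ O2.ncard = 60 := key K' ⟨hK', hKR'⟩
  omega

theorem Hexad.transitive_near (hE : Hexad E) (h : Hyp G) (F : Pt E) {K K' : Pt E} (hK : RegPair F K)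
    (hK' : RegPair F K') : ∃ g : G, g • F = F ∧ g • K = K' := by
  have hF := F.hexad hE
  have e := ncard_range_smul F.1 K
  rw [Pt.stabilizer_eq, hF.card] at e
  change _ * Nat.card (fixPart F K) = 16 at e
  rw [show fixPart F K = ⊥ from hK, Subgroup.card_bot, mul_one] at e
  have heq : (Set.range fun a : F.1 => (a : G) • K) = {M | RegPair F M} := by
    refine Set.eq_of_subset_of_ncard_le ?_ (by rw [e, (hE.card_regular h F).1])
    rintro _ ⟨a, rfl⟩
    have hfix : (a : G) • F = F := Pt.smul_eq_iff.mpr (le_normalizer a.2)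
    have := (regPair_smul (a : G) F K).mpr hK
    rwa [hfix] at this
  obtain ⟨a, ha⟩ : K' ∈ Set.range fun a : F.1 => (a : G) • K := heq ▸ hK'
  exact ⟨a, Pt.smul_eq_iff.mpr (le_normalizer a.2), ha⟩

/-- The graph of regular pairs. -/
def graph (hE : Hexad E) (h : Hyp G) : SimpleGraph (Pt E) where
  Adj := RegPair
  symm := ⟨fun _ _ hr => hr.symm hE h⟩
  loopless := ⟨RegPair.irrefl hE⟩

theorem Hexad.isSRG (hE : Hexad E) (h : Hyp G) [Fintype (Pt E)] [DecidableRel (graph hE h).Adj] :
    (graph hE h).IsSRGWith 77 16 0 4 := by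
  classical
  have hadj : ∀ F K, (graph hE h).Adj F K ↔ RegPair F K := fun _ _ => Iff.rfl
  have hcard : Fintype.card (Pt E) = 77 := by rw [← Nat.card_eq_fintype_card, hE.card_pt h]
  let N : Pt E → Finset (Pt E) := fun F => Finset.univ.filter (RegPair F)
  have hN : ∀ F, (N F).card = 16 := fun F => by
    rw [← (hE.card_regular h F).1, ← Set.ncard_coe_finset]
    congr 1; ext K; simp [N]
  have mN : ∀ {F K}, K ∈ N F ↔ RegPair F K := fun {F K} => by simp [N]
  let C : Pt E → Pt E → ℕ := fun F K => (N F ∩ N K).card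
  have hNsmul : ∀ (g : G) F, N (g • F) = (N F).image (g • ·) := fun g F => by
    ext K
    simp only [Finset.mem_image, mN]
    constructor
    · intro hK
      refine ⟨g⁻¹ • K, ?_, smul_inv_smul g K⟩
      rwa [← regPair_smul g, smul_inv_smul]
    · rintro ⟨M, hM, rfl⟩
      exact (regPair_smul g F M).mpr hM
  have hC : ∀ (g : G) F K, C (g • F) (g • K) = C F K := fun g F K => by
    simp only [C, hNsmul, ← Finset.image_inter _ _ (MulAction.injective g)]
    exact Finset.card_image_of_injective _ (MulAction.injective g)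
  have hconst : ∀ {F K F' K' : Pt E}, RegPair F K → RegPair F' K' → C F K = C F' K' := by
    intro F K F' K' hr hr'
    obtain ⟨g, rfl⟩ := Pt.exists_smul F F'
    have hr2 : RegPair F (g⁻¹ • K') := by rwa [← regPair_smul g, smul_inv_smul]
    obtain ⟨a, ha1, ha2⟩ := hE.transitive_near h F hr hr2
    rw [← hC a F K, ha1, ha2, ← hC g F, smul_inv_smul]
  have hconst' : ∀ {F K F' K' : Pt E}, K ≠ F → ¬ RegPair F K → K' ≠ F' → ¬ RegPair F' K' →
      C F K = C F' K' := by
    intro F K F' K' hn hr hn' hr'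
    obtain ⟨g, rfl⟩ := Pt.exists_smul F F'
    have hr2 : ¬ RegPair F (g⁻¹ • K') := by rwa [← regPair_smul g, smul_inv_smul]
    have hn2 : g⁻¹ • K' ≠ F := fun e => hn' (by rw [← e, smul_inv_smul])
    obtain ⟨a, ha1, ha2⟩ := hE.transitive_far h F hn hr hn2 hr2
    rw [← hC a F K, ha1, ha2, ← hC g F, smul_inv_smul]
  -- representatives
  set F := Pt.base E
  obtain ⟨K, hK⟩ : (N F).Nonempty := Finset.card_pos.mp (by rw [hN]; norm_num)
  set l := C F K
  set far := Finset.univ.filter (fun M : Pt E => M ≠ F ∧ ¬ RegPair F M) with hfar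
  have hfarc : far.card = 60 := by
    have e : far = Finset.univ \ insert F (N F) := by ext M; simp [hfar, mN, N]
    rw [e, Finset.card_sdiff_of_subset (Finset.subset_univ _), Finset.card_insert_of_notMem
      (fun e => RegPair.irrefl hE F (mN.mp e)), hN, Finset.card_univ, hcard]
  obtain ⟨M, hM⟩ : far.Nonempty := Finset.card_pos.mp (by rw [hfarc]; norm_num)
  set m := C F M
  rw [hfar, Finset.mem_filter] at hM
  have hdc := Finset.sum_card_bipartiteAbove_eq_sum_card_bipartiteBelow (s := N F) (t := far)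
    (fun a b : Pt E => RegPair a b)
  have hl : ∀ a ∈ N F, (far.bipartiteAbove (fun a b : Pt E => RegPair a b) a).card + l + 1 = 16 := by
    intro a ha
    have hla : C F a = l := hconst (mN.mp ha) (mN.mp hK)
    have e : N a = insert F ((N F ∩ N a) ∪ far.bipartiteAbove (fun a b : Pt E => RegPair a b) a) := by
      ext b
      simp only [mN, Finset.mem_insert, Finset.mem_union, Finset.mem_inter, Finset.bipartiteAbove,
        hfar, Finset.mem_filter, Finset.mem_univ, true_and]
      constructor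
      · intro hb
        by_cases hbF : b = F
        · exact Or.inl hbF
        · by_cases hFb : RegPair F b
          · exact Or.inr (Or.inl ⟨hFb, hb⟩)
          · exact Or.inr (Or.inr ⟨⟨hbF, hFb⟩, hb⟩)
      · rintro (rfl | ⟨-, hb⟩ | ⟨-, hb⟩)
        exacts [(mN.mp ha).symm hE h, hb, hb]
    have hd : Disjoint (N F ∩ N a) (far.bipartiteAbove (fun a b : Pt E => RegPair a b) a) := by
      rw [Finset.disjoint_left]
      intro b hb hb'
      simp only [Finset.bipartiteAbove, hfar, Finset.mem_filter] at hb'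
      exact hb'.1.2.2 (mN.mp (Finset.mem_inter.mp hb).1)
    have hc := congrArg Finset.card e
    rw [hN, Finset.card_insert_of_notMem (fun hb => by
      simp only [Finset.mem_union, Finset.mem_inter, Finset.bipartiteAbove, hfar, Finset.mem_filter, mN] at hb
      rcases hb with ⟨hb, -⟩ | ⟨⟨-, hb, -⟩, -⟩
      · exact RegPair.irrefl hE F hb
      · exact hb rfl), Finset.card_union_of_disjoint hd] at hc
    rw [← hla]
    simp only [C] at hla ⊢
    omega
  have hm : ∀ b ∈ far, ((N F).bipartiteBelow (fun a b : Pt E => RegPair a b) b).card = m := by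
    intro b hb
    rw [hfar, Finset.mem_filter] at hb
    rw [show m = C F b from hconst' hM.2.1 hM.2.2 hb.2.1 hb.2.2]
    congr 1
    ext a
    simp only [Finset.bipartiteBelow, Finset.mem_filter, Finset.mem_inter, mN]
    exact ⟨fun e => ⟨e.1, e.2.symm hE h⟩, fun e => ⟨e.1, e.2.symm hE h⟩⟩
  rw [Finset.sum_congr rfl hm, Finset.sum_const, hfarc, smul_eq_mul] at hdc
  have hsum : ∑ a ∈ N F, ((far.bipartiteAbove (fun a b : Pt E => RegPair a b) a).card + l + 1) = 16 * 16 := by
    rw [Finset.sum_congr rfl hl, Finset.sum_const, hN, smul_eq_mul]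
  rw [Finset.sum_add_distrib, Finset.sum_add_distrib, Finset.sum_const, Finset.sum_const, hN, hdc] at hsum
  simp only [smul_eq_mul] at hsum
  have hl15 : l ≠ 15 := by
    intro h15
    let nb : Pt E → Finset (Pt E) := fun a => insert a (N a)
    have hnb : ∀ a b, b ∈ nb a → nb b = nb a := by
      intro a b hb
      rcases Finset.mem_insert.mp hb with rfl | hb'
      · rfl
      have hba : RegPair b a := (mN.mp hb').symm hE h
      have hla : C b a = 15 := by rw [hconst hba (mN.mp hK)]; exact h15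
      have key : ∀ {u v : Pt E}, RegPair u v → C u v = 15 → nb u ⊆ nb v := by
        intro u v huv hc x hx
        have hvu : v ∈ N u := mN.mpr huv
        have e : N u ∩ N v = (N u).erase v := by
          refine Finset.eq_of_subset_of_card_le (fun y hy => Finset.mem_erase.mpr
            ⟨fun e => RegPair.irrefl hE v (mN.mp (e ▸ (Finset.mem_inter.mp hy).2)), (Finset.mem_inter.mp hy).1⟩) ?_
          rw [Finset.card_erase_of_mem hvu, hN]
          exact le_of_eq hc.symm
        rcases Finset.mem_insert.mp hx with rfl | hx'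
        · exact Finset.mem_insert_of_mem (mN.mpr (huv.symm hE h))
        · by_cases hxv : x = v
          · rw [hxv]; exact Finset.mem_insert_self v _
          · have : x ∈ N u ∩ N v := e ▸ Finset.mem_erase.mpr ⟨hxv, hx'⟩
            exact Finset.mem_insert_of_mem (Finset.mem_inter.mp this).2
      refine Finset.Subset.antisymm (key hba hla) (key (hba.symm hE h) ?_)
      simp only [C] at hla ⊢
      rw [Finset.inter_comm]; exact hla
    have h17 := Finset.card_eq_sum_card_image nb (Finset.univ : Finset (Pt E))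
    rw [Finset.card_univ, hcard, Finset.sum_congr rfl (fun X hX => show (Finset.univ.filter fun a => nb a = X).card = 17 by
      obtain ⟨a, -, rfl⟩ := Finset.mem_image.mp hX
      have e : (Finset.univ.filter fun b => nb b = nb a) = nb a := by
        ext b
        simp only [Finset.mem_filter, Finset.mem_univ, true_and]
        exact ⟨fun e => e ▸ Finset.mem_insert_self b _, hnb a b⟩
      rw [e, Finset.card_insert_of_notMem (fun e => RegPair.irrefl hE a (mN.mp e)), hN])] at h17
    rw [Finset.sum_const, smul_eq_mul] at h17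
    omega
  have hlm : l = 0 ∧ m = 4 := by omega
  have hcn : ∀ a b, Fintype.card ((graph hE h).commonNeighbors a b) = C a b := fun a b => by
    rw [← Set.toFinset_card]
    congr 1
    ext x
    simp [SimpleGraph.mem_commonNeighbors, hadj, mN, N]
  have hreg : ∀ a, (graph hE h).degree a = 16 := fun a => by
    rw [← SimpleGraph.card_neighborFinset_eq_degree, ← hN a]
    congr 1
    ext x
    simp [hadj, N]
  exact ⟨hcard, hreg, fun a b hab => (hcn a b).trans ((hconst hab (mN.mp hK)).trans hlm.1),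
    fun a b hne hab => (hcn a b).trans ((hconst' hne.symm hab hM.2.1 hM.2.2).trans hlm.2)⟩

end Cfsg.Agent.OrderM22
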