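/-
The embedding into the automorphism group of the Steiner system S(3, 6, 22).

Main results (namespace `Cfsg.Agent.OrderM22`):
* `Hyp.exists_embedding` : the embedding
* `Hyp.iso` : two such groups are isomorphic
-/
import Cfsg.Agent.Lib.OrderM22.Graph
import Cfsg.Agent.Lib.Srg77.Coclique
import Cfsg.Agent.Lib.Golay.DesignTwoTwo
import Cfsg.Agent.Lib.Golay.DesignAut
import Cfsg.Agent.Lib.Golay.DesignTwoTwoAut

set_option autoImplicit false

namespace Cfsg.Agent.OrderM22

open Cfsg Cfsg.Agent.Srg77

/-- The blocks of a strongly regular graph with parameters (77, 16, 0, 4) form a Steiner system,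
and distinct vertices give distinct blocks. -/
theorem steiner_blk {V : Type*} [Fintype V] [DecidableEq V] {Γ : SimpleGraph V} [DecidableRel Γ.Adj]
    [DecidablePred (IsBig Γ)] (hG : Γ.IsSRGWith 77 16 0 4) :
    let blk : V → Finset {C : Finset V // IsBig Γ C} := fun x => Finset.univ.filter fun C => x ∈ C.1
    Cfsg.IsSteinerSystem 3 6 (Set.range blk) ∧ Function.Injective blk := by
  classical
  intro blk
  have hP : Fintype.card {C : Finset V // IsBig Γ C} = 22 := by
    rw [Fintype.card_subtype, card_big hG]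
  have hblk : ∀ x, (blk x).card = 6 := fun x => by
    rw [← card_big_one hG x, ← Finset.card_map ⟨Subtype.val, Subtype.val_injective⟩]
    congr 1
    ext C
    simp [blk, and_comm]
  have hint : ∀ x y, x ≠ y → (blk x ∩ blk y).card = if Γ.Adj x y then 0 else 2 := by
    intro x y hne
    split_ifs with h
    · rw [Finset.card_eq_zero, Finset.eq_empty_iff_forall_notMem]
      intro C hC
      simp only [blk, Finset.mem_inter, Finset.mem_filter, Finset.mem_univ, true_and] at hC
      exact C.2.2 x hC.1 y hC.2 h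
    · rw [← card_big_two hG (⟨y, hne.symm, h⟩ : Far Γ x),
        ← Finset.card_map ⟨Subtype.val, Subtype.val_injective⟩]
      congr 1
      ext C
      simp [blk]
      tauto
  have huniq : ∀ s : Finset {C : Finset V // IsBig Γ C}, s.card = 3 → ∀ x y, s ⊆ blk x →
      s ⊆ blk y → x = y := by
    intro s hs x y hx hy
    by_contra hne
    have := Finset.card_le_card (Finset.subset_inter hx hy)
    rw [hs, hint x y hne] at this
    split_ifs at this <;> omega
  refine ⟨⟨?_, fun s hs => ?_⟩, fun x y h => ?_⟩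
  · rintro b ⟨x, rfl⟩
    exact hblk x
  · have hu : (Finset.univ : Finset V).biUnion (fun x => (blk x).powersetCard 3) =
        (Finset.univ : Finset {C : Finset V // IsBig Γ C}).powersetCard 3 := by
      refine Finset.eq_of_subset_of_card_le (fun t ht => ?_) ?_
      · obtain ⟨x, -, ht⟩ := Finset.mem_biUnion.1 ht
        exact Finset.mem_powersetCard.2 ⟨Finset.subset_univ _, (Finset.mem_powersetCard.1 ht).2⟩
      · rw [Finset.card_powersetCard, Finset.card_univ, hP, Finset.card_biUnion]
        · rw [Finset.sum_congr rfl (fun x _ => by rw [Finset.card_powersetCard, hblk]), Finset.sum_const,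
            Finset.card_univ, hG.card]
          decide
        · intro x _ y _ hne
          rw [Function.onFun, Finset.disjoint_left]
          intro t ht ht'
          rw [Finset.mem_powersetCard] at ht ht'
          exact hne (huniq t ht.2 x y ht.1 ht'.1)
    have hs' : s ∈ (Finset.univ : Finset V).biUnion (fun x => (blk x).powersetCard 3) := by
      rw [hu]; exact Finset.mem_powersetCard.2 ⟨Finset.subset_univ _, hs⟩
    obtain ⟨x, -, hx⟩ := Finset.mem_biUnion.1 hs'
    refine ⟨blk x, ⟨⟨x, rfl⟩, (Finset.mem_powersetCard.1 hx).1⟩, ?_⟩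
    rintro _ ⟨⟨y, rfl⟩, hy⟩
    exact congrArg blk (huniq s hs y x hy (Finset.mem_powersetCard.1 hx).1)
  · obtain ⟨s, hs, hs'⟩ := Finset.exists_subset_card_eq (s := blk x) (n := 3) (by rw [hblk]; norm_num)
    exact huniq s hs' x y hs (h ▸ hs)

variable {G : Type*} [Group G] [Finite G] [IsSimpleGroup G]

theorem Hyp.exists_embedding (h : Hyp G) :
    ∃ B : Set (Finset (Fin 22)), Cfsg.IsSteinerSystem 3 6 B ∧
      ∃ φ : G →* Cfsg.setSystemAut B, Function.Injective φ := by
  classical
  obtain ⟨E, hE⟩ := h.exists_hexad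
  have := Fintype.ofFinite (Pt E)
  set Γ := graph hE h with hΓ
  have hG : (graph hE h).IsSRGWith 77 16 0 4 := hE.isSRG h
  obtain ⟨hB, hinj⟩ := steiner_blk hG
  let P := {C : Finset (Pt E) // IsBig (graph hE h) C}
  let blk : Pt E → Finset P := fun x => Finset.univ.filter fun C => x ∈ C.1
  have hbig : ∀ (g : G) (C : Finset (Pt E)), IsBig (graph hE h) C → IsBig (graph hE h) (C.image (g • ·)) := by
    intro g C hC
    refine ⟨by rw [Finset.card_image_of_injective _ (MulAction.injective g), hC.1], ?_⟩
    simp only [Finset.mem_image]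
    rintro _ ⟨u, hu, rfl⟩ _ ⟨v, hv, rfl⟩ hadj
    exact hC.2 u hu v hv ((regPair_smul g u v).mp hadj)
  letI : MulAction G P :=
    { smul := fun g C => ⟨C.1.image (g • ·), hbig g C.1 C.2⟩
      one_smul := fun C => Subtype.ext (by
        show C.1.image ((1 : G) • ·) = C.1
        simp)
      mul_smul := fun g k C => Subtype.ext (by
        show C.1.image ((g * k) • ·) = (C.1.image (k • ·)).image (g • ·)
        rw [Finset.image_image]
        exact Finset.image_congr fun x _ => mul_smul g k x) }
  have hblk : ∀ (g : G) (x : Pt E), (blk x).image (g • ·) = blk (g • x) := by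
    intro g x
    ext C
    simp only [Finset.mem_image, blk, Finset.mem_filter, Finset.mem_univ, true_and]
    constructor
    · rintro ⟨D, hD, rfl⟩
      exact Finset.mem_image.mpr ⟨x, hD, rfl⟩
    · intro hC
      refine ⟨g⁻¹ • C, ?_, smul_inv_smul g C⟩
      exact Finset.mem_image.mpr ⟨g • x, hC, inv_smul_smul g x⟩
  have hcard : Fintype.card P = 22 := by rw [Fintype.card_subtype, card_big hG]
  let e : P ≃ Fin 22 := Fintype.equivFinOfCardEq hcard
  refine ⟨(fun b => b.image e) '' Set.range blk, ?_, ?_⟩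
  · refine ⟨?_, fun s hs => ?_⟩
    · rintro _ ⟨b, hb, rfl⟩
      rw [Finset.card_image_of_injective _ e.injective]
      exact hB.1 b hb
    · obtain ⟨b, ⟨hb, hsb⟩, hu⟩ := hB.2 (s.image e.symm) (by rw [Finset.card_image_of_injective _ e.symm.injective, hs])
      refine ⟨b.image e, ⟨⟨b, hb, rfl⟩, fun x hx => ?_⟩, ?_⟩
      · exact Finset.mem_image.mpr ⟨e.symm x, hsb (Finset.mem_image_of_mem _ hx), e.apply_symm_apply x⟩
      · rintro _ ⟨⟨b', hb', rfl⟩, hsb'⟩
        have hsub : s.image e.symm ⊆ b' := by
          intro y hy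
          obtain ⟨x, hx, rfl⟩ := Finset.mem_image.mp hy
          obtain ⟨z, hz, hze⟩ := Finset.mem_image.mp (hsb' hx)
          rw [← hze, e.symm_apply_apply]; exact hz
        rw [hu b' ⟨hb', hsub⟩]
  let ψ : G →* Equiv.Perm (Fin 22) :=
    { toFun := fun g => e.permCongr (MulAction.toPerm g)
      map_one' := Equiv.ext fun x => by simp
      map_mul' := fun g k => Equiv.ext fun x => by simp [mul_smul] }
  have hψ : ∀ g, ψ g ∈ Cfsg.setSystemAut ((fun b => b.image e) '' Set.range blk) := by
    intro g
    refine Golay.mem_setSystemAut_iff.mpr ?_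
    rintro _ ⟨_, ⟨x, rfl⟩, rfl⟩
    refine ⟨blk (g • x), ⟨g • x, rfl⟩, ?_⟩
    show (blk (g • x)).image e = _
    rw [← hblk g x, Finset.image_image, Finset.image_image]
    exact Finset.image_congr fun C _ => by
      show e (g • C) = e (g • e.symm (e C))
      rw [e.symm_apply_apply]
  refine ⟨ψ.codRestrict _ hψ, ?_⟩
  rw [← MonoidHom.ker_eq_bot_iff, MonoidHom.ker_codRestrict]
  refine ψ.normal_ker.eq_bot_or_eq_top.resolve_right fun htop => ?_
  have hfix : ∀ (g : G) (x : Pt E), g • x = x := by
    intro g x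
    apply hinj
    show blk (g • x) = blk x
    rw [← hblk g x]
    have hg : ψ g = 1 := MonoidHom.mem_ker.mp (htop ▸ Subgroup.mem_top g)
    have hC : ∀ C : P, g • C = C := fun C => e.injective (by
      have := congrArg (fun σ : Equiv.Perm (Fin 22) => σ (e C)) hg
      simpa [ψ] using this)
    exact (Finset.image_congr fun C _ => hC C).trans Finset.image_id
  have : Subsingleton (Pt E) := ⟨fun x y => by
    obtain ⟨g, rfl⟩ := Pt.exists_smul x y
    rw [hfix]⟩
  have h77 := hE.card_pt h
  have := Finite.card_le_one_iff_subsingleton.mpr this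
  omega

omit [Finite G] [IsSimpleGroup G] in
/-- Simple subgroups of index 2 in a group coincide. -/
theorem index_two_eq {A : Type*} [Group A] [Finite A] {H K : Subgroup A} (hH : H.index = 2)
    (hK : K.index = 2) (hs : IsSimpleGroup H) (h4 : 4 < Nat.card A) : H = K := by
  have hKn : K.Normal := Subgroup.normal_of_index_eq_two hK
  have hc1 := H.card_mul_index
  have hc2 := K.card_mul_index
  rw [hH] at hc1
  rw [hK] at hc2
  rcases (Subgroup.Normal.subgroupOf hKn H).eq_bot_or_eq_top with e | e
  · exfalso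
    rw [Subgroup.subgroupOf_eq_bot, disjoint_iff] at e
    have hinj := Nat.card_le_card_of_injective (fun p : H × K => (p.1 : A) * p.2) fun p q hpq => by
      have hpq' : (p.1 : A) * p.2 = q.1 * q.2 := hpq
      have e2 : (q.1 : A)⁻¹ * p.1 = q.2 * (p.2 : A)⁻¹ := by
        calc (q.1 : A)⁻¹ * p.1 = (q.1 : A)⁻¹ * ((p.1 : A) * p.2) * (p.2 : A)⁻¹ := by group
          _ = q.2 * (p.2 : A)⁻¹ := by rw [hpq']; group
      have hm : (q.1 : A)⁻¹ * p.1 ∈ K ⊓ H :=
        Subgroup.mem_inf.mpr ⟨e2 ▸ mul_mem q.2.2 (inv_mem p.2.2), mul_mem (inv_mem q.1.2) p.1.2⟩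
      rw [e, Subgroup.mem_bot] at hm
      rw [hm] at e2
      exact Prod.ext (Subtype.ext (inv_mul_eq_one.mp hm).symm) (Subtype.ext (mul_inv_eq_one.mp e2.symm).symm)
    rw [Nat.card_prod] at hinj
    nlinarith
  · exact Subgroup.eq_of_le_of_card_ge (Subgroup.subgroupOf_eq_top.mp e) (by omega)

theorem card_aut22 {B : Set (Finset (Fin 22))} (hB : Cfsg.IsSteinerSystem 3 6 B) :
    Nat.card (Cfsg.setSystemAut B) = 887040 :=
  (Golay.aut22_main (Fintype.card_fin 22) hB).1

/-- Two groups with the hypothesis are isomorphic. -/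
theorem Hyp.iso {G' : Type*} [Group G'] [Finite G'] [IsSimpleGroup G'] (h : Hyp G) (h' : Hyp G') :
    Nonempty (G ≃* G') := by
  classical
  obtain ⟨B, hB, φ, hφ⟩ := h.exists_embedding
  obtain ⟨B', hB', φ', hφ'⟩ := h'.exists_embedding
  obtain ⟨f, hf⟩ := Golay.steiner_3_6_22_iso (Fintype.card_fin 22) (Fintype.card_fin 22) hB hB'
  set c := Golay.setSystemAutCongr f hf
  set ψ := c.toMonoidHom.comp φ
  have hψ : Function.Injective ψ := c.injective.comp hφ
  let eG : G ≃* ψ.range := MonoidHom.ofInjective hψ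
  let eG' : G' ≃* φ'.range := MonoidHom.ofInjective hφ'
  have hA := card_aut22 hB'
  have hidx : ∀ K : Subgroup (Cfsg.setSystemAut B'), Nat.card K = 443520 → K.index = 2 := by
    intro K hK
    have := K.card_mul_index
    rw [hK, hA] at this
    omega
  have h1 := hidx ψ.range ((Nat.card_congr eG.toEquiv).symm.trans h.card)
  have h2 := hidx φ'.range ((Nat.card_congr eG'.toEquiv).symm.trans h'.card)
  have hsimple : IsSimpleGroup ψ.range := eG.symm.isSimpleGroup
  have heq := index_two_eq h1 h2 hsimple (by rw [hA]; norm_num)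
  exact ⟨eG.trans ((MulEquiv.subgroupCongr heq).trans eG'.symm)⟩

end Cfsg.Agent.OrderM22
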