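/-
M22 satisfies the hypothesis.

Main result (namespace `Cfsg.Agent.OrderM22`):
* `hyp_m22` : `Hyp Spor.M22`
-/
import Cfsg.Agent.Lib.OrderM22.GraphAut
import Cfsg.Agent.Lib.SingleBlock.M22
import Cfsg.Agent.Lib.Golay.Mathieu

set_option autoImplicit false

open Cfsg Cfsg.Agent.Golay MulAction
open scoped Pointwise

namespace Cfsg.Agent.OrderM22

theorem simple_m22 : IsSimpleGroup ↥Spor.M22 :=
  isSimpleGroup_m22 (a := (none : GolayPt)) (b := (some 0 : GolayPt)) (by simp)

/-- An element commuting with `z` of order 5 and fixing two base points and one moved point is trivial. -/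
theorem eq_one_of_five {z g : ↥Spor.M22} (hz : orderOf z = 5) {a : GolayPt}
    (ha : (z : Equiv.Perm GolayPt) a ≠ a)
    (hc : (g : Equiv.Perm GolayPt) * z = (z : Equiv.Perm GolayPt) * g)
    (hga : (g : Equiv.Perm GolayPt) a = a) : g = 1 := by
  haveI : Fact (Nat.Prime 5) := ⟨by norm_num⟩
  obtain ⟨hzM, hza, hzb⟩ := SingleBlock.mem_m22 z
  have ho : orderOf (z : Equiv.Perm GolayPt) = 5 := by rw [Subgroup.orderOf_coe, hz]
  obtain ⟨hgM, hg1, hg2⟩ := SingleBlock.mem_m22 g
  obtain ⟨T, e, -, -, hins, hcy⟩ := SingleBlock.cycle_five hzM ho ha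
  obtain ⟨-, -, hone⟩ := hcy _ hgM hc hga
  have hmem : ∀ q, (z : Equiv.Perm GolayPt) q = q → q = e ∨ q ∈ T := fun q hq => by
    have : q ∈ (z : Equiv.Perm GolayPt).supportᶜ := by simpa using hq
    rwa [hins, Finset.mem_insert] at this
  apply Subtype.ext
  rcases hmem none hza with h | h
  · rcases hmem (some 0) hzb with h' | h'
    · exact absurd (h.trans h'.symm) (by simp)
    · exact hone _ h' hg2
  · exact hone _ h hg1

theorem centralizer_five_m22 (z : ↥Spor.M22) (hz : orderOf z = 5) :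
    Nat.card (Subgroup.centralizer ({z} : Set ↥Spor.M22)) = 5 := by
  haveI : Fact (Nat.Prime 5) := ⟨by norm_num⟩
  haveI : Fact (Nat.Prime 2) := ⟨Nat.prime_two⟩
  obtain ⟨hzM, hza, hzb⟩ := SingleBlock.mem_m22 z
  have ho : orderOf (z : Equiv.Perm GolayPt) = 5 := by rw [Subgroup.orderOf_coe, hz]
  obtain ⟨c, r, hc, hr, hN⟩ := SingleBlock.card_normalizer_eq hz
  obtain ⟨h1, h2⟩ := SingleBlock.sylow_count (SingleBlock.card_m22'.symm ▸ (by norm_num : 5 ∣ 443520))
    (SingleBlock.card_m22'.symm ▸ (by norm_num : ¬ 5 ^ 2 ∣ 443520)) hz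
  rw [hN, SingleBlock.card_m22', SingleBlock.card_sylow_five] at h1
  have hodd : ¬ 2 ∣ Nat.card (Subgroup.centralizer ({z} : Set ↥Spor.M22)) := by
    intro hd
    obtain ⟨⟨g, hgC⟩, hg⟩ := exists_prime_orderOf_dvd_card' (G := Subgroup.centralizer ({z} : Set ↥Spor.M22)) 2 hd
    rw [Subgroup.orderOf_mk] at hg
    have hgc : (g : Equiv.Perm GolayPt) * z = (z : Equiv.Perm GolayPt) * g :=
      congrArg Subtype.val (Subgroup.mem_centralizer_singleton_iff.mp hgC)
    obtain ⟨hgM, hg1, -⟩ := SingleBlock.mem_m22 g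
    obtain ⟨o, hoct, -, hiff⟩ := SingleBlock.exists_octad_fixed hgM
      (by rw [Subgroup.orderOf_coe, hg]) hg1
    obtain ⟨a, hao, haz⟩ : ∃ a ∈ o, (z : Equiv.Perm GolayPt) a ≠ a := by
      by_contra hno
      push Not at hno
      have hsub : o ⊆ (z : Equiv.Perm GolayPt).supportᶜ := fun q hq => by simpa using hno q hq
      have := Finset.card_le_card hsub
      rw [SingleBlock.fixed_five hzM ho, show o.card = 8 from hoct.2] at this
      omega
    have := eq_one_of_five hz haz hgc ((hiff a).mpr hao)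
    rw [this, orderOf_one] at hg
    omega
  rw [hc] at hodd ⊢
  have hcr : c * r = 4 := by nlinarith
  have hc4 : c ∣ 4 := ⟨r, hcr.symm⟩
  have := Nat.le_of_dvd (by norm_num) hc4
  interval_cases c <;> omega

theorem hyp_m22 : Hyp ↥Spor.M22 where
  card := SingleBlock.card_m22'
  n5 := by intro; exact SingleBlock.card_sylow_five
  n7 := by intro; exact SingleBlock.card_sylow_seven
  n11 := by intro; exact SingleBlock.card_sylow_eleven
  c5 := centralizer_five_m22

end Cfsg.Agent.OrderM22
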