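/-
A group with the order and the numbers of elements of each order of M22 satisfies the hypothesis.

Main results (namespace `Cfsg.Agent.OrderM22`):
* `mem_values` : the numbers of elements of each order in M22
* `hyp_of_nse` : simplicity and the hypothesis
-/
import Cfsg.Agent.Lib.OrderM22.M22Facts
import Cfsg.Agent.Lib.SameOrder.Basic

set_option autoImplicit false

open Cfsg

namespace Cfsg.Agent.OrderM22

open Subgroup Cfsg.Agent.SmallOrders Cfsg.Agent.SameOrder

variable {G : Type*} [Group G] [Finite G]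

theorem sylow_card {p m : ℕ} [Fact p.Prime] (hc : Nat.card G = p * m) (hm : ¬ p ∣ m) (P : Sylow p G) :
    Nat.card (P : Subgroup G) = p := by
  rw [card_sylow_subgroup (hc.trans (by rw [pow_one])) hm P, pow_one]

theorem numOrder_prime {p m : ℕ} [Fact p.Prime] (hc : Nat.card G = p * m) (hm : ¬ p ∣ m) :
    numOrder G p = Nat.card (Sylow p G) * (p - 1) :=
  card_orderOf_eq_prime (sylow_card hc hm)

theorem dvd_numOrder {p n : ℕ} [hp : Fact p.Prime] {z : G} (hz : orderOf z = p)
    (hC : Nat.card (centralizer ({z} : Set G)) = p) (h1 : n ≠ 1) (hn : n ≠ p) : p ∣ numOrder G n := by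
  have hinv : ∀ g ∈ {g : G | orderOf g = n}, z * g * z⁻¹ ∈ {g : G | orderOf g = n} := fun g hg =>
    (orderOf_injective (MulAut.conj z).toMonoidHom (MulAut.conj z).injective g).trans hg
  have h := ncard_modEq hz {g : G | orderOf g = n} hinv
  have hfix : {m ∈ {g : G | orderOf g = n} | Commute z m} = ∅ := by
    rw [Set.eq_empty_iff_forall_notMem]
    intro g hg
    have hd := orderOf_dvd_of_centralizer hC hg.2.symm.eq
    rw [show orderOf g = n from hg.1] at hd
    rcases hp.out.eq_one_or_self_of_dvd n hd with e | e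
    exacts [h1 e, hn e]
  rw [hfix, Set.ncard_empty, Nat.sub_zero, ← Nat.card_coe_set_eq] at h
  exact h

theorem card_split {s : Finset ℕ} : ∑ n ∈ s, numOrder G n ≤ Nat.card G := by
  classical
  have := Fintype.ofFinite G
  simp only [numOrder, Nat.card_eq_fintype_card, Fintype.card_subtype]
  rw [← Finset.card_biUnion (fun a _ b _ hab => Finset.disjoint_filter.mpr fun g _ h1 h2 => hab (h1.symm.trans h2))]
  exact Finset.card_le_univ _

/-- The numbers of elements of each order of a simple group with the hypothesis. -/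
theorem Hyp.mem_values [IsSimpleGroup G] (h : Hyp G) :
    numOrder G 5 = 88704 ∧ numOrder G 7 = 126720 ∧ numOrder G 11 = 80640 ∧
      ∀ n, numOrder G n = 0 ∨ numOrder G n = 1 ∨ numOrder G n = 88704 ∨ numOrder G n = 126720 ∨
        numOrder G n = 80640 ∨ 385 ∣ numOrder G n ∧ numOrder G n ≤ 147455 := by
  have : Fact (Nat.Prime 5) := ⟨by norm_num⟩
  have : Fact (Nat.Prime 7) := ⟨by norm_num⟩
  have : Fact (Nat.Prime 11) := ⟨by norm_num⟩
  have h5 : numOrder G 5 = 88704 := by
    rw [numOrder_prime (m := 88704) (h.card.trans (by norm_num)) (by norm_num), h.n5]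
  have h7 : numOrder G 7 = 126720 := by
    rw [numOrder_prime (m := 63360) (h.card.trans (by norm_num)) (by norm_num), h.n7]
  have h11 : numOrder G 11 = 80640 := by
    rw [numOrder_prime (m := 40320) (h.card.trans (by norm_num)) (by norm_num), h.n11]
  refine ⟨h5, h7, h11, fun n => ?_⟩
  by_cases hn1 : n = 1
  · exact Or.inr (Or.inl (by rw [hn1]; exact numOrder_one))
  by_cases hn5 : n = 5
  · exact Or.inr (Or.inr (Or.inl (hn5 ▸ h5)))
  by_cases hn7 : n = 7
  · exact Or.inr (Or.inr (Or.inr (Or.inl (hn7 ▸ h7))))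
  by_cases hn11 : n = 11
  · exact Or.inr (Or.inr (Or.inr (Or.inr (Or.inl (hn11 ▸ h11)))))
  refine Or.inr (Or.inr (Or.inr (Or.inr (Or.inr ⟨?_, ?_⟩))))
  · obtain ⟨z, y, x, -, hz, hy, hx, -⟩ := h.exists_elements
    have d5 := dvd_numOrder hz (h.centralizer_prime (Or.inl rfl) hz) hn1 hn5
    have d7 := dvd_numOrder hy (h.centralizer_prime (Or.inr (Or.inl rfl)) hy) hn1 hn7
    have d11 := dvd_numOrder hx (h.centralizer_prime (Or.inr (Or.inr rfl)) hx) hn1 hn11
    exact Nat.Coprime.mul_dvd_of_dvd_of_dvd (m := 35) (n := 11) (by norm_num)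
      (Nat.Coprime.mul_dvd_of_dvd_of_dvd (m := 5) (n := 7) (by norm_num) d5 d7) d11
  · have := card_split (G := G) (s := {1, 5, 7, 11, n})
    rw [Finset.sum_insert (by simp [Ne.symm hn1]), Finset.sum_insert (by simp [Ne.symm hn5]),
      Finset.sum_insert (by simp [Ne.symm hn7]), Finset.sum_insert (by simp [Ne.symm hn11]),
      Finset.sum_singleton, numOrder_one, h5, h7, h11, h.card] at this
    omega

theorem centralizer_dvd_normalizer {p m n : ℕ} [Fact p.Prime] (hc : Nat.card G = p * m) (hm : ¬ p ∣ m)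
    (hn : Nat.card (Sylow p G) = n) {x : G} (hx : orderOf x = p) :
    p ∣ Nat.card (centralizer ({x} : Set G)) ∧ Nat.card (centralizer ({x} : Set G)) * n ∣ p * m := by
  obtain ⟨P, hP⟩ := exists_sylow_eq_zpowers (sylow_card hc hm) hx
  have h1 := card_normalizer_mul_card_sylow P
  rw [hn, hc] at h1
  refine ⟨?_, ?_⟩
  · have := Subgroup.card_dvd_of_le (zpowers_le_centralizer x)
    rwa [Nat.card_zpowers, hx] at this
  · rw [← h1]
    refine mul_dvd_mul_right (Subgroup.card_dvd_of_le ?_) n
    rw [hP, ← centralizer_zpowers x]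
    exact centralizer_le_normalizer _

/-- The elements of order divisible by 5 when the centraliser of `z` has order `5c`, `c ∣ 4`. -/
theorem card_five_part [Fact (Nat.Prime 5)] (hc : Nat.card G = 443520) {c : ℕ}
    (hC : ∀ z : G, orderOf z = 5 → Nat.card (centralizer ({z} : Set G)) = 5 * c) (hc4 : c ∣ 4) :
    {g : G | 5 ∣ orderOf g}.ncard = numOrder G 5 * c := by
  classical
  have := Fintype.ofFinite G
  have hmem : ∀ {z w : G}, orderOf z = 5 → Commute w z → w ^ 5 = 1 → w ∈ zpowers z := by
    intro z w hz hwz hw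
    have hS : ∀ S : Sylow 5 G, Nat.card (S : Subgroup G) = 5 :=
      sylow_card (m := 88704) (hc.trans (by norm_num)) (by norm_num)
    by_cases hw1 : w = 1
    · rw [hw1]; exact one_mem _
    have hwo : orderOf w = 5 := orderOf_eq_prime hw hw1
    have h1 : IsPGroup 5 (zpowers z) := IsPGroup.of_card (n := 1) (by rw [Nat.card_zpowers, hz, pow_one])
    have h2 : IsPGroup 5 (zpowers w) := IsPGroup.of_card (n := 1) (by rw [Nat.card_zpowers, hwo, pow_one])
    have hle : zpowers w ≤ normalizer (zpowers z : Set G) := by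
      rw [zpowers_le]
      refine mem_normalizer_of_conj fun m hm => ?_
      obtain ⟨k, rfl⟩ := hm
      exact ⟨k, by rw [(hwz.zpow_right k).eq, mul_inv_cancel_right]⟩
    obtain ⟨S, hS'⟩ := (h1.to_sup_of_normal_left' h2 hle).exists_le_sylow
    have e := eq_of_le_of_card_ge (le_sup_left.trans hS' : zpowers z ≤ S) (by rw [hS, Nat.card_zpowers, hz])
    exact e.ge ((le_sup_right.trans hS') (mem_zpowers w))
  have h20 : ∀ {z g : G}, orderOf z = 5 → Commute g z → g ^ 20 = 1 := by
    intro z g hz hg
    refine orderOf_dvd_iff_pow_eq_one.mp ((orderOf_dvd_of_centralizer (hC z hz) hg.eq).trans ?_)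
    exact (Nat.mul_dvd_mul_left 5 hc4)
  have h5part : ∀ g : G, 5 ∣ orderOf g → orderOf (g ^ 16) = 5 ∧ Commute g (g ^ 16) := by
    intro g hg
    have hg0 : orderOf g ≠ 0 := (orderOf_pos g).ne'
    obtain ⟨k, hk⟩ := hg
    have hk0 : k ≠ 0 := fun e => hg0 (by rw [hk, e, mul_zero])
    have hz : orderOf (g ^ k) = 5 := by
      rw [orderOf_pow_of_dvd hk0 (Dvd.intro_left 5 hk.symm), hk, Nat.mul_div_cancel _ (Nat.pos_of_ne_zero hk0)]
    have hd := orderOf_dvd_of_pow_eq_one (h20 hz ((Commute.refl g).pow_right k))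
    refine ⟨orderOf_eq_prime ?_ ?_, (Commute.refl g).pow_right 16⟩
    · rw [← pow_mul, show 16 * 5 = 20 * 4 by norm_num, pow_mul, h20 hz ((Commute.refl g).pow_right k), one_pow]
    · intro e
      have := (Dvd.intro k hk.symm).trans (orderOf_dvd_of_pow_eq_one e)
      norm_num at this
  have hfib : ∀ z : G, orderOf z = 5 → Nat.card {g : G // Commute g z ∧ g ^ 16 = z} = c := by
    intro z hz
    have hz5 : z ^ 5 = 1 := by rw [← hz, pow_orderOf_eq_one]
    have h16 : ∀ a ∈ zpowers z, a ^ 16 = a := by
      intro a ha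
      have : a ^ 5 = 1 := by
        obtain ⟨k, rfl⟩ := ha
        rw [← zpow_natCast, zpow_comm, zpow_natCast, hz5, one_zpow]
      rw [show 16 = 5 * 3 + 1 by norm_num, pow_succ, pow_mul, this, one_pow, one_mul]
    let e : centralizer ({z} : Set G) ≃ zpowers z × {g : G // Commute g z ∧ g ^ 16 = z} :=
      { toFun := fun g =>
          have hgz : Commute (g : G) z := mem_centralizer_singleton_iff.mp g.2
          have hm : z⁻¹ * (g : G) ^ 16 ∈ zpowers z := by
            refine mul_mem (inv_mem (mem_zpowers z)) (hmem hz (hgz.pow_left 16) ?_)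
            rw [← pow_mul, show 16 * 5 = 20 * 4 by norm_num, pow_mul, h20 hz hgz, one_pow]
          (⟨z⁻¹ * (g : G) ^ 16, hm⟩, ⟨(g : G) * (z⁻¹ * (g : G) ^ 16)⁻¹,
            hgz.mul_left ((Commute.refl z).inv_left.mul_left (hgz.pow_left 16)).inv_left, by
            have hcm : Commute (g : G) (z⁻¹ * (g : G) ^ 16)⁻¹ :=
              (hgz.inv_right.mul_right ((Commute.refl _).pow_right 16)).inv_right
            rw [hcm.mul_pow, h16 _ (inv_mem hm), mul_inv_rev, inv_inv, mul_inv_cancel_left]⟩)
        invFun := fun p => ⟨p.2.1 * p.1.1, mem_centralizer_singleton_iff.mpr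
          (p.2.2.1.mul_left (by
            obtain ⟨k, hk⟩ := p.1.2
            rw [← hk]; exact (Commute.refl z).zpow_left k)).eq⟩
        left_inv := fun g => Subtype.ext (by simp [mul_assoc])
        right_inv := fun p => by
          have hpf : Commute p.2.1 p.1.1 := by
            obtain ⟨k, hk⟩ := p.1.2
            rw [← hk]; exact p.2.2.1.zpow_right k
          have e1 : z⁻¹ * (p.2.1 * p.1.1) ^ 16 = p.1.1 := by
            rw [hpf.mul_pow, p.2.2.2, h16 _ p.1.2, inv_mul_cancel_left]
          refine Prod.ext (Subtype.ext e1) (Subtype.ext ?_)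
          show p.2.1 * p.1.1 * (z⁻¹ * (p.2.1 * p.1.1) ^ 16)⁻¹ = p.2.1
          rw [e1, mul_inv_cancel_right] }
    have := Nat.card_congr e
    rw [hC z hz, Nat.card_prod, Nat.card_zpowers, hz] at this
    exact (Nat.eq_of_mul_eq_mul_left (by norm_num) this).symm
  let e2 : ↥{g : G | 5 ∣ orderOf g} ≃ Σ z : {z : G // orderOf z = 5}, {g : G // Commute g z.1 ∧ g ^ 16 = z.1} :=
    { toFun := fun g => ⟨⟨(g : G) ^ 16, (h5part g g.2).1⟩, g.1, (h5part g g.2).2, rfl⟩
      invFun := fun p => ⟨p.2.1, by
        show 5 ∣ orderOf p.2.1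
        have := orderOf_pow_dvd (x := p.2.1) 16
        rw [p.2.2.2, p.1.2] at this
        exact this⟩
      left_inv := fun _ => rfl
      right_inv := fun p => Sigma.subtype_ext (Subtype.ext p.2.2.2) rfl }
  rw [← Nat.card_coe_set_eq, Nat.card_congr e2, Nat.card_sigma, Finset.sum_congr rfl (fun z _ => hfib z.1 z.2),
    Finset.sum_const, Finset.card_univ, smul_eq_mul, ← Nat.card_eq_fintype_card]

/-- The group is simple with the hypothesis. -/
theorem hyp_of_nse (hcard : Nat.card G = 443520)
    (hset : ∀ n, numOrder G n = 0 ∨ numOrder G n = 1 ∨ numOrder G n = 88704 ∨ numOrder G n = 126720 ∨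
        numOrder G n = 80640 ∨ 385 ∣ numOrder G n ∧ numOrder G n ≤ 147455) :
    IsSimpleGroup G ∧ Hyp G := by
  classical
  have := Fintype.ofFinite G
  have : Fact (Nat.Prime 5) := ⟨by norm_num⟩
  have : Fact (Nat.Prime 7) := ⟨by norm_num⟩
  have : Fact (Nat.Prime 11) := ⟨by norm_num⟩
  have key : ∀ {p : ℕ}, p.Prime → p ∣ 443520 →
      p ∣ 1 + numOrder G p ∧ numOrder G p ≠ 0 := fun {p} hp hd =>
    ⟨dvd_prime hp (hcard ▸ hd), numOrder_prime_ne_zero hp (hcard ▸ hd)⟩
  obtain ⟨a5, b5⟩ := key (show Nat.Prime 5 by norm_num) (by norm_num)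
  obtain ⟨a7, b7⟩ := key (show Nat.Prime 7 by norm_num) (by norm_num)
  obtain ⟨a11, b11⟩ := key (show Nat.Prime 11 by norm_num) (by norm_num)
  have h5 : numOrder G 5 = 88704 := by have := hset 5; omega
  have h7 : numOrder G 7 = 126720 := by have := hset 7; omega
  have h11 : numOrder G 11 = 80640 := by have := hset 11; omega
  have n5 : Nat.card (Sylow 5 G) = 22176 := by
    have := numOrder_prime (G := G) (p := 5) (m := 88704) (hcard.trans (by norm_num)) (by norm_num)
    omega
  have n7 : Nat.card (Sylow 7 G) = 21120 := by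
    have := numOrder_prime (G := G) (p := 7) (m := 63360) (hcard.trans (by norm_num)) (by norm_num)
    omega
  have n11 : Nat.card (Sylow 11 G) = 8064 := by
    have := numOrder_prime (G := G) (p := 11) (m := 40320) (hcard.trans (by norm_num)) (by norm_num)
    omega
  -- an element of order 5: the centraliser
  have hC5dvd : ∀ z : G, orderOf z = 5 → Nat.card (centralizer ({z} : Set G)) ∣ 20 ∧
      5 ∣ Nat.card (centralizer ({z} : Set G)) := by
    intro z hz
    obtain ⟨h1, h2⟩ := centralizer_dvd_normalizer (m := 88704) (hcard.trans (by norm_num)) (by norm_num) n5 hz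
    exact ⟨Nat.dvd_of_mul_dvd_mul_right (show 0 < 22176 by norm_num) (show _ * 22176 ∣ 20 * 22176 by simpa using h2), h1⟩
  have hC7 : ∀ y : G, orderOf y = 7 → Nat.card (centralizer ({y} : Set G)) ∣ 21 := by
    intro y hy
    obtain ⟨-, h2⟩ := centralizer_dvd_normalizer (m := 63360) (hcard.trans (by norm_num)) (by norm_num) n7 hy
    exact Nat.dvd_of_mul_dvd_mul_right (show 0 < 21120 by norm_num) (show _ * 21120 ∣ 21 * 21120 by simpa using h2)
  have hC11 : ∀ x : G, orderOf x = 11 → Nat.card (centralizer ({x} : Set G)) = 11 := by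
    intro x hx
    obtain ⟨h1, h2⟩ := centralizer_dvd_normalizer (m := 40320) (hcard.trans (by norm_num)) (by norm_num) n11 hx
    have hd : Nat.card (centralizer ({x} : Set G)) ∣ 55 :=
      Nat.dvd_of_mul_dvd_mul_right (show 0 < 8064 by norm_num) (show _ * 8064 ∣ 55 * 8064 by simpa using h2)
    by_contra hne
    have h55 : 5 ∣ Nat.card (centralizer ({x} : Set G)) := by
      have := Nat.le_of_dvd (by norm_num) hd
      obtain ⟨k, hk⟩ := h1
      rw [hk] at hd hne this ⊢
      have hk5 : k ∣ 5 := Nat.dvd_of_mul_dvd_mul_left (show 0 < 11 by norm_num) (show 11 * k ∣ 11 * 5 by simpa using hd)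
      rcases (show Nat.Prime 5 by norm_num).eq_one_or_self_of_dvd k hk5 with rfl | rfl
      · exact absurd (mul_one 11) hne
      · norm_num
    obtain ⟨⟨z, hzC⟩, hz⟩ := exists_prime_orderOf_dvd_card' (G := centralizer ({x} : Set G)) 5 h55
    rw [Subgroup.orderOf_mk] at hz
    have := (orderOf_dvd_of_centralizer rfl (Commute.symm (mem_centralizer_singleton_iff.mp hzC)).eq).trans (hC5dvd z hz).1
    rw [hx] at this
    norm_num at this
  obtain ⟨z, hz⟩ := exists_prime_orderOf_dvd_card' (G := G) 5 (by rw [hcard]; norm_num)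
  obtain ⟨y, hy⟩ := exists_prime_orderOf_dvd_card' (G := G) 7 (by rw [hcard]; norm_num)
  -- one constant `c`
  obtain ⟨⟨c, hc⟩, hc20⟩ := (hC5dvd z hz).symm
  have hc4 : c ∣ 4 := Nat.dvd_of_mul_dvd_mul_left (show 0 < 5 by norm_num) (show 5 * c ∣ 5 * 4 by rw [← hc]; exact hc20)
  have hCall : ∀ z' : G, orderOf z' = 5 → Nat.card (centralizer ({z'} : Set G)) = 5 * c := by
    intro z' hz'
    rw [← hc]
    obtain ⟨P, hP⟩ := exists_sylow_eq_zpowers (sylow_card (m := 88704) (hcard.trans (by norm_num)) (by norm_num)) hz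
    obtain ⟨P', hP'⟩ := exists_sylow_eq_zpowers (sylow_card (m := 88704) (hcard.trans (by norm_num)) (by norm_num)) hz'
    obtain ⟨g, hg⟩ := MulAction.exists_smul_eq G P P'
    have hmap : zpowers z' = (zpowers z).map (MulAut.conj g).toMonoidHom := by
      rw [← hP, ← hP', ← hg]; rfl
    rw [← centralizer_zpowers z', ← centralizer_zpowers z, hmap]
    let f := (MulAut.conj g).toMonoidHom
    have e : centralizer (((zpowers z).map f : Subgroup G) : Set G) = (centralizer (zpowers z : Set G)).map f := by
      ext u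
      constructor
      · intro hu
        refine ⟨g⁻¹ * u * g, fun w hw => ?_, by simp [f, mul_assoc]⟩
        have e2 : (g * w * g⁻¹) * u = u * (g * w * g⁻¹) := hu (f w) ⟨w, hw, rfl⟩
        calc w * (g⁻¹ * u * g) = g⁻¹ * ((g * w * g⁻¹) * u) * g := by group
          _ = g⁻¹ * (u * (g * w * g⁻¹)) * g := by rw [e2]
          _ = g⁻¹ * u * g * w := by group
      · rintro ⟨v, hv, rfl⟩ _ ⟨w, hw, rfl⟩
        show f w * f v = f v * f w
        rw [← map_mul, ← map_mul, show w * v = v * w from hv w hw]
    rw [e]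
    exact (Nat.card_congr ((centralizer (zpowers z : Set G)).equivMapOfInjective f (MulAut.conj g).injective).toEquiv).symm
  have hA := card_five_part hcard hCall hc4
  rw [h5] at hA
  set A := {g : G | 5 ∣ orderOf g}
  -- elements of order prime to 5, other than 1 and those of order 7 and 11
  set O := Finset.univ.filter (fun g : G => g ≠ 1 ∧ ¬ 5 ∣ orderOf g ∧ orderOf g ≠ 7 ∧ orderOf g ≠ 11) with hO
  have hsum : A.ncard + O.card + 1 + 126720 + 80640 = 443520 := by
    have e : Finset.univ = (Finset.univ.filter fun g : G => 5 ∣ orderOf g) ∪ O ∪ {1} ∪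
        (Finset.univ.filter fun g : G => orderOf g = 7) ∪ (Finset.univ.filter fun g : G => orderOf g = 11) := by
      ext g
      simp only [hO, Finset.mem_union, Finset.mem_filter, Finset.mem_univ, true_and, Finset.mem_singleton]
      tauto
    have hcardeq := congrArg Finset.card e
    rw [Finset.card_univ, ← Nat.card_eq_fintype_card, hcard, Finset.card_union_of_disjoint,
      Finset.card_union_of_disjoint, Finset.card_union_of_disjoint, Finset.card_union_of_disjoint,
      Finset.card_singleton] at hcardeq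
    · rw [← Fintype.card_subtype, ← Fintype.card_subtype (fun g : G => orderOf g = 7),
        ← Fintype.card_subtype (fun g : G => orderOf g = 11), ← Nat.card_eq_fintype_card,
        ← Nat.card_eq_fintype_card (α := {g : G // orderOf g = 7}),
        ← Nat.card_eq_fintype_card (α := {g : G // orderOf g = 11})] at hcardeq
      change 443520 = Nat.card A + O.card + 1 + numOrder G 7 + numOrder G 11 at hcardeq
      rw [Nat.card_coe_set_eq, h7, h11] at hcardeq
      omega
    all_goals
      rw [Finset.disjoint_left]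
      intro g hg hg'
      simp only [hO, Finset.mem_union, Finset.mem_filter, Finset.mem_univ, true_and, Finset.mem_singleton,
        ne_eq] at hg hg'
      by_cases h1 : g = 1
      · subst h1
        simp [orderOf_one] at hg hg'
      · simp only [h1, not_false_eq_true, true_and, or_false, false_or] at hg hg' <;> omega
  -- the centraliser of an element of order 5
  have hc1 : c = 1 := by
    by_contra hne
    have hcle := Nat.le_of_dvd (by norm_num) hc4
    have hc2 : c = 2 := by
      interval_cases c <;> first | omega | norm_num at hc4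
    subst hc2
    have hOd : 5 ∣ O.card := by
      rw [Finset.card_eq_sum_card_image orderOf O]
      refine Finset.dvd_sum fun n hn => ?_
      obtain ⟨g, hg, rfl⟩ := Finset.mem_image.mp hn
      simp only [hO, Finset.mem_filter, Finset.mem_univ, true_and] at hg
      have e : (O.filter fun a => orderOf a = orderOf g) = Finset.univ.filter fun a : G => orderOf a = orderOf g := by
        ext a
        simp only [hO, Finset.mem_filter, Finset.mem_univ, true_and]
        refine ⟨fun ha => ha.2, fun ha => ⟨⟨fun e => hg.1 ?_, ha ▸ hg.2⟩, ha⟩⟩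
        rw [e, orderOf_one] at ha
        exact orderOf_eq_one_iff.mp ha.symm
      have hle : (O.filter fun a => orderOf a = orderOf g).card ≤ O.card := Finset.card_filter_le _ _
      rw [e, ← Fintype.card_subtype, ← Nat.card_eq_fintype_card] at hle ⊢
      change numOrder G (orderOf g) ≤ O.card at hle
      change 5 ∣ numOrder G (orderOf g)
      have h1 : numOrder G (orderOf g) ≠ 1 := by
        intro e1
        have ht := totient_dvd (G := G) (orderOf g)
        rw [e1, Nat.dvd_one, Nat.totient_eq_one_iff] at ht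
        have h2 : orderOf g = 2 := ht.resolve_left (fun e2 => hg.1 (orderOf_eq_one_iff.mp e2))
        have hu : ∀ a : G, orderOf a = orderOf g → a = g := fun a ha => by
          have := (Nat.card_eq_one_iff_unique.mp e1).1
          exact congrArg Subtype.val (Subsingleton.elim (⟨a, ha⟩ : {a : G // orderOf a = orderOf g}) ⟨g, rfl⟩)
        have hcen : g * y = y * g := by
          have := hu (y⁻¹ * g * y) (by
            have := orderOf_injective (MulAut.conj y⁻¹).toMonoidHom (MulAut.conj y⁻¹).injective g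
            simpa using this)
          calc g * y = y * (y⁻¹ * g * y) := by group
            _ = y * g := by rw [this]
        have := (orderOf_dvd_of_centralizer rfl hcen).trans (hC7 y hy)
        rw [h2] at this; norm_num at this
      have hset' := hset (orderOf g)
      have hne0 : numOrder G (orderOf g) ≠ 0 := numOrder_ne_zero_iff.mpr ⟨g, rfl⟩
      omega
    omega
  have hC5 : ∀ z' : G, orderOf z' = 5 → Nat.card (centralizer ({z'} : Set G)) = 5 := fun z' hz' => by
    rw [hCall z' hz', hc1]
  have hHyp : Hyp G := ⟨hcard, by intro; exact n5, by intro; exact n7, by intro; exact n11, hC5⟩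
  refine ⟨?_, hHyp⟩
  have : Nontrivial G := Finite.one_lt_card_iff_nontrivial.mp (by rw [hcard]; norm_num)
  refine ⟨fun N hN => ?_⟩
  by_contra hne
  push Not at hne
  have hdN : Nat.card N ∣ 443520 := hcard ▸ card_subgroup_dvd_card N
  have hdvd : ∀ {p : ℕ} [Fact p.Prime] {m n : ℕ}, 443520 = p * m → ¬ p ∣ m → Nat.card (Sylow p G) = n →
      p ∣ Nat.card N → n ∣ Nat.card N := by
    intro p _ m n hpm hm hn hp
    have hS := sylow_card (G := G) (hcard.trans hpm) hm
    obtain ⟨x, hx⟩ := exists_prime_orderOf_dvd_card' (G := N) p hp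
    obtain ⟨P, hP⟩ := exists_sylow_eq_zpowers hS (g := (x : G)) (by rw [Subgroup.orderOf_coe]; exact hx)
    have hPN : ∀ Q : Sylow p G, (Q : Subgroup G) ≤ N := by
      intro Q
      obtain ⟨g, rfl⟩ := MulAction.exists_smul_eq G P Q
      rintro _ ⟨w, hw, rfl⟩
      exact hN.conj_mem w ((hP ▸ zpowers_le.mpr x.2 : (P : Subgroup G) ≤ N) hw) g
    have e : numOrder N p = numOrder G p := Nat.card_congr
      { toFun := fun a => ⟨a.1.1, (Subgroup.orderOf_coe a.1).trans a.2⟩
        invFun := fun a => ⟨⟨a.1, by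
          obtain ⟨Q, hQ⟩ := exists_sylow_eq_zpowers hS a.2
          exact hPN Q (hQ ▸ mem_zpowers a.1)⟩, by rw [← Subgroup.orderOf_coe]; exact a.2⟩
        left_inv := fun _ => rfl
        right_inv := fun _ => rfl }
    have hSN : ∀ Q : Sylow p N, Nat.card (Q : Subgroup N) = p := by
      obtain ⟨k, hk⟩ := hp
      intro Q
      refine sylow_card (m := k) hk (fun hd => ?_) Q
      have : p * p ∣ p * m := hpm ▸ ((mul_dvd_mul_left p hd).trans (hk ▸ hdN))
      exact hm (Nat.dvd_of_mul_dvd_mul_left (Fact.out : p.Prime).pos this)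
    change Nat.card {g : N // orderOf g = p} = Nat.card {g : G // orderOf g = p} at e
    rw [card_orderOf_eq_prime hSN, card_orderOf_eq_prime hS, hn] at e
    have h1 := (Fact.out : p.Prime).one_lt
    rw [← Nat.eq_of_mul_eq_mul_right (show 0 < p - 1 by omega) e]
    let Q : Sylow p N := default
    exact (Sylow.card_dvd_index Q).trans Q.index_dvd_card
  have h11N : 11 ∣ Nat.card N → False := fun h => by
    have a := hdvd (m := 40320) (by norm_num) (by norm_num) n11 h
    have b := hdvd (m := 63360) (by norm_num) (by norm_num) n7 ((show 7 ∣ 8064 by norm_num).trans a)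
    have d := hdvd (m := 88704) (by norm_num) (by norm_num) n5 ((show 5 ∣ 21120 by norm_num).trans b)
    have e5 : 5 ∣ Nat.card N := (show 5 ∣ 21120 by norm_num).trans b
    have all : 443520 ∣ Nat.card N := (show 443520 = Nat.lcm (Nat.lcm 8064 21120) 22176 by norm_num).symm ▸
      Nat.lcm_dvd (Nat.lcm_dvd a b) d
    exact hne.2 (Subgroup.eq_top_of_card_eq N (by rw [hcard]; exact Nat.dvd_antisymm hdN all))
  have h5N : ¬ 5 ∣ Nat.card N := fun h =>
    h11N ((show 11 ∣ 22176 by norm_num).trans (hdvd (m := 88704) (by norm_num) (by norm_num) n5 h))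
  have h7N : ¬ 7 ∣ Nat.card N := fun h =>
    h11N ((show 11 ∣ 21120 by norm_num).trans (hdvd (m := 63360) (by norm_num) (by norm_num) n7 h))
  obtain ⟨x, hx⟩ := exists_prime_orderOf_dvd_card' (G := G) 11 (by rw [hcard]; norm_num)
  have hfixed : ∀ {p : ℕ} [Fact p.Prime] {u : G}, orderOf u = p →
      Nat.card (centralizer ({u} : Set G)) = p → ¬ p ∣ Nat.card N → p ∣ Nat.card N - 1 := by
    intro p _ u hu hC hp
    have h := ncard_modEq hu (N : Set G) (fun m hm => hN.conj_mem m hm u)
    have hfix : {m ∈ (N : Set G) | Commute u m} = {1} := by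
      ext m
      refine ⟨fun hm => ?_, fun e => ?_⟩
      · have h1 := orderOf_dvd_of_centralizer hC hm.2.symm.eq
        rcases (Fact.out : p.Prime).eq_one_or_self_of_dvd _ h1 with e | e
        · exact orderOf_eq_one_iff.mp e
        · exact absurd (e ▸ Subgroup.orderOf_dvd_natCard _ hm.1) hp
      · rw [Set.mem_singleton_iff.mp e]; exact ⟨one_mem N, Commute.one_right u⟩
    rw [hfix, Set.ncard_singleton, ← Nat.card_coe_set_eq] at h
    exact h
  have e5 := hfixed hz (hC5 z hz) h5N
  have e11 := hfixed hx (hC11 x hx) h11N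
  have e55 : 55 ∣ Nat.card N - 1 := Nat.Coprime.mul_dvd_of_dvd_of_dvd (m := 5) (n := 11) (by norm_num) e5 e11
  have hd1152 : Nat.card N ∣ 1152 := by
    have c5 := ((show Nat.Prime 5 by norm_num).coprime_iff_not_dvd.mpr h5N).symm
    have c7 := ((show Nat.Prime 7 by norm_num).coprime_iff_not_dvd.mpr h7N).symm
    have c11 := ((show Nat.Prime 11 by norm_num).coprime_iff_not_dvd.mpr h11N).symm
    exact ((c5.mul_right c7).mul_right c11).dvd_of_dvd_mul_right (show Nat.card N ∣ 1152 * 385 by simpa using hdN)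
  have hN1 : Nat.card N ≠ 1 := fun e => hne.1 (Subgroup.card_eq_one.mp e)
  have hpos := Nat.card_pos (α := N)
  have hdiv : ∀ n ∈ Nat.divisors 1152, (n - 1) % 55 = 0 → n = 1 := by decide +kernel
  exact hN1 (hdiv _ (Nat.mem_divisors.mpr ⟨hd1152, by norm_num⟩) (Nat.mod_eq_zero_of_dvd e55))

end Cfsg.Agent.OrderM22
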